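import Cfsg.Agent.Lib.Fusion.RankThree.Bridge
import Cfsg.Agent.Lib.Fusion.AbelianIndexP

/-!
An essential subgroup which is normal in a group of sectional rank at most three has index `p`.
-/

set_option autoImplicit false
set_option maxHeartbeats 800000

namespace CfsgLib.RankThreePair

open Cfsg Cfsg.FusionSystem CfsgLib.Fusion

variable {p : ℕ} [hp : Fact p.Prime]

/-- A faithful `p`-group on an elementary abelian group of order at most `p²` has order at most `p`. -/
theorem card_le_of_rank_two {X V : Type*} [Group X] [CommGroup V] [Finite V] (hV : ∀ v : V, v ^ p = 1)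
    {r : ℕ} (hr : r ≤ 2) (hc : Nat.card V = p ^ r) (ρ : X →* MulAut V) (hρ : Function.Injective ρ) {T : Subgroup X}
    (hT : IsPGroup p T) : Nat.card T ≤ p := by
  have hp' : p.Prime := hp.out
  by_cases hr2 : r = 2
  swap
  · have hle : ∀ t : T, t = 1 := fun t => by
      refine Subtype.ext (hρ (MulEquiv.ext fun v => ?_))
      rw [Subgroup.coe_one, map_one, MulAut.one_apply]
      rcases (show r = 0 ∨ r = 1 by omega) with rfl | rfl
      · have : Subsingleton V := (Nat.card_eq_one_iff_unique.mp (by rw [hc, pow_zero])).1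
        exact Subsingleton.elim _ _
      · obtain ⟨k, hk⟩ := hT t
        exact CfsgLib.FusionRankThree.fix_line (g := (t : X)) (congrArg Subtype.val hk) (Z := ⊤)
          (by rw [Subgroup.card_top, hc, pow_one]) (fun _ _ => Subgroup.mem_top _) v (Subgroup.mem_top v)
    have : Subsingleton T := ⟨fun a b => (hle a).trans (hle b).symm⟩
    rw [Nat.card_unique]; exact hp'.pos
  subst hr2
  have hfin : Finite (MulAut V) := Finite.of_injective (fun f : MulAut V => (f : V → V)) DFunLike.coe_injective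
  have : Finite X := Finite.of_injective ρ hρ
  have hne : (⊤ : Subgroup V) ≠ ⊥ := fun h => by
    have := congrArg (fun K : Subgroup V => Nat.card K) h
    simp only [Subgroup.card_top, Subgroup.card_bot, hc] at this
    exact absurd this (Nat.one_lt_pow (by norm_num) hp'.one_lt).ne'
  obtain ⟨z, -, hz1, hz⟩ := CfsgLib.FusionRankThree.exists_fixed hV ρ hT hne fun _ _ x _ => Subgroup.mem_top _
  set Z := Subgroup.zpowers z with hZdef
  have hZc : Nat.card Z = p := by rw [hZdef, Nat.card_zpowers, orderOf_eq_prime (hV z) hz1]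
  have hZfix : ∀ t ∈ T, ∀ x ∈ Z, ρ t x = x := by
    rintro t ht _ ⟨i, rfl⟩
    show ρ t (z ^ i) = z ^ i
    rw [map_zpow, hz t ht]
  have hdisp : ∀ t ∈ T, ∀ x, x⁻¹ * ρ t x ∈ Z := fun t ht x => by
    obtain ⟨k, hk⟩ := hT ⟨t, ht⟩
    exact CfsgLib.FusionFlag.stabilizes_step (p := p) (K := Z) le_top
      (by rw [Subgroup.card_top, hZc, hc]; ring) (u := ρ t) (k := k)
      (by rw [← map_pow, show t ^ p ^ k = 1 from congrArg Subtype.val hk, map_one])
      (fun _ _ => Subgroup.mem_top _) (fun y hy => by rwa [hZfix t ht y hy]) x (Subgroup.mem_top _)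
  obtain ⟨x₀, -, hx₀⟩ : ∃ x ∈ (⊤ : Subgroup V), x ∉ Z := SetLike.exists_of_lt (lt_top_iff_ne_top.mpr fun e => by
    rw [e, Subgroup.card_top, hc] at hZc
    exact absurd (Nat.pow_right_injective hp'.two_le (hZc.trans (pow_one p).symm)) (by norm_num))
  let f : T → Z := fun t => ⟨x₀⁻¹ * ρ t x₀, hdisp t t.2 x₀⟩
  have hinj : Function.Injective f := by
    intro s t hst
    refine Subtype.ext (hρ (MulEquiv.ext fun v => ?_))
    have hE : MonoidHom.eqLocus (ρ (s : X)).toMonoidHom (ρ (t : X)).toMonoidHom = ⊤ := by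
      have hle : Z ≤ MonoidHom.eqLocus (ρ (s : X)).toMonoidHom (ρ (t : X)).toMonoidHom := fun x hx =>
        (hZfix s s.2 x hx).trans (hZfix t t.2 x hx).symm
      have hx : x₀ ∈ MonoidHom.eqLocus (ρ (s : X)).toMonoidHom (ρ (t : X)).toMonoidHom :=
        mul_left_cancel (congrArg Subtype.val hst)
      refine Subgroup.eq_top_of_le_card _ ?_
      have hlt := lt_of_le_of_ne hle fun e => hx₀ (e.symm ▸ hx)
      have hPV : IsPGroup p V := fun v => ⟨1, by rw [pow_one]; exact hV v⟩
      obtain ⟨j, hj⟩ := IsPGroup.iff_card.mp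
        (hPV.to_subgroup (MonoidHom.eqLocus (ρ (s : X)).toMonoidHom (ρ (t : X)).toMonoidHom))
      have h1 : Nat.card Z < Nat.card (MonoidHom.eqLocus (ρ (s : X)).toMonoidHom (ρ (t : X)).toMonoidHom) :=
        lt_of_le_of_ne (Subgroup.card_le_of_le hle) fun e => hlt.ne (Subgroup.eq_of_le_of_card_ge hle e.ge)
      rw [hZc, hj] at h1
      rw [hc, hj]
      refine Nat.pow_le_pow_right hp'.pos ?_
      exact (Nat.pow_lt_pow_iff_right hp'.one_lt).mp ((pow_one p).le.trans_lt h1)
    exact hE.ge (Subgroup.mem_top v)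
  exact (Nat.card_le_card_of_injective f hinj).trans hZc.le

variable {Ω : Type*} [Group Ω] {S : Subgroup Ω} [Finite S] {F : FusionSystem S}

/-- An essential subgroup normal in `S` has index `p`. -/
theorem index_of_essential (hS : IsPGroup p S) (hsr : SectionalPRankLE p 3 S) (hF : F.IsSaturated p)
    {E : Subgroup Ω} (hE : F.IsEssential p E) (hN : S ≤ Subgroup.normalizer (E : Set Ω)) :
    (E.subgroupOf S).index = p := by
  classical
  have hp' : p.Prime := hp.out
  have hlt := CfsgLib.Fusion.AbelianIndexP.lt_of_essential hS hF hE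
  have hES : E ≤ S := hE.1.1
  have hEfin : Finite ↥E := finite_of_le hES
  have hfinA : Finite (MulAut E) := finite_mulAut hES
  have hPE : IsPGroup p E := hS.to_le hES
  have hrad := radical_of_essential hE hS
  have hC : centralizerIn S E ≤ E := IsCentric.centralizerIn_le' hE.1
  obtain ⟨-, -, hInn, H₀, hH⟩ := hE
  set A := F.autGroup E with hAdef
  set I := (Inn E).subgroupOf A with hIdef
  let π := QuotientGroup.mk' (frattini E)
  let _ : CommGroup (E ⧸ frattini E) := CfsgLib.FusionRankThree.frattiniCommGroup hPE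
  have hV : ∀ v : E ⧸ frattini E, v ^ p = 1 := fun v => by
    obtain ⟨x, rfl⟩ := QuotientGroup.mk'_surjective _ v
    rw [← map_pow]
    exact (QuotientGroup.eq_one_iff _).2 (CfsgLib.PGroup.pow_mem_frattini hPE x)
  have hrE : SectionalPRankLE p 3 E :=
    CfsgLib.FusionRankThree.rank_of_injective (Subgroup.inclusion_injective hES) hsr
  obtain ⟨r, hr⟩ := IsPGroup.iff_card.mp (hPE.to_quotient (frattini E))
  have hr3 : r ≤ 3 := by
    have h := CfsgLib.TwoGroups85.pRankLE_of_section hrE ⊤
      (π.comp (⊤ : Subgroup E).subtype)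
      (fun q => by
        obtain ⟨x, rfl⟩ := QuotientGroup.mk'_surjective _ q
        exact ⟨⟨x, Subgroup.mem_top x⟩, rfl⟩) ⊤
      ⟨⟨fun a b => Subtype.ext (mul_comm (a : E ⧸ frattini E) b)⟩⟩ fun a _ => hV _
    rw [Subgroup.card_top, hr] at h
    exact (Nat.pow_le_pow_iff_right hp'.one_lt).mp h
  have hidxr : (frattini E).index = p ^ r := by rw [Subgroup.index_eq_card, hr]
  let PP : MulAut E →* MulAut (E ⧸ frattini E) := CfsgLib.FusionRankThree.autQuot E
  have hPI : ∀ a ∈ Inn E, PP a = 1 := fun a ha => MulEquiv.ext fun v => by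
    obtain ⟨z, hz⟩ := mem_inn.mp ha
    obtain ⟨x, rfl⟩ := QuotientGroup.mk'_surjective (frattini E) v
    rw [CfsgLib.FusionRankThree.autQuot_mk, hz, MulAut.one_apply]
    simp only [map_mul, map_inv]
    rw [mul_comm (π z), mul_inv_cancel_right]
  let ρ : A ⧸ I →* MulAut (E ⧸ frattini E) :=
    QuotientGroup.lift I (PP.comp A.subtype) fun a ha => hPI _ ha
  have hker : PP.ker ⊓ A ≤ Inn E := by
    refine le_inn_of_radical hrad inf_le_right ?_ ?_
    · obtain ⟨n, hn⟩ := IsPGroup.iff_card.mp hPE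
      refine IsPGroup.of_card_dvd_pow (n := r * (n - r)) ?_
      refine CfsgLib.AutFrattini82.card_aut_trivial_dvd hn hidxr _ fun a ha x => ?_
      rw [← QuotientGroup.eq_one_iff]
      show π (a x * x⁻¹) = 1
      rw [map_mul, map_inv, mul_inv_eq_one]
      exact DFunLike.congr_fun (show PP a = 1 from ha.1) (π x)
    · rintro a ⟨ha, haA⟩ b hb
      exact ⟨(MonoidHom.normal_ker PP).conj_mem a ha b, A.mul_mem (A.mul_mem hb haA) (A.inv_mem hb)⟩
  have hρinj : Function.Injective ρ := by
    rw [injective_iff_map_eq_one]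
    intro q hq
    obtain ⟨a, rfl⟩ := QuotientGroup.mk'_surjective I q
    exact (QuotientGroup.eq_one_iff a).mpr (hker ⟨hq, a.2⟩)
  -- the conjugations by `S`
  let cS : S →* MulAut E := E.normalizerMonoidHom.comp (Subgroup.inclusion hN)
  have hcS : ∀ (k : S) (x : E), ((cS k x : E) : Ω) = k * x * (k : Ω)⁻¹ := fun _ _ => rfl
  have hcA : ∀ k : S, cS k ∈ A := fun k =>
    autInducedBy_le_autGroup hES (mem_autInducedBy.mpr ⟨k, k.2, hcS k⟩)
  let φ : S →* A ⧸ I := (QuotientGroup.mk' I).comp (cS.codRestrict A hcA)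
  have hk : φ.ker = E.subgroupOf S := Subgroup.ext fun k =>
    (QuotientGroup.eq_one_iff _).trans (mem_inn_iff_mem hES hC k.2 (hcS k))
  have h1 : (E.subgroupOf S).index = Nat.card φ.range := by rw [← hk, Subgroup.index_ker]
  have hφr : IsPGroup p φ.range := hS.of_surjective φ.rangeRestrict φ.rangeRestrict_surjective
  obtain ⟨m, hm⟩ := IsPGroup.iff_card.mp hφr
  rcases m with _ | _ | m
  · rw [pow_zero] at hm
    refine absurd ?_ hlt.not_ge
    intro x hx
    exact (Subgroup.mem_subgroupOf (h := ⟨x, hx⟩)).mp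
      ((Subgroup.index_eq_one.mp (h1.trans hm)).ge (Subgroup.mem_top _))
  · rw [h1, hm, zero_add, pow_one]
  exfalso
  have hd : p ^ 2 ∣ Nat.card φ.range := by rw [hm]; exact pow_dvd_pow p (by omega)
  obtain ⟨T, hT⟩ := Sylow.exists_subgroup_card_pow_prime p hd
  have hTc : Nat.card (T.map φ.range.subtype) = p ^ 2 := by
    rw [Subgroup.card_map_of_injective φ.range.subtype_injective, hT]
  rcases (show r = 3 ∨ r ≤ 2 by omega) with rfl | hr2
  · exact CfsgLib.FusionRankThree.not_sq_dvd hV hr ρ hρinj hH _ hTc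
  · have h := card_le_of_rank_two hV hr2 hr ρ hρinj (IsPGroup.of_card hTc)
    rw [hTc, pow_two] at h
    exact absurd h (not_le.mpr (lt_mul_of_one_lt_left hp'.pos hp'.one_lt))

end CfsgLib.RankThreePair
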