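import Cfsg.Agent.Lib.Fusion.RankThreePair.Setting
import Cfsg.Agent.Lib.Fusion.RankThree.Bridge

/-!
The action of a vertex and of the group on the Frattini quotient of an invariant subgroup.
-/

set_option autoImplicit false

namespace CfsgLib.RankThreePair

open Cfsg CfsgLib.FusionRankThree
open scoped commutatorElement

variable {P : Type*} [Group P] [Finite P] {p : ℕ} [hp : Fact p.Prime]

/-- A member of `L` restricted to an invariant subgroup, as a homomorphism. -/
noncomputable def resHom {E : Subgroup P} {L : Subgroup (MulAut E)} {T : Subgroup P} (hTE : T ≤ E) (hT : Inv L T) :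
    L →* MulAut T where
  toFun := resEquiv hTE hT
  map_one' := MulEquiv.ext fun _ => Subtype.ext (ap_one _)
  map_mul' a b := MulEquiv.ext fun _ => Subtype.ext (ap_mul _ _ _)

/-- `L` on the Frattini quotient of an invariant subgroup. -/
noncomputable def frAct {E : Subgroup P} {L : Subgroup (MulAut E)} {T : Subgroup P} (hTE : T ≤ E) (hT : Inv L T) :
    L →* MulAut (T ⧸ frattini T) := (autQuot T).comp (resHom hTE hT)

/-- `P` on the Frattini quotient of a normal subgroup. -/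
noncomputable def frConj (T : Subgroup P) [T.Normal] : P →* MulAut (T ⧸ frattini T) :=
  (autQuot T).comp MulAut.conjNormal

omit [Finite P] hp in
theorem frAct_conj {E : Subgroup P} [E.Normal] {L : Subgroup (MulAut E)} {T : Subgroup P} [T.Normal] (hTE : T ≤ E)
    (hT : Inv L T) (g : P) (hg : MulAut.conjNormal g ∈ L) : frAct hTE hT ⟨_, hg⟩ = frConj T g := by
  show autQuot T (resHom hTE hT ⟨_, hg⟩) = autQuot T (MulAut.conjNormal g)
  congr 1
  exact MulEquiv.ext fun x => Subtype.ext (by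
    rw [show ((resHom hTE hT ⟨_, hg⟩ x : T) : P) = ap (MulAut.conjNormal g : MulAut E) (x : P) from rfl,
      ap_conj g (hTE x.2), MulAut.conjNormal_apply])

theorem frConj_eq_one_of_mem (hP : IsPGroup p P) {T : Subgroup P} [T.Normal] {t : P} (ht : t ∈ T) :
    frConj T t = 1 := by
  let _ := frattiniCommGroup (hP.to_subgroup T)
  refine MulEquiv.ext fun q => ?_
  obtain ⟨x, rfl⟩ := QuotientGroup.mk'_surjective _ q
  show autQuot T (MulAut.conjNormal t) (QuotientGroup.mk' (frattini T) x) = QuotientGroup.mk' (frattini T) x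
  rw [autQuot_mk, show MulAut.conjNormal t x = (⟨t, ht⟩ : T) * x * (⟨t, ht⟩ : T)⁻¹ from
    Subtype.ext (MulAut.conjNormal_apply _ _), map_mul, map_mul, map_inv,
    (show ∀ a b : T ⧸ frattini T, a * b = b * a from mul_comm) (QuotientGroup.mk' _ ⟨t, ht⟩), mul_inv_cancel_right]

theorem frAct_card (hP : IsPGroup p P) (hr : SectionalPRankLE p 3 P) (T : Subgroup P) :
    (∀ q : T ⧸ frattini T, q ^ p = 1) ∧ (∀ q r : T ⧸ frattini T, q * r = r * q) ∧
      Nat.card (T ⧸ frattini T) ≤ p ^ 3 := by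
  let _ := frattiniCommGroup (hP.to_subgroup T)
  have he : ∀ q : T ⧸ frattini T, q ^ p = 1 := fun q => by
    obtain ⟨x, rfl⟩ := QuotientGroup.mk'_surjective _ q
    rw [← map_pow]
    exact (QuotientGroup.eq_one_iff _).2 (CfsgLib.PGroup.pow_mem_frattini (hP.to_subgroup T) x)
  refine ⟨he, mul_comm, ?_⟩
  have h := CfsgLib.TwoGroups85.pRankLE_of_section hr T (QuotientGroup.mk' (frattini T))
    (QuotientGroup.mk'_surjective _) ⊤ ⟨⟨fun a b => Subtype.ext (mul_comm _ _)⟩⟩ fun q _ => he q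
  rwa [Subgroup.card_top] at h

/-- If `L` has `p`-power action modulo `T` and on the Frattini quotient of `T`, it is a `p`-group. -/
theorem Vertex.false_of_pAction {E : Subgroup P} [E.Normal] {L : Subgroup (MulAut E)} (h : Vertex p E L)
    (hP : IsPGroup p P) {T : Subgroup P} [T.Normal] (hTE : T ≤ E) (hT : Inv L T)
    (hquot : ∀ a ∈ L, ∃ k, ∀ x ∈ E, x⁻¹ * ap (a ^ p ^ k) x ∈ T)
    (hM : ∀ a : L, ∃ k, frAct hTE hT a ^ p ^ k = 1) : False := by
  refine h.np fun a => ?_
  obtain ⟨k₁, hk₁⟩ := hM a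
  obtain ⟨k₂, hk₂⟩ := hquot (a : MulAut E) a.2
  have hPT := hP.to_subgroup T
  obtain ⟨n, hn⟩ := IsPGroup.iff_card.mp hPT
  obtain ⟨r, hr⟩ : ∃ r, (frattini T).index = p ^ r := by
    obtain ⟨r, -, hr⟩ := (Nat.dvd_prime_pow hp.out).mp (hn ▸ (frattini T).index_dvd_card)
    exact ⟨r, hr⟩
  let K : Subgroup (MulAut T) := (autQuot T).ker
  have hK : IsPGroup p K := IsPGroup.of_card_dvd_pow (n := r * (n - r))
    (CfsgLib.AutFrattini82.card_aut_trivial_dvd hn hr K fun α hα x => by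
      have h1 := DFunLike.congr_fun (show autQuot T α = 1 from hα) (QuotientGroup.mk' _ x)
      rw [autQuot_mk, MulAut.one_apply] at h1
      rw [← QuotientGroup.eq_one_iff]
      show QuotientGroup.mk' (frattini T) (α x * x⁻¹) = 1
      rw [map_mul, h1, map_inv, mul_inv_cancel])
  obtain ⟨k₃, hk₃⟩ := hK ⟨resHom hTE hT (a ^ p ^ k₁), by
    show autQuot T _ = 1
    rw [show autQuot T (resHom hTE hT (a ^ p ^ k₁)) = frAct hTE hT (a ^ p ^ k₁) from rfl, map_pow, hk₁]⟩
  have hres : resHom hTE hT (a ^ (p ^ k₁ * p ^ k₃)) = 1 := by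
    rw [pow_mul, map_pow]; exact congrArg Subtype.val hk₃
  set N := p ^ k₁ * p ^ k₃ * p ^ k₂
  have hfixT : ∀ x ∈ T.subgroupOf E, ((a : MulAut E) ^ N) x = x := by
    intro x hx
    have h1 : resHom hTE hT (a ^ N) = 1 := by
      rw [show N = p ^ k₁ * p ^ k₃ * p ^ k₂ from rfl, pow_mul a _ (p ^ k₂), map_pow, hres, one_pow]
    have h2 : ap ((a ^ N : L) : MulAut E) (x : P) = (x : P) :=
      congrArg Subtype.val (DFunLike.congr_fun h1 (⟨(x : P), hx⟩ : T))
    rw [SubgroupClass.coe_pow, ap_coe] at h2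
    exact Subtype.ext h2
  have hquot' : ∀ x : E, x⁻¹ * ((a : MulAut E) ^ N) x ∈ T.subgroupOf E := by
    intro x
    set b := (a : MulAut E) ^ p ^ k₂
    have hb : b ∈ triv E T hTE le_rfl := ⟨hT b (L.pow_mem a.2 _), hk₂⟩
    have := pow_mem hb (p ^ k₁ * p ^ k₃)
    rw [← pow_mul, mul_comm (p ^ k₂)] at this
    have h2 := this.2 x x.2
    rw [ap_coe] at h2
    exact h2
  let C : ℕ → Subgroup E := fun i => if i = 0 then T.subgroupOf E else ⊤
  obtain ⟨k, hk⟩ := CfsgLib.Fusion.exists_pow_eq_one_of_stabilizes (hP.to_subgroup E) (n := 1) C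
    (fun i hi => by simp [C, show i = 0 by omega]) (by simp [C]) (α := (a : MulAut E) ^ N)
    ⟨0, fun x hx => by rw [pow_zero, pow_one]; exact hfixT x (by simpa [C] using hx)⟩
    (fun i hi x _ => by simp only [C, show i = 0 by omega, if_true]; exact hquot' x)
  refine ⟨k₁ + k₃ + k₂ + k, Subtype.ext ?_⟩
  rw [SubgroupClass.coe_pow, pow_add, pow_add, pow_add, pow_mul]
  exact hk

/-- An invariant series with steps of order `p` forces `p`-power action. -/
theorem Vertex.pAction_of_series {E : Subgroup P} [E.Normal] {L : Subgroup (MulAut E)} (h : Vertex p E L)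
    (hP : IsPGroup p P) {M : Type*} [CommGroup M] [Finite M] (hM : ∀ q : M, q ^ p = 1) (ρ : L →* MulAut M)
    {S B : Subgroup M} (hSB : S ≤ B) (hS : Nat.card S = p) (hB : Nat.card B = p * Nat.card S ∨ B = S)
    (hMB : Nat.card M = p * Nat.card B) (hSinv : ∀ a : L, ∀ q ∈ S, ρ a q ∈ S) (hBinv : ∀ a : L, ∀ q ∈ B, ρ a q ∈ B) :
    ∀ a, ∃ k, ρ a ^ p ^ k = 1 := by
  have hPM : IsPGroup p M := fun q => ⟨1, by rw [pow_one]; exact hM q⟩
  let Z : Submonoid (MulAut M) :=
    { carrier := {b | (∀ q ∈ S, b q = q) ∧ (∀ q ∈ B, q⁻¹ * b q ∈ S) ∧ ∀ q, q⁻¹ * b q ∈ B}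
      one_mem' := ⟨fun q _ => rfl, fun q _ => by rw [MulAut.one_apply, inv_mul_cancel]; exact one_mem S,
        fun q => by rw [MulAut.one_apply, inv_mul_cancel]; exact one_mem B⟩
      mul_mem' := fun {b c} hb hc => ⟨fun q hq => by rw [MulAut.mul_apply, hc.1 q hq, hb.1 q hq],
        fun q hq => by
          have hcq : c q ∈ B := by
            have := B.mul_mem hq (hSB (hc.2.1 q hq))
            rwa [mul_inv_cancel_left] at this
          have := S.mul_mem (hc.2.1 q hq) (hb.2.1 _ hcq)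
          rwa [mul_assoc, mul_inv_cancel_left] at this,
        fun q => by
          have := B.mul_mem (hc.2.2 q) (hb.2.2 (c q))
          rwa [mul_assoc, mul_inv_cancel_left] at this⟩ }
  have hZmem : ∀ b : MulAut M, b ∈ Z ↔ (∀ q ∈ S, b q = q) ∧ (∀ q ∈ B, q⁻¹ * b q ∈ S) ∧ ∀ q, q⁻¹ * b q ∈ B :=
    fun b => Iff.rfl
  let M' : Subgroup L :=
    { carrier := {a | ρ a ∈ Z}
      one_mem' := show ρ 1 ∈ Z by rw [map_one]; exact one_mem Z
      mul_mem' := fun {a b} ha hb => show ρ (a * b) ∈ Z by rw [map_mul]; exact mul_mem ha hb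
      inv_mem' := fun {a} ha => by
        have h1 : a⁻¹ ∈ Submonoid.powers a := by
          rw [mem_powers_iff_mem_zpowers]; exact inv_mem (Subgroup.mem_zpowers a)
        obtain ⟨n, hn⟩ := h1
        show ρ a⁻¹ ∈ Z
        rw [← hn, map_pow]
        exact pow_mem ha n }
  have hgen : M'.map L.subtype = L := by
    refine h.gen _ (Subgroup.map_subtype_le _) (fun g => ?_) ?_
    · refine ⟨⟨_, h.le g⟩, ?_, rfl⟩
      obtain ⟨k, hk⟩ := hP g
      have hu : ρ ⟨_, h.le g⟩ ^ p ^ k = 1 := by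
        rw [← map_pow, show (⟨MulAut.conjNormal g, h.le g⟩ : L) ^ p ^ k = 1 from Subtype.ext (by
          rw [SubgroupClass.coe_pow, ← map_pow, hk, map_one]; rfl), map_one]
      show ρ _ ∈ Z
      refine ⟨fun q hq => ?_, fun q hq => ?_, fun q => ?_⟩
      · have := CfsgLib.FusionFlag.stabilizes_step (K := ⊥) (L := S) bot_le
          (by rw [hS, Subgroup.card_bot, mul_one]) hu (hSinv _)
          (fun x hx => by rw [Subgroup.mem_bot] at hx ⊢; rw [hx, map_one]) q hq
        rw [Subgroup.mem_bot, inv_mul_eq_one] at this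
        exact this.symm
      · rcases hB with hB | hB
        · exact CfsgLib.FusionFlag.stabilizes_step hSB hB hu (hBinv _) (hSinv _) q hq
        · rw [hB] at hq
          exact mul_mem (inv_mem hq) (hSinv _ q hq)
      · exact CfsgLib.FusionFlag.stabilizes_step (L := ⊤) le_top (by rw [Subgroup.card_top, hMB]) hu
          (fun _ _ => Subgroup.mem_top _) (hBinv _) q (Subgroup.mem_top q)
    · rintro a ha _ ⟨b, hb, rfl⟩
      refine ⟨⟨a, ha⟩ * b * ⟨a, ha⟩⁻¹, ?_, rfl⟩
      obtain ⟨h1, h2, h3⟩ := (hZmem _).mp (show ρ b ∈ Z from hb)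
      show ρ _ ∈ Z
      rw [map_mul, map_mul, map_inv, hZmem]
      have hinvS : ∀ q ∈ S, (ρ ⟨a, ha⟩)⁻¹ q ∈ S := fun q hq => by
        rw [← map_inv]; exact hSinv _ q hq
      have hinvB : ∀ q ∈ B, (ρ ⟨a, ha⟩)⁻¹ q ∈ B := fun q hq => by
        rw [← map_inv]; exact hBinv _ q hq
      have key : ∀ q, q⁻¹ * (ρ ⟨a, ha⟩ * ρ b * (ρ ⟨a, ha⟩)⁻¹) q =
          ρ ⟨a, ha⟩ (((ρ ⟨a, ha⟩)⁻¹ q)⁻¹ * ρ b ((ρ ⟨a, ha⟩)⁻¹ q)) := fun q => by
        rw [map_mul, map_inv, MulAut.apply_inv_self, MulAut.mul_apply, MulAut.mul_apply]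
      refine ⟨fun q hq => ?_, fun q hq => ?_, fun q => ?_⟩
      · rw [MulAut.mul_apply, MulAut.mul_apply, h1 _ (hinvS q hq), MulAut.apply_inv_self]
      · rw [key]; exact hSinv _ _ (h2 _ (hinvB q hq))
      · rw [key]; exact hBinv _ _ (h3 _)
  intro a
  obtain ⟨b, hb, hba⟩ := hgen.ge a.2
  obtain rfl : b = a := Subtype.ext hba
  obtain ⟨h1, h2, h3⟩ := (hZmem _).mp (show ρ b ∈ Z from hb)
  let C : ℕ → Subgroup M := fun i => if i = 0 then S else if i = 1 then B else ⊤
  exact CfsgLib.Fusion.exists_pow_eq_one_of_stabilizes hPM (n := 2) C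
    (fun i hi => by rcases (show i = 0 ∨ i = 1 by omega) with rfl | rfl <;> simp [C, hSB]) (by simp [C])
    ⟨0, fun q hq => by rw [pow_zero, pow_one]; exact h1 q (by simpa [C] using hq)⟩
    (fun i hi q hq => by
      rcases (show i = 0 ∨ i = 1 by omega) with rfl | rfl
      · simpa [C] using h2 q (by simpa [C] using hq)
      · simpa [C] using h3 q)

/-- A nontrivial automorphism of a small elementary group commuting with `L` forces `p`-power action. -/
theorem Vertex.pAction_of_commute {E : Subgroup P} [E.Normal] {L : Subgroup (MulAut E)} (h : Vertex p E L)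
    (hP : IsPGroup p P) {M : Type*} [CommGroup M] [Finite M] (hM : ∀ q : M, q ^ p = 1) (hcard : Nat.card M ≤ p ^ 3)
    (ρ : L →* MulAut M) {y : MulAut M} {k₀ : ℕ} (hy : y ^ p ^ k₀ = 1) (hy1 : y ≠ 1) (hcomm : ∀ a, ρ a * y = y * ρ a) :
    ∀ a, ∃ k, ρ a ^ p ^ k = 1 := by
  have hp' : p.Prime := hp.out
  have hPM : IsPGroup p M := fun q => ⟨1, by rw [pow_one]; exact hM q⟩
  set K := (disp y).ker
  set I := (disp y).range
  have hKinv : ∀ a : L, ∀ q ∈ K, ρ a q ∈ K := fun a q hq => by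
    rw [MonoidHom.mem_ker, disp_eq_one] at hq ⊢
    rw [← MulAut.mul_apply, ← hcomm, MulAut.mul_apply, hq]
  have hIinv : ∀ a : L, ∀ q ∈ I, ρ a q ∈ I := by
    rintro a _ ⟨q, rfl⟩
    refine ⟨ρ a q, ?_⟩
    rw [disp_apply, disp_apply, map_mul, map_inv, ← MulAut.mul_apply, ← hcomm, MulAut.mul_apply]
  have hzp : IsPGroup p (Subgroup.zpowers y) :=
    IsPGroup.of_card_dvd_pow (n := k₀) (by rw [Nat.card_zpowers]; exact orderOf_dvd_of_pow_eq_one hy)
  -- a fixed point in the image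
  have hIne : I ≠ ⊥ := fun e => hy1 (MulEquiv.ext fun q => disp_eq_one.mp
    (Subgroup.mem_bot.mp (e.le ⟨q, rfl⟩)))
  have hIy : ∀ g ∈ Subgroup.zpowers y, ∀ q ∈ I, g q ∈ I := by
    have hfinM : Finite (MulAut M) := Finite.of_injective (fun f : MulAut M => (f : M → M)) DFunLike.coe_injective
    let St : Submonoid (MulAut M) :=
      { carrier := {g | ∀ q ∈ I, g q ∈ I}
        one_mem' := fun q hq => hq
        mul_mem' := fun {g g'} hg hg' q hq => hg _ (hg' q hq) }
    have hyS : y ∈ St := by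
      rintro _ ⟨q, rfl⟩
      exact ⟨y q, by rw [disp_apply, disp_apply, map_mul, map_inv]⟩
    intro g hg
    obtain ⟨n, rfl⟩ := mem_powers_iff_mem_zpowers.mpr hg
    exact pow_mem hyS n
  have hKIne : K ⊓ I ≠ ⊥ := by
    let _ : MulAction (Subgroup.zpowers y) I :=
      { smul := fun g q => ⟨(g : MulAut M) q, hIy g g.2 q q.2⟩
        one_smul := fun q => rfl
        mul_smul := fun g g' q => rfl }
    obtain ⟨n, hn⟩ := IsPGroup.iff_card.mp (hPM.to_subgroup I)
    have hn0 : n ≠ 0 := fun e => hIne (Subgroup.card_eq_one.mp (by rw [hn, e, pow_zero]))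
    obtain ⟨q, hq, hq1⟩ := hzp.exists_fixed_point_of_prime_dvd_card_of_fixed_point I
      (hn ▸ dvd_pow_self p hn0) (a := 1) fun g => Subtype.ext (map_one (g : MulAut M))
    intro e
    refine hq1.symm (Subtype.ext (Subgroup.mem_bot.mp (e.le ⟨?_, q.2⟩)))
    show (q : M) ∈ K
    rw [MonoidHom.mem_ker, disp_eq_one]
    exact congrArg Subtype.val (hq ⟨y, Subgroup.mem_zpowers y⟩)
  have hmul : Nat.card K * Nat.card I = Nat.card M := by
    rw [← Subgroup.index_ker, Subgroup.card_mul_index]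
  have hge : ∀ {A : Subgroup M}, A ≠ ⊥ → p ≤ Nat.card A := fun {A} hA => by
    obtain ⟨n, hn⟩ := IsPGroup.iff_card.mp (hPM.to_subgroup A)
    rw [hn]
    exact Nat.le_self_pow (fun e => hA (Subgroup.card_eq_one.mp (by rw [hn, e, pow_zero]))) p
  -- a chain `S ≤ B`
  obtain ⟨S, B, hSB, hS, hB, hMB, hSinv, hBinv⟩ : ∃ S B : Subgroup M, S ≤ B ∧ Nat.card S = p ∧
      (Nat.card B = p * Nat.card S ∨ B = S) ∧ Nat.card M = p * Nat.card B ∧
      (∀ a : L, ∀ q ∈ S, ρ a q ∈ S) ∧ ∀ a : L, ∀ q ∈ B, ρ a q ∈ B := by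
    obtain ⟨i, hi⟩ := IsPGroup.iff_card.mp (hPM.to_subgroup K)
    obtain ⟨j, hj⟩ := IsPGroup.iff_card.mp (hPM.to_subgroup I)
    obtain ⟨l, hl⟩ := IsPGroup.iff_card.mp (hPM.to_subgroup (K ⊓ I : Subgroup M))
    have hl1 : 1 ≤ l := by
      by_contra hh
      exact hKIne (Subgroup.card_eq_one.mp (by rw [hl, show l = 0 by omega, pow_zero]))
    have hli := Subgroup.card_le_of_le (inf_le_left : K ⊓ I ≤ K)
    have hlj := Subgroup.card_le_of_le (inf_le_right : K ⊓ I ≤ I)
    rw [hl, hi] at hli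
    rw [hl, hj] at hlj
    replace hli := (Nat.pow_le_pow_iff_right hp'.one_lt).mp hli
    replace hlj := (Nat.pow_le_pow_iff_right hp'.one_lt).mp hlj
    have hij : i + j ≤ 3 := by
      rw [← hmul, hi, hj, ← pow_add] at hcard
      exact (Nat.pow_le_pow_iff_right hp'.one_lt).mp hcard
    rcases (show i = 1 ∨ j = 1 by omega) with rfl | rfl
    · obtain rfl : l = 1 := by omega
      have hKI : K ≤ I := inf_eq_left.mp (Subgroup.eq_of_le_of_card_ge inf_le_left (hi.le.trans hl.ge))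
      refine ⟨K, I, hKI, by rw [hi, pow_one], ?_, by rw [← hmul, hi, pow_one], hKinv, hIinv⟩
      rcases (show j = 1 ∨ j = 2 by omega) with rfl | rfl
      · exact Or.inr (Subgroup.eq_of_le_of_card_ge hKI (hj.le.trans hi.ge)).symm
      · exact Or.inl (by rw [hj, hi]; ring)
    · obtain rfl : l = 1 := by omega
      have hIK : I ≤ K := inf_eq_right.mp (Subgroup.eq_of_le_of_card_ge inf_le_right (hj.le.trans hl.ge))
      refine ⟨I, K, hIK, by rw [hj, pow_one], ?_, by rw [← hmul, hj, pow_one, mul_comm], hIinv, hKinv⟩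
      rcases (show i = 1 ∨ i = 2 by omega) with rfl | rfl
      · exact Or.inr (Subgroup.eq_of_le_of_card_ge hIK (hi.le.trans hj.ge)).symm
      · exact Or.inl (by rw [hi, hj]; ring)
  exact h.pAction_of_series hP hM ρ hSB hS hB hMB hSinv hBinv

end CfsgLib.RankThreePair
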