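import Cfsg.Prelude.Def_CaseTheorems
import Cfsg.Agent.Lib.Fusion.Stabilizer
import Cfsg.Agent.Lib.H82.AutFrattini
import Cfsg.Agent.Lib.PGroup.Frattini
import Cfsg.Agent.Lib.PGroup.Class2
import Cfsg.Agent.Lib.PGroup.SoftSubgroup
import Cfsg.Agent.Lib.TwoGroups85.RankFourPairs

/-!
Two normal subgroups of index `p` of a finite `p`-group, each with a group of automorphisms.

* `ap a x` : an automorphism of `E` as a function on the whole group.
* `Vertex p E L` : `L` is generated by the conjugates of the conjugations by `P`, these form a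
  Sylow subgroup, and `L` is not a `p`-group.
* `Pair` : two vertices with the extension property for the normalisers of the Sylow subgroups.
-/

set_option autoImplicit false

namespace CfsgLib.RankThreePair

open Cfsg
open scoped commutatorElement

variable {P : Type*} [Group P] {E : Subgroup P}

/-! ### Automorphisms of a subgroup as functions on the group -/

open Classical in
/-- An automorphism of `E`, extended to a function on `P`. -/
noncomputable def ap (a : MulAut E) (x : P) : P := if h : x ∈ E then (a ⟨x, h⟩ : P) else x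

theorem ap_of_mem (a : MulAut E) {x : P} (hx : x ∈ E) : ap a x = (a ⟨x, hx⟩ : P) := dif_pos hx

theorem ap_coe (a : MulAut E) (x : E) : ap a (x : P) = (a x : P) := ap_of_mem a x.2

theorem ap_mem (a : MulAut E) {x : P} (hx : x ∈ E) : ap a x ∈ E := by
  rw [ap_of_mem a hx]; exact SetLike.coe_mem _

theorem ap_mul (a b : MulAut E) (x : P) : ap (a * b) x = ap a (ap b x) := by
  by_cases hx : x ∈ E
  · rw [ap_of_mem _ hx, ap_of_mem b hx, ap_coe]; rfl
  · simp [ap, hx]

theorem ap_one (x : P) : ap (1 : MulAut E) x = x := by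
  by_cases hx : x ∈ E
  · rw [ap_of_mem _ hx]; rfl
  · simp [ap, hx]

theorem ap_inv_self (a : MulAut E) (x : P) : ap a⁻¹ (ap a x) = x := by
  rw [← ap_mul, inv_mul_cancel, ap_one]

theorem ap_self_inv (a : MulAut E) (x : P) : ap a (ap a⁻¹ x) = x := by
  rw [← ap_mul, mul_inv_cancel, ap_one]

theorem ap_injective (a : MulAut E) : Function.Injective (ap a) :=
  Function.LeftInverse.injective (ap_inv_self a)

theorem ap_map_mul (a : MulAut E) {x y : P} (hx : x ∈ E) (hy : y ∈ E) : ap a (x * y) = ap a x * ap a y := by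
  rw [ap_of_mem a hx, ap_of_mem a hy, ap_of_mem a (E.mul_mem hx hy), ← Subgroup.coe_mul, ← map_mul]; rfl

theorem ap_map_one (a : MulAut E) : ap a (1 : P) = 1 := by
  rw [ap_of_mem a E.one_mem, show (⟨1, E.one_mem⟩ : E) = 1 from rfl, map_one]; rfl

theorem ap_map_inv (a : MulAut E) {x : P} (hx : x ∈ E) : ap a x⁻¹ = (ap a x)⁻¹ := by
  rw [ap_of_mem a hx, ap_of_mem a (E.inv_mem hx), ← Subgroup.coe_inv, ← map_inv]; rfl

theorem ap_map_zpow (a : MulAut E) {x : P} (hx : x ∈ E) (n : ℤ) : ap a (x ^ n) = ap a x ^ n := by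
  rw [ap_of_mem a hx, ap_of_mem a (E.zpow_mem hx n), ← SubgroupClass.coe_zpow, ← map_zpow]; rfl

theorem ap_map_pow (a : MulAut E) {x : P} (hx : x ∈ E) (n : ℕ) : ap a (x ^ n) = ap a x ^ n := by
  rw [← zpow_natCast, ap_map_zpow a hx, zpow_natCast]

theorem ap_ext {a b : MulAut E} (h : ∀ x ∈ E, ap a x = ap b x) : a = b :=
  MulEquiv.ext fun x => Subtype.ext (by rw [← ap_coe, ← ap_coe]; exact h x x.2)

theorem ap_conj [E.Normal] (g : P) {x : P} (hx : x ∈ E) :
    ap (MulAut.conjNormal g : MulAut E) x = g * x * g⁻¹ := by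
  rw [ap_of_mem _ hx, MulAut.conjNormal_apply]

theorem conj_conjNormal [E.Normal] (a : MulAut E) {e : P} (he : e ∈ E) :
    a * MulAut.conjNormal e * a⁻¹ = MulAut.conjNormal (ap a e) := by
  refine ap_ext fun x hx => ?_
  rw [ap_mul, ap_mul, ap_conj _ (ap_mem _ hx), ap_conj _ hx,
    ap_map_mul a (E.mul_mem he (ap_mem _ hx)) (E.inv_mem he), ap_map_mul a he (ap_mem _ hx),
    ap_map_inv a he, ap_self_inv]

/-! ### Invariant subgroups and orbits -/

/-- `Q` is invariant under `L`. -/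
def Inv (L : Subgroup (MulAut E)) (Q : Subgroup P) : Prop := ∀ a ∈ L, ∀ x ∈ Q, ap a x ∈ Q

/-- The image of `Q` under `a`. -/
def img (a : MulAut E) (Q : Subgroup P) : Subgroup P := (Q.subgroupOf E).map (E.subtype.comp a.toMonoidHom)

theorem mem_img {a : MulAut E} {Q : Subgroup P} (hQ : Q ≤ E) {y : P} :
    y ∈ img a Q ↔ ∃ x ∈ Q, ap a x = y := by
  constructor
  · rintro ⟨x, hx, rfl⟩; exact ⟨x, hx, ap_coe a x⟩
  · rintro ⟨x, hx, rfl⟩; exact ⟨⟨x, hQ hx⟩, hx, (ap_of_mem a (hQ hx)).symm⟩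

theorem img_le (a : MulAut E) (Q : Subgroup P) : img a Q ≤ E := by
  rintro _ ⟨x, -, rfl⟩; exact SetLike.coe_mem _

theorem card_img (a : MulAut E) {Q : Subgroup P} (hQ : Q ≤ E) : Nat.card (img a Q) = Nat.card Q := by
  rw [img, Subgroup.card_map_of_injective (show Function.Injective (E.subtype.comp a.toMonoidHom) from
    fun x y h => a.injective (Subtype.ext h))]
  exact Nat.card_congr (Subgroup.subgroupOfEquivOfLe hQ).toEquiv

/-- The subgroup generated by the images of `Q` under `L`. -/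
def orb (L : Subgroup (MulAut E)) (Q : Subgroup P) : Subgroup P :=
  Subgroup.closure {y | ∃ a ∈ L, ∃ x ∈ Q, ap a x = y}

theorem le_orb (L : Subgroup (MulAut E)) (Q : Subgroup P) : Q ≤ orb L Q := fun x hx =>
  Subgroup.subset_closure ⟨1, L.one_mem, x, hx, ap_one x⟩

theorem orb_le {L : Subgroup (MulAut E)} {Q R : Subgroup P} (h : ∀ a ∈ L, ∀ x ∈ Q, ap a x ∈ R) : orb L Q ≤ R := by
  rw [orb, Subgroup.closure_le]
  rintro _ ⟨a, ha, x, hx, rfl⟩
  exact h a ha x hx

theorem img_le_orb {L : Subgroup (MulAut E)} {Q : Subgroup P} (hQ : Q ≤ E) {a : MulAut E} (ha : a ∈ L) :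
    img a Q ≤ orb L Q := fun _ hy => by
  obtain ⟨x, hx, rfl⟩ := (mem_img hQ).mp hy
  exact Subgroup.subset_closure ⟨a, ha, x, hx, rfl⟩

theorem orb_le_self {L : Subgroup (MulAut E)} {Q : Subgroup P} (hQ : Q ≤ E) : orb L Q ≤ E :=
  orb_le fun a _ _ hx => ap_mem a (hQ hx)

theorem inv_orb (L : Subgroup (MulAut E)) {Q : Subgroup P} (hQ : Q ≤ E) : Inv L (orb L Q) := by
  intro a ha y hy
  have h : y ∈ E ∧ ap a y ∈ orb L Q := by
    refine Subgroup.closure_induction (p := fun y _ => y ∈ E ∧ ap a y ∈ orb L Q) ?_ ?_ ?_ ?_ hy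
    · rintro _ ⟨b, hb, x, hx, rfl⟩
      exact ⟨ap_mem b (hQ hx), Subgroup.subset_closure ⟨a * b, L.mul_mem ha hb, x, hx, ap_mul a b x⟩⟩
    · exact ⟨E.one_mem, by rw [ap_map_one]; exact one_mem _⟩
    · rintro x y - - ⟨hx, hx'⟩ ⟨hy, hy'⟩
      exact ⟨E.mul_mem hx hy, by rw [ap_map_mul a hx hy]; exact mul_mem hx' hy'⟩
    · rintro x - ⟨hx, hx'⟩
      exact ⟨E.inv_mem hx, by rw [ap_map_inv a hx]; exact inv_mem hx'⟩
  exact h.2

theorem Inv.inf {L : Subgroup (MulAut E)} {Q R : Subgroup P} (hQ : Inv L Q) (hR : Inv L R) : Inv L (Q ⊓ R) :=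
  fun a ha x hx => ⟨hQ a ha x hx.1, hR a ha x hx.2⟩

theorem inv_bot (L : Subgroup (MulAut E)) : Inv L ⊥ := fun a _ x hx => by
  rw [Subgroup.mem_bot] at hx ⊢
  rw [hx, ap_map_one]

theorem inv_self (L : Subgroup (MulAut E)) : Inv L E := fun a _ _ hx => ap_mem a hx

theorem Inv.sup {L : Subgroup (MulAut E)} {Q R : Subgroup P} (hQ : Inv L Q) (hR : Inv L R) (hQE : Q ≤ E)
    (hRE : R ≤ E) : Inv L (Q ⊔ R) := by
  intro a ha y hy
  rw [Subgroup.sup_eq_closure] at hy
  have h : y ∈ E ∧ ap a y ∈ Q ⊔ R := by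
    refine Subgroup.closure_induction (p := fun y _ => y ∈ E ∧ ap a y ∈ Q ⊔ R) ?_ ?_ ?_ ?_ hy
    · rintro x (hx | hx)
      · exact ⟨hQE hx, Subgroup.mem_sup_left (hQ a ha x hx)⟩
      · exact ⟨hRE hx, Subgroup.mem_sup_right (hR a ha x hx)⟩
    · exact ⟨E.one_mem, by rw [ap_map_one]; exact one_mem _⟩
    · rintro x y - - ⟨hx, hx'⟩ ⟨hy, hy'⟩
      exact ⟨E.mul_mem hx hy, by rw [ap_map_mul a hx hy]; exact mul_mem hx' hy'⟩
    · rintro x - ⟨hx, hx'⟩
      exact ⟨E.inv_mem hx, by rw [ap_map_inv a hx]; exact inv_mem hx'⟩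
  exact h.2

theorem img_eq_of_inv [Finite P] {L : Subgroup (MulAut E)} {Q : Subgroup P} (hQ : Q ≤ E) (h : Inv L Q) {a : MulAut E}
    (ha : a ∈ L) : img a Q = Q :=
  Subgroup.eq_of_le_of_card_ge (fun _ hy => by
    obtain ⟨x, hx, rfl⟩ := (mem_img hQ).mp hy
    exact h a ha x hx) (card_img a hQ).ge

/-! ### Triviality on sections -/

/-- The automorphisms preserving `K` and trivial from `X` modulo `K`. -/
def triv [Finite P] (X K : Subgroup P) (hKX : K ≤ X) (hX : X ≤ E) : Subgroup (MulAut E) :=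
  let M : Submonoid (MulAut E) :=
    { carrier := {a | (∀ x ∈ K, ap a x ∈ K) ∧ ∀ x ∈ X, x⁻¹ * ap a x ∈ K}
      one_mem' := ⟨fun x hx => by rwa [ap_one], fun x _ => by rw [ap_one, inv_mul_cancel]; exact one_mem K⟩
      mul_mem' := fun {a b} ha hb => ⟨fun x hx => by rw [ap_mul]; exact ha.1 _ (hb.1 x hx), fun x hx => by
        rw [ap_mul]
        have hb' : ap b x ∈ X := by
          have := X.mul_mem hx (hKX (hb.2 x hx))
          rwa [mul_inv_cancel_left] at this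
        have := K.mul_mem (hb.2 x hx) (ha.2 _ hb')
        rwa [mul_assoc, mul_inv_cancel_left] at this⟩ }
  { M with
    inv_mem' := fun {a} ha => by
      have : Finite E := Finite.of_injective _ Subtype.val_injective
      have : Finite (MulAut E) := Finite.of_injective (fun f : MulAut E => (f : E → E)) DFunLike.coe_injective
      have h : a⁻¹ ∈ Submonoid.powers a := by
        rw [mem_powers_iff_mem_zpowers]; exact inv_mem (Subgroup.mem_zpowers a)
      exact Submonoid.powers_le.mpr ha h }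

theorem mem_triv [Finite P] {X K : Subgroup P} {hKX : K ≤ X} {hX : X ≤ E} {a : MulAut E} :
    a ∈ triv X K hKX hX ↔ (∀ x ∈ K, ap a x ∈ K) ∧ ∀ x ∈ X, x⁻¹ * ap a x ∈ K := Iff.rfl

/-- A normal step of order `p` is central. -/
theorem conj_mem_step {p : ℕ} [Fact p.Prime] [Finite P] (hP : IsPGroup p P) {X K : Subgroup P} [K.Normal] [X.Normal]
    (hKX : K ≤ X) (hc : Nat.card X = p * Nat.card K) (g : P) {x : P} (hx : x ∈ X) :
    x⁻¹ * (g * x * g⁻¹) ∈ K := by
  let π := QuotientGroup.mk' K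
  have hcard : Nat.card (X.map π) = p := by
    have h1 := Subgroup.card_mul_index ((π.comp X.subtype).ker)
    rw [Subgroup.index_ker, MonoidHom.range_comp, Subgroup.range_subtype] at h1
    have h2 : Nat.card (π.comp X.subtype).ker = Nat.card K := by
      rw [← MonoidHom.comap_ker, QuotientGroup.ker_mk']
      exact Nat.card_congr (Subgroup.subgroupOfEquivOfLe hKX).toEquiv
    rw [h2, hc, mul_comm p] at h1
    exact Nat.eq_of_mul_eq_mul_left Nat.card_pos h1
  have hn : (X.map π).Normal := Subgroup.Normal.map inferInstance π (QuotientGroup.mk'_surjective K)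
  have h := CfsgLib.SoftSubgroup.le_center_of_card_eq (hP.to_quotient K) (X.map π) hcard
    (Subgroup.mem_map_of_mem π hx)
  have h' := Subgroup.mem_center_iff.mp h (π g)
  rw [← QuotientGroup.eq_one_iff]
  show π (x⁻¹ * (g * x * g⁻¹)) = 1
  rw [map_mul, map_mul, map_mul, map_inv, map_inv, h', mul_inv_cancel_right, inv_mul_cancel]

/-! ### Vertices and pairs -/

/-- A vertex: `E` of index `p`, `L` generated by the conjugates of the conjugations. -/
structure Vertex (p : ℕ) (E : Subgroup P) [E.Normal] (L : Subgroup (MulAut E)) : Prop where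
  index : E.index = p
  le : ∀ g : P, MulAut.conjNormal g ∈ L
  gen : ∀ M : Subgroup (MulAut E), M ≤ L → (∀ g : P, MulAut.conjNormal g ∈ M) →
    (∀ a ∈ L, ∀ b ∈ M, a * b * a⁻¹ ∈ M) → M = L
  sylow : ¬ p ∣ (((MulAut.conjNormal : P →* MulAut E).range).subgroupOf L).index
  np : ¬ IsPGroup p L
  centric : Subgroup.centralizer (E : Set P) ≤ E

/-- Elements of `L` normalising the conjugations extend to automorphisms fixing `E'` and normalising `L'`. -/
def Torus (E E' : Subgroup P) [E.Normal] (L : Subgroup (MulAut E)) (L' : Subgroup (MulAut E')) : Prop :=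
  ∀ n ∈ L, (∀ g : P, n * MulAut.conjNormal g * n⁻¹ ∈ (MulAut.conjNormal : P →* MulAut E).range) →
    ∃ φ : MulAut P, (∀ x ∈ E, φ x = ap n x) ∧ (∀ x ∈ E', φ x ∈ E') ∧
      ∀ a ∈ L', ∃ b ∈ L', ∀ x ∈ E', φ (ap a x) = ap b (φ x)

/-- Two different vertices. -/
structure Duo (p : ℕ) (E₁ E₂ : Subgroup P) [E₁.Normal] [E₂.Normal] (L₁ : Subgroup (MulAut E₁))
    (L₂ : Subgroup (MulAut E₂)) : Prop where
  v₁ : Vertex p E₁ L₁
  v₂ : Vertex p E₂ L₂
  ne : E₁ ≠ E₂

theorem Duo.symm {p : ℕ} {E₁ E₂ : Subgroup P} [E₁.Normal] [E₂.Normal] {L₁ : Subgroup (MulAut E₁)}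
    {L₂ : Subgroup (MulAut E₂)} (h : Duo p E₁ E₂ L₁ L₂) : Duo p E₂ E₁ L₂ L₁ :=
  ⟨h.v₂, h.v₁, h.ne.symm⟩

/-- Two different vertices with the extension property. -/
structure Pair (p : ℕ) (E₁ E₂ : Subgroup P) [E₁.Normal] [E₂.Normal] (L₁ : Subgroup (MulAut E₁))
    (L₂ : Subgroup (MulAut E₂)) : Prop extends Duo p E₁ E₂ L₁ L₂ where
  t₁ : Torus E₁ E₂ L₁ L₂
  t₂ : Torus E₂ E₁ L₂ L₁

theorem Pair.symm {p : ℕ} {E₁ E₂ : Subgroup P} [E₁.Normal] [E₂.Normal] {L₁ : Subgroup (MulAut E₁)}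
    {L₂ : Subgroup (MulAut E₂)} (h : Pair p E₁ E₂ L₁ L₂) : Pair p E₂ E₁ L₂ L₁ :=
  ⟨h.toDuo.symm, h.t₂, h.t₁⟩

/-- A subgroup of both vertices invariant under both groups. -/
def Common {E₁ E₂ : Subgroup P} (L₁ : Subgroup (MulAut E₁)) (L₂ : Subgroup (MulAut E₂)) (D : Subgroup P) : Prop :=
  D ≤ E₁ ⊓ E₂ ∧ Inv L₁ D ∧ Inv L₂ D

/-- No nontrivial common subgroup. -/
def Free {E₁ E₂ : Subgroup P} (L₁ : Subgroup (MulAut E₁)) (L₂ : Subgroup (MulAut E₂)) : Prop :=
  ∀ D : Subgroup P, Common L₁ L₂ D → D = ⊥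

theorem Common.symm {E₁ E₂ : Subgroup P} {L₁ : Subgroup (MulAut E₁)} {L₂ : Subgroup (MulAut E₂)} {D : Subgroup P}
    (h : Common L₁ L₂ D) : Common L₂ L₁ D := ⟨inf_comm E₁ E₂ ▸ h.1, h.2.2, h.2.1⟩

theorem Free.symm {E₁ E₂ : Subgroup P} {L₁ : Subgroup (MulAut E₁)} {L₂ : Subgroup (MulAut E₂)} (h : Free L₁ L₂) :
    Free L₂ L₁ := fun D hD => h D hD.symm

section vertex

variable {p : ℕ} [hp : Fact p.Prime] [E.Normal] {L : Subgroup (MulAut E)}

omit hp in
theorem Vertex.normal_of_inv (h : Vertex p E L) {Q : Subgroup P} (hQ : Q ≤ E) (hI : Inv L Q) : Q.Normal :=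
  ⟨fun x hx g => by rw [← ap_conj g (hQ hx)]; exact hI _ (h.le g) x hx⟩

omit hp in
/-- Triviality on an invariant section propagates from the conjugations to `L`. -/
theorem Vertex.trivial_of [Finite P] (h : Vertex p E L) {X K : Subgroup P} (hKX : K ≤ X) (hXE : X ≤ E)
    (hX : Inv L X) (hK : Inv L K) (hg : ∀ g : P, ∀ x ∈ X, x⁻¹ * (g * x * g⁻¹) ∈ K) :
    ∀ a ∈ L, ∀ x ∈ X, x⁻¹ * ap a x ∈ K := by
  have hM : L ⊓ triv X K hKX hXE = L := by
    refine h.gen _ inf_le_left (fun g => ⟨h.le g, hK _ (h.le g), fun x hx => ?_⟩) fun a ha b hb => ?_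
    · rw [ap_conj g (hXE hx)]; exact hg g x hx
    · have hab : a * b * a⁻¹ ∈ L := L.mul_mem (L.mul_mem ha hb.1) (L.inv_mem ha)
      refine ⟨hab, hK _ hab, fun x hx => ?_⟩
      obtain ⟨y, hy, rfl⟩ : ∃ y ∈ X, ap a y = x :=
        ⟨ap a⁻¹ x, hX _ (L.inv_mem ha) x hx, ap_self_inv a x⟩
      have hb' := hb.2.2 y hy
      rw [ap_mul, ap_mul, ap_inv_self]
      obtain ⟨k, hk, hk'⟩ : ∃ k ∈ K, ap b y = y * k := ⟨_, hb', (mul_inv_cancel_left _ _).symm⟩
      rw [hk', ap_map_mul a (hXE hy) (hXE (hKX hk)), inv_mul_cancel_left]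
      exact hK a ha k hk
  intro a ha x hx
  exact (hM.ge ha).2.2 x hx

omit hp in
/-- Pointwise fixing propagates from the conjugations to `L`. -/
theorem Vertex.fix_of [Finite P] (h : Vertex p E L) {X : Subgroup P} (hXE : X ≤ E) (hX : Inv L X)
    (hg : ∀ g : P, ∀ x ∈ X, g * x * g⁻¹ = x) : ∀ a ∈ L, ∀ x ∈ X, ap a x = x := fun a ha x hx => by
  have := h.trivial_of bot_le hXE hX (inv_bot L) (fun g y hy => by simp [hg g y hy]) a ha x hx
  rw [Subgroup.mem_bot, inv_mul_eq_one] at this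
  exact this.symm

/-- `L` is not a `p`-group, so it cannot stabilise a series with `p`-power action on the bottom. -/
theorem Vertex.false_of_series [Finite P] (h : Vertex p E L) (hP : IsPGroup p P) {n : ℕ} (C : ℕ → Subgroup P)
    (hn : C n = E) (hmono : ∀ i < n, C i ≤ C (i + 1))
    (h0 : ∀ a ∈ L, ∃ k, ∀ x ∈ C 0, ap (a ^ p ^ k) x = x)
    (hstep : ∀ a ∈ L, ∀ i < n, ∀ x ∈ C (i + 1), x⁻¹ * ap a x ∈ C i) : False := by
  refine h.np fun a => ?_
  have hle : ∀ j, j ≤ n → C (n - j) ≤ E := by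
    intro j
    induction j with
    | zero => intro _; rw [Nat.sub_zero, hn]
    | succ j ih =>
      intro hj
      refine le_trans ?_ (ih (by omega))
      have := hmono (n - (j + 1)) (by omega)
      rwa [show n - (j + 1) + 1 = n - j by omega] at this
  obtain ⟨k₀, hk₀⟩ := h0 a a.2
  obtain ⟨k, hk⟩ := CfsgLib.Fusion.exists_pow_eq_one_of_stabilizes (hP.to_subgroup E) (n := n)
    (fun i => (C i).subgroupOf E) (fun i hi x hx => hmono i hi hx) (by simp [hn]) (α := (a : MulAut E))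
    ⟨k₀, fun x hx => Subtype.ext (by rw [← ap_coe]; exact hk₀ _ hx)⟩ (fun i hi x hx => by
      show ((x⁻¹ * (a : MulAut E) x : E) : P) ∈ C i
      rw [Subgroup.coe_mul, Subgroup.coe_inv, ← ap_coe]
      exact hstep a a.2 i hi x hx)
  exact ⟨k, Subtype.ext (by rw [SubgroupClass.coe_pow]; exact hk)⟩

/-- `L` does not stabilise a series of invariant subgroups with steps centralised by `P`. -/
theorem Vertex.false_of_chain [Finite P] (h : Vertex p E L) (hP : IsPGroup p P) {n : ℕ} (C : ℕ → Subgroup P)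
    (h0 : C 0 = ⊥) (hn : C n = E) (hmono : ∀ i < n, C i ≤ C (i + 1)) (hinv : ∀ i ≤ n, Inv L (C i))
    (hstep : ∀ g : P, ∀ i < n, ∀ x ∈ C (i + 1), x⁻¹ * (g * x * g⁻¹) ∈ C i) : False := by
  refine h.false_of_series hP C hn hmono (fun a _ => ⟨0, fun x hx => ?_⟩) fun a ha i hi x hx => ?_
  · rw [h0, Subgroup.mem_bot] at hx
    rw [hx, ap_map_one]
  · have hle : ∀ j ≤ n, C j ≤ E := by
      intro j hj
      induction hj using Nat.decreasingInduction with
      | self => rw [hn]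
      | of_succ j hjn ih => exact (hmono j hjn).trans ih
    exact h.trivial_of (hmono i hi) (hle _ hi) (hinv _ hi) (hinv _ hi.le) (fun g y hy => hstep g i hi y hy) a ha x hx

/-- `L` is not trivial on the Frattini quotient. -/
theorem Vertex.false_of_frattini [Finite P] (h : Vertex p E L) (hP : IsPGroup p P)
    (hg : ∀ g : P, ∀ x ∈ E, x⁻¹ * (g * x * g⁻¹) ∈ (frattini E).map E.subtype) : False := by
  have hPE : IsPGroup p E := hP.to_subgroup E
  set Φ := (frattini E).map E.subtype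
  have hI : Inv L Φ := by
    rintro a - _ ⟨x, hx, rfl⟩
    have he : (frattini E).comap a.toMonoidHom = frattini E :=
      (inferInstance : (frattini E).Characteristic).fixed a
    exact ⟨a x, he.ge hx, (ap_coe a x).symm⟩
  have hΦE : Φ ≤ E := Subgroup.map_subtype_le _
  have ht := h.trivial_of hΦE le_rfl (inv_self L) hI hg
  obtain ⟨n, hn⟩ := IsPGroup.iff_card.mp hPE
  obtain ⟨r, hr⟩ : ∃ r, (frattini E).index = p ^ r := by
    obtain ⟨r, -, hr⟩ := (Nat.dvd_prime_pow hp.out).mp (hn ▸ (frattini E).index_dvd_card)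
    exact ⟨r, hr⟩
  refine h.np (IsPGroup.of_card_dvd_pow (n := r * (n - r))
    (CfsgLib.AutFrattini82.card_aut_trivial_dvd hn hr L fun a ha x => ?_))
  have h1 := ht a ha x x.2
  rw [ap_coe, ← Subgroup.coe_inv, ← Subgroup.coe_mul] at h1
  obtain ⟨y, hy, hy'⟩ := h1
  have h2 : x⁻¹ * a x ∈ frattini E := Subtype.val_injective hy' ▸ hy
  have h3 := (inferInstance : (frattini E).Normal).conj_mem _ h2 x
  rwa [mul_inv_cancel_left] at h3

end vertex

/-! ### Sylow lifting -/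

/-- An element whose image normalises the image of a Sylow subgroup can be corrected by the kernel. -/
theorem exists_normalizing_lift {p : ℕ} [Fact p.Prime] {X Y : Type*} [Group X] [Finite X] [Group Y]
    (ρ : X →* Y) {U : Subgroup X} (hU : IsPGroup p U) (hi : ¬ p ∣ U.index) {n : X}
    (hn : ∀ u ∈ U, ρ (n * u * n⁻¹) ∈ U.map ρ) :
    ∃ m : X, ρ m = ρ n ∧ ∀ u ∈ U, m * u * m⁻¹ ∈ U := by
  set G := (U.map ρ).comap ρ
  have hUG : U ≤ G := Subgroup.le_comap_map ρ U
  set V := U.map (MulAut.conj n).toMonoidHom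
  have hVG : V ≤ G := by
    rintro _ ⟨u, hu, rfl⟩
    exact hn u hu
  have hV : IsPGroup p V := hU.map _
  have hiG : ¬ p ∣ (U.subgroupOf G).index := fun h => hi (h.trans (Subgroup.relIndex_dvd_index_of_le hUG))
  have hiV : ¬ p ∣ (V.subgroupOf G).index := fun h => hi (by
    have h' := h.trans (Subgroup.relIndex_dvd_index_of_le hVG)
    rwa [Subgroup.index_map_of_bijective (MulAut.conj n).bijective] at h')
  let SU : Sylow p G := (hU.of_equiv (Subgroup.subgroupOfEquivOfLe hUG).symm).toSylow hiG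
  let SV : Sylow p G := (hV.of_equiv (Subgroup.subgroupOfEquivOfLe hVG).symm).toSylow hiV
  obtain ⟨k, hk⟩ := MulAction.exists_smul_eq G SV SU
  obtain ⟨u₀, hu₀, hk₀⟩ := Subgroup.mem_map.mp (show ρ (k : X) ∈ U.map ρ from k.2)
  refine ⟨u₀⁻¹ * k * n, by rw [map_mul, map_mul, map_inv, hk₀, inv_mul_cancel, one_mul], fun u hu => ?_⟩
  have h1 : k * ⟨n * u * n⁻¹, hVG ⟨u, hu, rfl⟩⟩ * k⁻¹ ∈ (SU : Subgroup G) := by
    rw [← hk]
    exact Subgroup.smul_mem_pointwise_smul _ (MulAut.conj k) _ (show _ ∈ (SV : Subgroup G) from ⟨u, hu, rfl⟩)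
  have h2 : (k : X) * (n * u * n⁻¹) * (k : X)⁻¹ ∈ U := h1
  have h3 := U.mul_mem (U.mul_mem (U.inv_mem hu₀) h2) hu₀
  convert h3 using 1
  group

/-! ### Rank bounds -/

section rank

variable {p : ℕ}

theorem card_le_of_elementary (hr : SectionalPRankLE p 3 P) (A : Subgroup P)
    (hc : ∀ x ∈ A, ∀ y ∈ A, x * y = y * x) (he : ∀ x ∈ A, x ^ p = 1) : Nat.card A ≤ p ^ 3 := by
  have h := CfsgLib.TwoGroups85.pRankLE_of_section hr A (MonoidHom.id A) Function.surjective_id ⊤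
    ⟨⟨fun x y => Subtype.ext (Subtype.ext (hc _ (x : A).2 _ (y : A).2))⟩⟩ fun a _ => Subtype.ext (he a a.2)
  rwa [Subgroup.card_top] at h

theorem card_section_le (hr : SectionalPRankLE p 3 P) (X K : Subgroup P) (hKX : K ≤ X)
    (hn : ∀ x ∈ X, ∀ k ∈ K, x * k * x⁻¹ ∈ K)
    (hc : ∀ x ∈ X, ∀ y ∈ X, ⁅x, y⁆ ∈ K) (he : ∀ x ∈ X, x ^ p ∈ K) : Nat.card X ≤ p ^ 3 * Nat.card K := by
  have hN : (K.subgroupOf X).Normal := ⟨fun k hk x => hn _ x.2 _ hk⟩
  have hq := CfsgLib.TwoGroups85.pRankLE_of_section hr X (QuotientGroup.mk' (K.subgroupOf X))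
    (QuotientGroup.mk'_surjective _) ⊤ ?_ ?_
  · rw [Subgroup.card_top, ← Subgroup.index_eq_card] at hq
    have h := Subgroup.card_mul_index (K.subgroupOf X)
    rw [Nat.card_congr (Subgroup.subgroupOfEquivOfLe hKX).toEquiv] at h
    rw [← h, mul_comm]
    exact Nat.mul_le_mul_right _ hq
  · refine ⟨⟨fun a b => Subtype.ext ?_⟩⟩
    obtain ⟨x, hx⟩ := QuotientGroup.mk'_surjective (K.subgroupOf X) a
    obtain ⟨y, hy⟩ := QuotientGroup.mk'_surjective (K.subgroupOf X) b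
    rw [Subgroup.coe_mul, Subgroup.coe_mul, ← hx, ← hy, ← commutatorElement_eq_one_iff_mul_comm,
      ← map_commutatorElement]
    exact (QuotientGroup.eq_one_iff _).mpr (hc _ x.2 _ y.2)
  · rintro a -
    obtain ⟨x, rfl⟩ := QuotientGroup.mk'_surjective (K.subgroupOf X) a
    rw [← map_pow]
    exact (QuotientGroup.eq_one_iff _).mpr (he _ x.2)

end rank

end CfsgLib.RankThreePair
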