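import Cfsg.Agent.Lib.Fusion.RankThreePair.Faithful

/-!
The largest common subgroup of a pair is central.
-/

set_option autoImplicit false
set_option maxHeartbeats 800000

namespace CfsgLib.RankThreePair

open Cfsg CfsgLib.FusionRankThree
open scoped commutatorElement

variable {P : Type*} [Group P] [Finite P] {p : ℕ} [hp : Fact p.Prime] {E₁ E₂ : Subgroup P} [E₁.Normal] [E₂.Normal]
  {L₁ : Subgroup (MulAut E₁)} {L₂ : Subgroup (MulAut E₂)} {T : Subgroup P} [T.Normal]

/-- A pair with small quotient modulo `T` is not faithful on the Frattini quotient of `T`. -/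
theorem SmallQuot.ker_ne (hP : IsPGroup p P) (hodd : Odd p) (hr : SectionalPRankLE p 3 P)
    (h : SmallQuot p E₁ E₂ L₁ L₂ T) : (frConj T).ker ≠ T := by
  intro hker
  have hp' : p.Prime := hp.out
  obtain ⟨hM, hMc, hcard⟩ := frAct_card hP hr T
  let _ : CommGroup (T ⧸ frattini T) := { (inferInstance : Group (T ⧸ frattini T)) with mul_comm := hMc }
  let M := T ⧸ frattini T
  have hPM : IsPGroup p M := fun q => ⟨1, by rw [pow_one]; exact hM q⟩
  obtain ⟨j, hj⟩ := IsPGroup.iff_card.mp hPM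
  have hj3 : j ≤ 3 := (Nat.pow_le_pow_iff_right hp'.one_lt).mp (hj ▸ hcard)
  have hσp : ∀ g : P, ∃ k, frConj T g ^ p ^ k = 1 := fun g => by
    obtain ⟨k, hk⟩ := hP g
    exact ⟨k, by rw [← map_pow, hk, map_one]⟩
  have hM3 : Nat.card M = p ^ 3 := by
    by_contra hne
    have hj2 : j ≤ 2 := by
      by_contra hh
      exact hne (by rw [hj, show j = 3 by omega])
    obtain ⟨C, hC1, hC2⟩ : ∃ C : Subgroup M, (∀ g : P, ∀ q ∈ C, frConj T g q = q) ∧
        ∀ g : P, ∀ q, q⁻¹ * frConj T g q ∈ C := by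
      by_cases hj0 : j = 0
      · have hsub : ∀ q : M, q = 1 := fun q => by
          have : Subsingleton M := (Nat.card_eq_one_iff_unique.mp (by rw [hj, hj0, pow_zero])).1
          exact Subsingleton.elim _ _
        exact ⟨⊥, fun g q _ => by rw [hsub (frConj T g q), hsub q],
          fun g q => by rw [Subgroup.mem_bot]; exact hsub _⟩
      let _ : MulAction P M := MulAction.compHom M (frConj T)
      obtain ⟨z, hz, hz1⟩ := hP.exists_fixed_point_of_prime_dvd_card_of_fixed_point M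
        (hj ▸ dvd_pow_self p hj0) (a := (1 : M)) fun g => map_one (frConj T g)
      refine ⟨Subgroup.zpowers z, fun g q hq => ?_, fun g q => ?_⟩
      · obtain ⟨i, rfl⟩ := Subgroup.mem_zpowers_iff.mp hq
        rw [map_zpow]
        exact congrArg (· ^ i) (hz g)
      · have hzc : Nat.card (Subgroup.zpowers z) = p := by
          rw [Nat.card_zpowers, orderOf_eq_prime (hM z) hz1.symm]
        rcases (show j = 1 ∨ j = 2 by omega) with rfl | rfl
        · have htop : Subgroup.zpowers z = ⊤ := Subgroup.eq_top_of_card_eq _ (by rw [hzc, hj, pow_one])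
          rw [htop]; exact Subgroup.mem_top _
        · obtain ⟨k, hk⟩ := hσp g
          refine CfsgLib.FusionFlag.stabilizes_step (L := ⊤) le_top
            (by rw [Subgroup.card_top, hj, hzc, pow_two]) hk (fun _ _ => Subgroup.mem_top _) (fun x hx => ?_) q
            (Subgroup.mem_top q)
          obtain ⟨i, rfl⟩ := Subgroup.mem_zpowers_iff.mp hx
          rw [map_zpow, show frConj T g z = z from hz g]
          exact Subgroup.zpow_mem_zpowers z i
    refine h.comm_P fun u v => hker.le (MonoidHom.mem_ker.mpr ?_)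
    rw [map_commutatorElement, commutatorElement_eq_one_iff_mul_comm]
    exact commute_of_stab C (hC1 u) (hC1 v) (hC2 u) (hC2 v)
  obtain ⟨Z, M₂, hZM, hZc, hM₂c, hZfix, -, hM₂d⟩ :=
    CfsgLib.FusionRankThree.exists_flag hM hM3 (frConj T) (T := (⊤ : Subgroup P))
      (IsPGroup.of_injective hP (⊤ : Subgroup P).subtype Subtype.val_injective)
  -- each vertex: either many fixed points or a small image
  have hone : ∀ {F₁ F₂ : Subgroup P} [F₁.Normal] [F₂.Normal] {K₁ : Subgroup (MulAut F₁)} {K₂ : Subgroup (MulAut F₂)},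
      SmallQuot p F₁ F₂ K₁ K₂ T →
      ∃ C : Subgroup M, (∀ e ∈ F₁, ∀ q ∈ C, frConj T e q = q) ∧ p ^ 2 ≤ Nat.card C := by
    intro F₁ F₂ _ _ K₁ K₂ hF
    have hTE : T ≤ F₁ := hF.common.1.trans inf_le_left
    have hTinv : Inv K₁ T := hF.common.2.1
    have hV := hF.pair.v₁
    let C : Subgroup M :=
      { carrier := {q | ∀ e ∈ F₁, frConj T e q = q}
        one_mem' := fun e _ => map_one _
        mul_mem' := fun {a b} ha hb e he => by rw [map_mul, ha e he, hb e he]
        inv_mem' := fun {a} ha e he => by rw [map_inv, ha e he] }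
    by_contra hno
    have hCc : Nat.card C ≤ p := by
      by_contra hh
      refine hno ⟨C, fun e he q hq => hq e he, ?_⟩
      obtain ⟨i, hi⟩ := IsPGroup.iff_card.mp (hPM.to_subgroup C)
      rw [hi] at hh ⊢
      refine Nat.pow_le_pow_right hp'.pos ?_
      by_contra h2
      exact hh ((Nat.pow_le_pow_right hp'.pos (show i ≤ 1 by omega)).trans (pow_one p).le)
    let I : Subgroup M := Subgroup.closure {r | ∃ e ∈ F₁, ∃ q, q⁻¹ * frConj T e q = r}
    have hconj : ∀ (a : K₁) (e : P), e ∈ F₁ → ∀ q : M, frAct hTE hTinv a (frConj T e q) =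
        frConj T (ap (a : MulAut F₁) e) (frAct hTE hTinv a q) := by
      intro a e he q
      have h2 := congrArg (frAct hTE hTinv) (show a * ⟨_, hV.le e⟩ =
          (⟨_, hV.le (ap (a : MulAut F₁) e)⟩ : K₁) * a from Subtype.ext (by
        show (a : MulAut F₁) * MulAut.conjNormal e = MulAut.conjNormal (ap (a : MulAut F₁) e) * (a : MulAut F₁)
        rw [← conj_conjNormal (a : MulAut F₁) he, inv_mul_cancel_right]))
      rw [map_mul, map_mul, frAct_conj, frAct_conj] at h2
      have h3 := DFunLike.congr_fun h2 q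
      rwa [MulAut.mul_apply, MulAut.mul_apply] at h3
    have hCinv : ∀ a : K₁, ∀ q ∈ C, frAct hTE hTinv a q ∈ C := by
      intro a q hq e he
      obtain ⟨e', he', rfl⟩ : ∃ e' ∈ F₁, ap (a : MulAut F₁) e' = e :=
        ⟨ap (a : MulAut F₁)⁻¹ e, ap_mem _ he, ap_self_inv _ e⟩
      rw [← hconj a e' he', hq e' he']
    have hIinv : ∀ a : K₁, ∀ q ∈ I, frAct hTE hTinv a q ∈ I := by
      intro a q hq
      have hle : I ≤ I.comap (frAct hTE hTinv a).toMonoidHom := by
        rw [Subgroup.closure_le]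
        rintro _ ⟨e, he, q, rfl⟩
        show frAct hTE hTinv a (q⁻¹ * frConj T e q) ∈ I
        rw [map_mul, map_inv, hconj a e he]
        exact Subgroup.subset_closure ⟨_, ap_mem _ he, _, rfl⟩
      exact hle hq
    have hIM : I ≤ M₂ := by
      rw [Subgroup.closure_le]
      rintro _ ⟨e, -, q, rfl⟩
      exact hM₂d e (Subgroup.mem_top e) q
    by_cases hIc : Nat.card I ≤ p
    · have hIne : I ≠ ⊥ := fun hI => by
        obtain ⟨x, hxE, hx⟩ := SetLike.not_le_iff_exists.mp hF.pair.not_le₁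
        refine hx ((hF.common.1 (hker.le (MonoidHom.mem_ker.mpr (MulEquiv.ext fun q => ?_)))).2)
        have h1 : q⁻¹ * frConj T x q ∈ I := Subgroup.subset_closure ⟨x, hxE, q, rfl⟩
        rw [hI, Subgroup.mem_bot, inv_mul_eq_one] at h1
        exact h1.symm
      have hIp : Nat.card I = p := le_antisymm hIc (by
        have := mul_card_le_of_lt hPM (bot_lt_iff_ne_bot.mpr hIne)
        rwa [Subgroup.card_bot, mul_one] at this)
      exact false_of_small_image hP hodd hr hF hker hM3 I hIp hIinv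
        fun e he q => Subgroup.subset_closure ⟨e, he, q, rfl⟩
    have hI2 : Nat.card I = p ^ 2 := by
      obtain ⟨i, hi⟩ := IsPGroup.iff_card.mp (hPM.to_subgroup I)
      have h1 := Subgroup.card_le_of_le hIM
      rw [hi, hM₂c] at h1
      rw [hi] at hIc ⊢
      have h2 := (Nat.pow_le_pow_iff_right hp'.one_lt).mp h1
      congr 1
      by_contra h3
      exact hIc ((Nat.pow_le_pow_right hp'.pos (show i ≤ 1 by omega)).trans (pow_one p).le)
    have hIM₂ : I = M₂ := Subgroup.eq_of_le_of_card_ge hIM (by rw [hM₂c, hI2])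
    have hZC : Z ≤ C := fun q hq e _ => hZfix e (Subgroup.mem_top e) q hq
    have hCZ : Z = C := Subgroup.eq_of_le_of_card_ge hZC (by rw [hZc]; exact hCc)
    have hp_act := hV.pAction_of_series hP hM (frAct hTE hTinv) (S := C) (B := I)
      (by rw [← hCZ, hIM₂]; exact hZM) (by rw [← hCZ, hZc]) (Or.inl (by rw [← hCZ, hI2, hZc, pow_two]))
      (by rw [hM3, hI2]; ring) hCinv hIinv
    refine hV.false_of_pAction hP hTE hTinv (fun a ha => ?_) hp_act
    obtain ⟨k, hk⟩ := hp_act ⟨a, ha⟩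
    refine ⟨k, fun e he => hker.le (MonoidHom.mem_ker.mpr ?_)⟩
    have hb : a ^ p ^ k ∈ K₁ := pow_mem ha _
    have h0 : frAct hTE hTinv ⟨a ^ p ^ k, hb⟩ = 1 := by rw [← hk, ← map_pow]; rfl
    have h2 := congrArg (frAct hTE hTinv) (show (⟨a ^ p ^ k, hb⟩ : K₁) * ⟨_, hV.le e⟩ * ⟨a ^ p ^ k, hb⟩⁻¹ =
      ⟨_, hV.le (ap (a ^ p ^ k) e)⟩ from Subtype.ext (conj_conjNormal _ he))
    rw [map_mul, map_mul, map_inv, h0, one_mul, inv_one, mul_one, frAct_conj, frAct_conj] at h2
    rw [map_mul, map_inv, ← h2, inv_mul_cancel]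
  obtain ⟨C₁, hC₁, hC₁c⟩ := hone h
  obtain ⟨C₂, hC₂, hC₂c⟩ := hone h.symm
  obtain ⟨y, hy, hy'⟩ := SetLike.not_le_iff_exists.mp h.pair.symm.not_le₁
  by_cases htop : C₁ ⊔ C₂ = ⊤
  · -- the intersection of the vertices is trivial on everything
    have hle : E₁ ⊓ E₂ ≤ T := fun e he => hker.le (MonoidHom.mem_ker.mpr (MulEquiv.ext fun q => by
      have h1 : C₁ ⊔ C₂ ≤ MonoidHom.eqLocus (frConj T e).toMonoidHom (MonoidHom.id M) :=
        sup_le (fun r hr => hC₁ e he.1 r hr) (fun r hr => hC₂ e he.2 r hr)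
      exact h1 (htop.ge (Subgroup.mem_top q))))
    have := Subgroup.card_le_of_le hle
    rw [h.card₀] at this
    have hT := Nat.card_pos (α := T)
    have := hp'.two_le
    nlinarith
  have hsup : Nat.card (C₁ ⊔ C₂ : Subgroup M) ≤ p ^ 2 := by
    have h1 := mul_card_le_of_lt hPM (lt_top_iff_ne_top.mpr htop)
    rw [Subgroup.card_top, hM3, pow_succ'] at h1
    exact Nat.le_of_mul_le_mul_left h1 hp'.pos
  have e₁ : C₁ = C₁ ⊔ C₂ := Subgroup.eq_of_le_of_card_ge le_sup_left (hsup.trans hC₁c)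
  have e₂ : C₂ = C₁ ⊔ C₂ := Subgroup.eq_of_le_of_card_ge le_sup_right (hsup.trans hC₂c)
  have hfix : ∀ g : P, ∀ q ∈ C₁, frConj T g q = q := by
    intro g q hq
    obtain ⟨i, e, he, rfl⟩ := exists_pow_mul h.pair.v₁.index hy' g
    have hyi : frConj T (y ^ i) q = q := hC₂ _ (pow_mem hy i) q ((e₁.trans e₂.symm) ▸ hq)
    rw [map_mul, MulAut.mul_apply, hC₁ e he q hq, hyi]
  have hC₁eq : Nat.card C₁ = p ^ 2 := le_antisymm ((Subgroup.card_le_of_le e₁.le).trans hsup) hC₁c
  have hdisp : ∀ g : P, ∀ q, q⁻¹ * frConj T g q ∈ C₁ := fun g q => by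
    obtain ⟨k, hk⟩ := hσp g
    exact CfsgLib.FusionFlag.stabilizes_step (L := ⊤) le_top (by rw [Subgroup.card_top, hM3, hC₁eq]; ring) hk
      (fun _ _ => Subgroup.mem_top _) (fun x hx => by rw [hfix g x hx]; exact hx) q (Subgroup.mem_top q)
  refine h.comm_P fun u v => hker.le (MonoidHom.mem_ker.mpr ?_)
  rw [map_commutatorElement, commutatorElement_eq_one_iff_mul_comm]
  exact commute_of_stab C₁ (hfix u) (hfix v) (hdisp u) (hdisp v)

/-- If `P` acts trivially on the Frattini quotient of `T` then `T` is central. -/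
theorem le_center_of_trivial (hP : IsPGroup p P) (hr : SectionalPRankLE p 3 P) (h : Duo p E₁ E₂ L₁ L₂)
    (hT : Common L₁ L₂ T) (hirr : Irr E₁ L₁ T) (hD₀ : ¬ Inv L₂ (E₁ ⊓ E₂))
    (hcomm : ∀ u ∈ E₁, ∀ v ∈ E₁, ⁅u, v⁆ ∈ T) (hpow : ∀ u ∈ E₁, u ^ p ∈ T)
    (hbig : p * p * Nat.card T ≤ Nat.card E₁) (htriv : ∀ g, frConj T g = 1) : T ≤ Subgroup.center P := by
  have hp' : p.Prime := hp.out
  have hPT := hP.to_subgroup T
  -- the product of `T` and the centraliser of `T` in a vertex is not `T`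
  have hone : ∀ {E : Subgroup P} [E.Normal] {L : Subgroup (MulAut E)}, Vertex p E L → T ≤ E → ∀ hTinv : Inv L T,
      T ⊔ (E ⊓ Subgroup.centralizer (T : Set P)) ≠ T ∧ Inv L (T ⊔ (E ⊓ Subgroup.centralizer (T : Set P))) := by
    intro E _ L hV hTE hTinv
    have hCinv : Inv L (E ⊓ Subgroup.centralizer (T : Set P)) := by
      rintro a ha e ⟨he, he'⟩
      refine ⟨ap_mem a he, Subgroup.mem_centralizer_iff.mpr fun t ht => ?_⟩
      have ht' : ap a⁻¹ t ∈ T := hTinv _ (inv_mem ha) t ht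
      have := congrArg (ap a) (Subgroup.mem_centralizer_iff.mp he' _ ht')
      rwa [ap_map_mul a (hTE ht') he, ap_map_mul a he (hTE ht'), ap_self_inv] at this
    refine ⟨fun hh => ?_, hTinv.sup hCinv hTE inf_le_left⟩
    have hact : ∀ a : L, ∃ k, frAct hTE hTinv a ^ p ^ k = 1 := fun a =>
      ⟨0, by rw [pow_zero, pow_one]; exact hV.frAct_eq_one hTE hTinv htriv a⟩
    refine hV.false_of_pAction hP hTE hTinv (fun a ha => ?_) hact
    obtain ⟨n, hn⟩ := IsPGroup.iff_card.mp hPT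
    obtain ⟨r, hr'⟩ : ∃ r, (frattini T).index = p ^ r := by
      obtain ⟨r, -, hr'⟩ := (Nat.dvd_prime_pow hp.out).mp (hn ▸ (frattini T).index_dvd_card)
      exact ⟨r, hr'⟩
    let K : Subgroup (MulAut T) := (autQuot T).ker
    have hK : IsPGroup p K := IsPGroup.of_card_dvd_pow (n := r * (n - r))
      (CfsgLib.AutFrattini82.card_aut_trivial_dvd hn hr' K fun α hα x => by
        have h1 := DFunLike.congr_fun (show autQuot T α = 1 from hα) (QuotientGroup.mk' _ x)
        rw [autQuot_mk, MulAut.one_apply] at h1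
        rw [← QuotientGroup.eq_one_iff]
        show QuotientGroup.mk' (frattini T) (α x * x⁻¹) = 1
        rw [map_mul, h1, map_inv, mul_inv_cancel])
    obtain ⟨k, hk⟩ := hK ⟨resHom hTE hTinv ⟨a, ha⟩, hV.frAct_eq_one hTE hTinv htriv ⟨a, ha⟩⟩
    refine ⟨k, fun e he => hh.le (Subgroup.mem_sup_right
      ⟨mul_mem (Subgroup.inv_mem _ he) (ap_mem _ he), Subgroup.mem_centralizer_iff.mpr fun t ht => ?_⟩)⟩
    have hfix : ∀ s ∈ T, ap (a ^ p ^ k) s = s := fun s hs => by
      have h1 : resHom hTE hTinv (⟨a, ha⟩ ^ p ^ k) = 1 := by rw [map_pow]; exact congrArg Subtype.val hk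
      exact congrArg Subtype.val (DFunLike.congr_fun h1 (⟨s, hs⟩ : T))
    have hmem : e * t * e⁻¹ ∈ T := (inferInstance : T.Normal).conj_mem t ht e
    have h2 := hfix _ hmem
    rw [ap_map_mul _ (mul_mem he (hTE ht)) (inv_mem he), ap_map_mul _ he (hTE ht), hfix t ht, ap_map_inv _ he] at h2
    have h3 : t = e⁻¹ * (ap (a ^ p ^ k) e * t * (ap (a ^ p ^ k) e)⁻¹) * e := by rw [h2]; group
    calc t * (e⁻¹ * ap (a ^ p ^ k) e) =
          e⁻¹ * (ap (a ^ p ^ k) e * t * (ap (a ^ p ^ k) e)⁻¹) * e * (e⁻¹ * ap (a ^ p ^ k) e) := by rw [← h3]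
      _ = e⁻¹ * ap (a ^ p ^ k) e * t := by group
  have hT1 : T ≤ E₁ := hT.1.trans inf_le_left
  have hT2 : T ≤ E₂ := hT.1.trans inf_le_right
  obtain ⟨hne₁, hinv₁⟩ := hone h.v₁ hT1 hT.2.1
  obtain ⟨-, hinv₂⟩ := hone h.v₂ hT2 hT.2.2
  have hE₁ : T ⊔ (E₁ ⊓ Subgroup.centralizer (T : Set P)) = E₁ :=
    (hirr _ le_sup_left (sup_le hT1 inf_le_left) hinv₁).resolve_left hne₁
  have hdec : ∀ e ∈ E₁, ∃ t ∈ T, ∃ c ∈ E₁ ⊓ Subgroup.centralizer (T : Set P), e = t * c := fun e he => by
    obtain ⟨t, ht, c, hc, htc⟩ := Subgroup.mem_sup_of_normal_left.mp (hE₁.ge he)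
    exact ⟨t, ht, c, hc, htc.symm⟩
  have hE₂ : T ⊔ (E₂ ⊓ Subgroup.centralizer (T : Set P)) = E₂ := by
    have hle : E₁ ⊓ E₂ ≤ T ⊔ (E₂ ⊓ Subgroup.centralizer (T : Set P)) := fun e he => by
      obtain ⟨t, ht, c, hc, rfl⟩ := hdec e he.1
      refine mul_mem (Subgroup.mem_sup_left ht) (Subgroup.mem_sup_right ⟨?_, hc.2⟩)
      have := mul_mem (inv_mem (hT2 ht)) he.2
      rwa [inv_mul_cancel_left] at this
    by_contra hne
    rcases eq_or_lt_of_le hle with e | e
    · exact hD₀ (e ▸ hinv₂)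
    · exact hne (eq_of_lt_of_card e (sup_le hT2 inf_le_left) h.card₂)
  -- `T` is abelian
  have hTab : ∀ t ∈ T, ∀ s ∈ T, t * s = s * t := by
    by_contra hnab
    set ZT := T ⊓ Subgroup.centralizer (T : Set P) with hZTdef
    set N := (frattini T).map T.subtype ⊔ ZT with hNdef
    have hNT : N ≤ T := sup_le (Subgroup.map_subtype_le _) inf_le_left
    have hgenT : ∀ t ∈ T, ¬ T ≤ N ⊔ Subgroup.zpowers t := by
      intro t ht hle
      have hZ : (ZT ⊔ Subgroup.zpowers t).subgroupOf T = ⊤ := by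
        refine frattini_nongenerating ?_
        rw [eq_top_iff]
        intro s _
        have hle' : N ⊔ Subgroup.zpowers t ≤
            ((ZT ⊔ Subgroup.zpowers t).subgroupOf T ⊔ frattini T).map T.subtype := by
          refine sup_le (sup_le (Subgroup.map_mono le_sup_right) fun z hz => ?_) (Subgroup.zpowers_le.mpr ?_)
          · exact ⟨⟨z, hz.1⟩, Subgroup.mem_sup_left (Subgroup.mem_sup_left hz), rfl⟩
          · exact ⟨⟨t, ht⟩, Subgroup.mem_sup_left (Subgroup.mem_sup_right (Subgroup.mem_zpowers t)), rfl⟩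
        obtain ⟨s', hs', hss⟩ := hle' (hle s.2)
        obtain rfl : s' = s := Subtype.ext hss
        exact hs'
      refine hnab fun u hu v hv => ?_
      have hc : ∀ w ∈ T, w * t = t * w := fun w hw => by
        have hle2 : ZT ⊔ Subgroup.zpowers t ≤ Subgroup.centralizer {t} := sup_le
          (fun z hz => Subgroup.mem_centralizer_singleton_iff.mpr (Subgroup.mem_centralizer_iff.mp hz.2 t ht).symm)
          (Subgroup.zpowers_le.mpr (Subgroup.mem_centralizer_singleton_iff.mpr rfl))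
        exact Subgroup.mem_centralizer_singleton_iff.mp (hle2 (Subgroup.subgroupOf_eq_top.mp hZ hw))
      have hle3 : ZT ⊔ Subgroup.zpowers t ≤ Subgroup.centralizer {v} := sup_le
        (fun z hz => Subgroup.mem_centralizer_singleton_iff.mpr (Subgroup.mem_centralizer_iff.mp hz.2 v hv).symm)
        (Subgroup.zpowers_le.mpr (Subgroup.mem_centralizer_singleton_iff.mpr (hc v hv).symm))
      exact Subgroup.mem_centralizer_singleton_iff.mp (hle3 (Subgroup.subgroupOf_eq_top.mp hZ hu))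
    have hN2 : p * p * Nat.card N ≤ Nat.card T := by
      obtain ⟨t, ht, htN⟩ := SetLike.not_le_iff_exists.mp (show ¬ T ≤ N from fun hle => hgenT 1 (one_mem T)
        (hle.trans le_sup_left))
      have h1 := mul_card_le_of_lt hP (lt_of_le_of_ne (le_sup_left : N ≤ N ⊔ Subgroup.zpowers t)
        fun e => htN (e.ge (Subgroup.mem_sup_right (Subgroup.mem_zpowers t))))
      have h2 := mul_card_le_of_lt hP (lt_of_le_of_ne (sup_le hNT (Subgroup.zpowers_le.mpr ht))
        fun e => hgenT t ht e.ge)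
      calc p * p * Nat.card N = p * (p * Nat.card N) := mul_assoc _ _ _
        _ ≤ _ := (Nat.mul_le_mul_left p h1).trans h2
    have hNn : ∀ e ∈ E₁, ∀ k ∈ N, e * k * e⁻¹ ∈ N := by
      intro e he k hk
      obtain ⟨t, ht, c, hc, rfl⟩ := hdec e he
      have e1 : t * c * k * (t * c)⁻¹ = t * k * t⁻¹ := by
        rw [mul_assoc t c k, ← Subgroup.mem_centralizer_iff.mp hc.2 k (hNT hk)]; group
      rw [e1]
      have hle : N ≤ N.comap (MulAut.conj t).toMonoidHom := by
        refine sup_le ?_ fun z hz => Subgroup.mem_sup_right ?_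
        · rintro _ ⟨f, hf, rfl⟩
          exact Subgroup.mem_sup_left
            ⟨⟨t, ht⟩ * f * ⟨t, ht⟩⁻¹, (inferInstance : (frattini T).Normal).conj_mem f hf _, rfl⟩
        · show t * z * t⁻¹ ∈ ZT
          rw [Subgroup.mem_centralizer_iff.mp hz.2 t ht, mul_inv_cancel_right]; exact hz
      exact hle hk
    have hsec := card_section_le hr E₁ N (hNT.trans hT1) hNn (fun u hu v hv => ?_) fun u hu => ?_
    · have h3 := (Nat.mul_le_mul_left (p * p) hN2).trans (hbig.trans hsec)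
      rw [← mul_assoc] at h3
      have h4 := Nat.le_of_mul_le_mul_right h3 Nat.card_pos
      rw [show p * p * (p * p) = p ^ 4 by ring] at h4
      exact absurd ((Nat.pow_le_pow_iff_right hp'.one_lt).mp h4) (by norm_num)
    · obtain ⟨t, ht, c, hc, rfl⟩ := hdec u hu
      obtain ⟨t', ht', c', hc', rfl⟩ := hdec v hv
      have hct : ∀ {a s}, a ∈ E₁ ⊓ Subgroup.centralizer (T : Set P) → s ∈ T → Commute s a :=
        fun {a s} ha hs => Subgroup.mem_centralizer_iff.mp ha.2 s hs
      have e : ⁅t * c, t' * c'⁆ = ⁅t, t'⁆ * ⁅c, c'⁆ := by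
        have hc'c : c * c' * c⁻¹ ∈ E₁ ⊓ Subgroup.centralizer (T : Set P) := mul_mem (mul_mem hc hc') (inv_mem hc)
        simp only [commutatorElement_def]
        calc t * c * (t' * c') * (t * c)⁻¹ * (t' * c')⁻¹
            = t * (c * t') * c' * c⁻¹ * t⁻¹ * c'⁻¹ * t'⁻¹ := by group
          _ = t * t' * (c * c' * c⁻¹) * t⁻¹ * c'⁻¹ * t'⁻¹ := by rw [← (hct hc ht').eq]; group
          _ = t * t' * t⁻¹ * ((c * c' * c⁻¹ * c'⁻¹) * t'⁻¹) := by
            rw [mul_assoc (t * t') _ t⁻¹, ← (hct hc'c (inv_mem ht)).eq]; group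
          _ = _ := by rw [← (hct (mul_mem hc'c (inv_mem hc')) (inv_mem ht')).eq]; group
      rw [e]
      refine mul_mem (Subgroup.mem_sup_left ⟨⁅⟨t, ht⟩, ⟨t', ht'⟩⁆, CfsgLib.PGroup.commutator_le_frattini hPT
        (Subgroup.commutator_mem_commutator (Subgroup.mem_top _) (Subgroup.mem_top _)), rfl⟩)
        (Subgroup.mem_sup_right ⟨hcomm c hc.1 c' hc'.1, ?_⟩)
      rw [commutatorElement_def]
      exact mul_mem (mul_mem (mul_mem hc.2 hc'.2) (Subgroup.inv_mem _ hc.2)) (Subgroup.inv_mem _ hc'.2)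
    · obtain ⟨t, ht, c, hc, rfl⟩ := hdec u hu
      rw [(show Commute t c from Subgroup.mem_centralizer_iff.mp hc.2 t ht).mul_pow]
      exact mul_mem (Subgroup.mem_sup_left ⟨⟨t, ht⟩ ^ p, CfsgLib.PGroup.pow_mem_frattini hPT _, rfl⟩)
        (Subgroup.mem_sup_right ⟨hpow c hc.1, pow_mem hc.2 p⟩)
  intro t ht
  have hTT : T ≤ Subgroup.centralizer (T : Set P) := fun s hs =>
    Subgroup.mem_centralizer_iff.mpr fun r hr' => hTab r hr' s hs
  refine h.central_of_commute (fun u hu => ?_) fun u hu => ?_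
  · exact (Subgroup.mem_centralizer_iff.mp ((sup_le hTT inf_le_right : T ⊔ _ ≤ _) (hE₁.ge hu)) t ht).symm
  · exact (Subgroup.mem_centralizer_iff.mp ((sup_le hTT inf_le_right : T ⊔ _ ≤ _) (hE₂.ge hu)) t ht).symm

end CfsgLib.RankThreePair
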