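import Cfsg.Agent.Lib.Fusion.RankThreePair.OrbitIn

/-!
The orbit `W` of `V` under the second group cannot be abelian.
-/

set_option autoImplicit false
set_option maxHeartbeats 800000

namespace CfsgLib.RankThreePair

open Cfsg
open scoped commutatorElement

variable {P : Type*} [Group P] [Finite P] {p : ℕ} [hp : Fact p.Prime] {E₁ E₂ : Subgroup P} [E₁.Normal] [E₂.Normal]
  {L₁ : Subgroup (MulAut E₁)} {L₂ : Subgroup (MulAut E₂)} {V : Subgroup P} {h : Pair p E₁ E₂ L₁ L₂}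

theorem false_of_abelian (hP : IsPGroup p P) (hodd : Odd p) (hr : SectionalPRankLE p 3 P) (hI : Inner p h V)
    (hab : ∀ u ∈ orb L₂ V, ∀ v ∈ orb L₂ V, u * v = v * u) : False := by
  have hp' : p.Prime := hp.out
  set W := orb L₂ V with hWdef
  set Z := omZ p P with hZdef
  have hWn : W.Normal := hI.normalW
  have hVn : V.Normal := hI.normalV
  have hVW : V ≤ W := le_orb _ _
  have hW3 : Nat.card W = p ^ 3 := by
    refine le_antisymm (card_le_of_elementary hr W hab hI.wexp) ?_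
    have := mul_card_le_of_lt hP (lt_of_le_of_ne hVW hI.wne.symm)
    rw [hI.cardV] at this
    rw [pow_succ']; exact this
  have hWE : W ≤ E₁ := fun w hw => hI.orbit.cent w fun v hv => hab w hw v (hVW hv)
  have hWV : ∀ g : P, ∀ w ∈ W, w⁻¹ * (g * w * g⁻¹) ∈ V := fun g w hw =>
    conj_mem_step hP hVW (by rw [hW3, hI.cardV]; ring) g hw
  set Q := orb L₁ W with hQdef
  have hQE : Q ≤ E₁ := orb_le_self hWE
  have hQinv : Inv L₁ Q := inv_orb L₁ hWE
  have hWQ : W ≤ Q := le_orb _ _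
  have hQcomm : ∀ u ∈ Q, ∀ e ∈ E₁, ⁅u, e⁆ ∈ V := by
    intro u hu e he
    let π := QuotientGroup.mk' V
    have hle : Q ≤ (Subgroup.centralizer ((E₁.map π : Subgroup (P ⧸ V)) : Set (P ⧸ V))).comap π := by
      refine orb_le fun a ha w hw => Subgroup.mem_centralizer_iff.mpr ?_
      rintro _ ⟨k, hk, rfl⟩
      refine (commutatorElement_eq_one_iff_mul_comm.mp ?_)
      rw [← map_commutatorElement]
      refine (QuotientGroup.eq_one_iff _).mpr ?_
      have hk' : ap a⁻¹ k ∈ E₁ := ap_mem _ hk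
      have hz : ⁅ap a⁻¹ k, w⁆ ∈ V := by
        have h1 := hWV (ap a⁻¹ k) w⁻¹ (inv_mem hw)
        have e1 : ⁅ap a⁻¹ k, w⁆ = (w⁻¹⁻¹ * (ap a⁻¹ k * w⁻¹ * (ap a⁻¹ k)⁻¹))⁻¹ := by
          rw [commutatorElement_def]; group
        rw [e1]
        exact inv_mem h1
      have e2 : ap a ⁅ap a⁻¹ k, w⁆ = ⁅k, ap a w⁆ := by
        simp only [commutatorElement_def]
        rw [ap_map_mul a (mul_mem (mul_mem hk' (hWE hw)) (inv_mem hk')) (inv_mem (hWE hw)),
          ap_map_mul a (mul_mem hk' (hWE hw)) (inv_mem hk'), ap_map_mul a hk' (hWE hw), ap_map_inv a hk',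
          ap_map_inv a (hWE hw), ap_self_inv]
      rw [← e2]
      exact hI.orbit.inv a ha _ hz
    have h1 := Subgroup.mem_centralizer_iff.mp (hle hu) (π e) (Subgroup.mem_map_of_mem π he)
    refine (QuotientGroup.eq_one_iff _).mp ?_
    show π ⁅u, e⁆ = 1
    rw [map_commutatorElement, commutatorElement_eq_one_iff_mul_comm]
    exact h1.symm
  have hc : ∀ u ∈ Q, ∀ v ∈ Q, ∀ g ∈ E₁, Commute g ⁅u, v⁆ := fun u hu v hv g hg =>
    hI.orbit.comm _ (hQcomm u hu v (hQE hv)) g hg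
  have hQexp : ∀ u ∈ Q, u ^ p = 1 := by
    refine exp_of_class_two hodd (S := {y | ∃ a ∈ L₁, ∃ w ∈ W, ap a w = y}) le_rfl Subgroup.subset_closure
      (fun u hu v hv g hg => hc u hu v hv g (hQE hg)) ?_
    rintro _ ⟨a, ha, w, hw, rfl⟩
    rw [← ap_map_pow a (hWE hw), hI.wexp w hw, ap_map_one]
  -- `Q` is not abelian
  have hnab : ¬ ∀ u ∈ Q, ∀ v ∈ Q, u * v = v * u := by
    intro hh
    have hle := card_le_of_elementary hr Q hh hQexp
    have hQW : Q = W := (Subgroup.eq_of_le_of_card_ge hWQ (hle.trans hW3.ge)).symm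
    have hb := hI.free W ⟨le_inf hWE (orb_le_self hI.le), hQW ▸ hQinv, inv_orb L₂ hI.le⟩
    rw [hb, Subgroup.card_bot] at hW3
    exact absurd hW3.symm (Nat.one_lt_pow (by norm_num) hp'.one_lt).ne'
  have hQQ : ⁅Q, Q⁆ = V := by
    have hle : ⁅Q, Q⁆ ≤ V := (Subgroup.commutator_le).mpr fun u hu v hv => hQcomm u hu v (hQE hv)
    have hne : ⁅Q, Q⁆ ≠ ⊥ := fun e => hnab fun u hu v hv => commutatorElement_eq_one_iff_mul_comm.mp
      (Subgroup.mem_bot.mp (e.le (Subgroup.commutator_mem_commutator hu hv)))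
    have hinv : Inv L₁ ⁅Q, Q⁆ := hQinv.commutator hQinv hQE hQE
    have hn : (⁅Q, Q⁆).Normal := h.v₁.normal_of_inv (hle.trans hI.orbit.leE) hinv
    obtain ⟨z, hz, hzZ, hz1⟩ := exists_mem_omZ hP hne
    refine le_antisymm hle ?_
    rw [hI.orbit.eq]
    refine orb_le fun a ha u hu => hinv a ha u ?_
    obtain ⟨k, hk⟩ := exists_zpow_eq hI.cardZ hzZ hz1 hu
    exact hk ▸ zpow_mem hz k
  obtain ⟨β, hβ, hβV⟩ := SetLike.exists_of_lt (lt_of_le_of_ne hVW hI.wne.symm)
  have hWgen : V ⊔ Subgroup.zpowers β = W := sup_zpowers_eq hVW (by rw [hW3, hI.cardV]; ring) hβ hβV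
  let ψ : ∀ (t : P), t ∈ Q → (Q →* P) := fun t ht => commHom t Q fun g hg k hk => hc t ht k hk g (hQE hg)
  have hψ : ∀ (t : P) (ht : t ∈ Q) (g : Q), ψ t ht g = ⁅t, (g : P)⁆ := fun _ _ _ => rfl
  -- the centraliser of `β` in `Q` is `W`
  have hker : ∀ k ∈ Q, ⁅β, k⁆ = 1 → k ∈ W := by
    intro k hk hk'
    obtain ⟨hc1, he1⟩ := elem_sup hab (elem_zpowers (hQexp k hk)).1 (fun u hu v hv => by
      have hle : W ≤ Subgroup.centralizer {v} := by
        obtain ⟨m, rfl⟩ := Subgroup.mem_zpowers_iff.mp hv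
        rw [← hWgen]
        refine sup_le (fun w hw => Subgroup.mem_centralizer_singleton_iff.mpr ?_)
          (Subgroup.zpowers_le.mpr (Subgroup.mem_centralizer_singleton_iff.mpr ?_))
        · exact (hI.orbit.comm w hw _ (zpow_mem (hQE hk) m)).symm
        · exact ((show Commute β k from commutatorElement_eq_one_iff_mul_comm.mp hk').zpow_right m).eq
      exact Subgroup.mem_centralizer_singleton_iff.mp (hle hu)) hI.wexp (elem_zpowers (hQexp k hk)).2
    exact (Subgroup.eq_of_le_of_card_ge (le_sup_left : W ≤ W ⊔ Subgroup.zpowers k)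
      ((card_le_of_elementary hr _ hc1 he1).trans hW3.ge)).ge (Subgroup.mem_sup_right (Subgroup.mem_zpowers k))
  set R := (ψ β (hWQ hβ)).range with hRdef
  have hRV : R ≤ V := by
    rintro _ ⟨g, rfl⟩
    exact hQcomm β (hWQ hβ) g (hQE g.2)
  have hcardQ : Nat.card Q = Nat.card W * Nat.card R := by
    rw [hRdef, ← Subgroup.index_ker, ← Subgroup.card_mul_index (ψ β (hWQ hβ)).ker]
    congr 1
    refine Nat.card_congr
      { toFun := fun g => ⟨(g.1 : P), hker _ g.1.2 g.2⟩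
        invFun := fun w => ⟨⟨w.1, hWQ w.2⟩, commutatorElement_eq_one_iff_mul_comm.mpr (hab β hβ _ w.2)⟩
        left_inv := fun _ => rfl
        right_inv := fun _ => rfl }
  have hRV' : R = V := by
    by_contra hne
    have hRc : Nat.card R ≤ p := by
      have := mul_card_le_of_lt hP (lt_of_le_of_ne hRV hne)
      rw [hI.cardV, pow_two] at this
      exact Nat.le_of_mul_le_mul_left this hp'.pos
    -- then all commutators of `Q` lie in `R`
    let T : P → Q → Prop := fun t g => ⁅t, (g : P)⁆ ∈ R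
    have hTW : ∀ w ∈ W, ∀ g ∈ Q, ⁅w, g⁆ ∈ R := by
      intro w hw g hg
      have hle : W.subgroupOf Q ≤ R.comap (ψ g hg) := by
        intro t ht
        have ht' : (t : P) ∈ V ⊔ Subgroup.zpowers β := hWgen.ge ht
        obtain ⟨v, hv, _, ⟨m, rfl⟩, hvm⟩ := Subgroup.mem_sup_of_normal_left.mp ht'
        show ⁅g, (t : P)⁆ ∈ R
        rw [← hvm]
        have hvQ : v ∈ Q := hWQ (hVW hv)
        rw [comm_mul_right (hc g hg _ (zpow_mem (hWQ hβ) m) v (hQE hvQ)),
          commutatorElement_eq_one_iff_mul_comm.mpr (hI.orbit.comm v hv g (hQE hg)), one_mul,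
          comm_zpow_right (hc g hg β (hWQ hβ) β (hQE (hWQ hβ))), ← commutatorElement_inv]
        exact zpow_mem (inv_mem (show ⁅β, g⁆ ∈ R from ⟨⟨g, hg⟩, rfl⟩)) m
      have := hle (show (⟨w, hWQ hw⟩ : Q) ∈ W.subgroupOf Q from hw)
      rw [← commutatorElement_inv]
      exact inv_mem this
    by_cases hQW : Q ≤ W
    · exact hnab fun u hu v hv => hab u (hQW hu) v (hQW hv)
    obtain ⟨w₀, hw₀, hw₀'⟩ := SetLike.not_le_iff_exists.mp hQW
    have hQgen : W ⊔ Subgroup.zpowers w₀ = Q := by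
      refine Subgroup.eq_of_le_of_card_ge (sup_le hWQ (Subgroup.zpowers_le.mpr hw₀)) ?_
      have := mul_card_le_of_lt hP (lt_of_le_of_ne (le_sup_left : W ≤ W ⊔ Subgroup.zpowers w₀)
        fun e => hw₀' (e.ge (Subgroup.mem_sup_right (Subgroup.mem_zpowers w₀))))
      rw [hcardQ, mul_comm]
      exact (Nat.mul_le_mul_right _ hRc).trans this
    have hw₀R : ∀ g ∈ Q, ⁅w₀, g⁆ ∈ R := by
      intro g hg
      have hle : W ⊔ Subgroup.zpowers w₀ ≤ (R.comap (ψ w₀ hw₀)).map Q.subtype := by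
        refine sup_le (fun w hw => ⟨⟨w, hWQ hw⟩, ?_, rfl⟩) (Subgroup.zpowers_le.mpr ⟨⟨w₀, hw₀⟩, ?_, rfl⟩)
        · show ⁅w₀, w⁆ ∈ R
          rw [← commutatorElement_inv]
          exact inv_mem (hTW w hw w₀ hw₀)
        · show ⁅w₀, w₀⁆ ∈ R
          rw [commutatorElement_self]; exact one_mem R
      obtain ⟨g', hg', hge⟩ := hle (hQgen.ge hg)
      rw [← hge]
      exact hg'
    refine hne (le_antisymm hRV ?_)
    rw [← hQQ, Subgroup.commutator_le]
    intro u hu v hv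
    have hle : W ⊔ Subgroup.zpowers w₀ ≤ (R.comap (ψ v hv)).map Q.subtype := by
      refine sup_le (fun w hw => ⟨⟨w, hWQ hw⟩, ?_, rfl⟩) (Subgroup.zpowers_le.mpr ⟨⟨w₀, hw₀⟩, ?_, rfl⟩)
      · show ⁅v, w⁆ ∈ R
        rw [← commutatorElement_inv]
        exact inv_mem (hTW w hw v hv)
      · show ⁅v, w₀⁆ ∈ R
        rw [← commutatorElement_inv]
        exact inv_mem (hw₀R v hv)
    obtain ⟨u', hu', hue⟩ := hle (hQgen.ge hu)
    rw [← hue, ← commutatorElement_inv]
    exact inv_mem hu'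
  -- two commuting elements outside `W`
  obtain ⟨e, heV, heZ, hVgen⟩ := hI.exists_a
  obtain ⟨z, hz, hz1⟩ := (Subgroup.bot_or_exists_ne_one Z).resolve_left fun e' => by
    have := hI.cardZ
    rw [← hZdef, e', Subgroup.card_bot] at this
    exact hp'.ne_one this.symm
  obtain ⟨⟨u, hu⟩, hu'⟩ := hRV'.ge (hI.orbit.omle hz)
  obtain ⟨⟨v, hv⟩, hv'⟩ := hRV'.ge heV
  change ⁅β, u⁆ = z at hu'
  change ⁅β, v⁆ = e at hv'
  have hZn : Z.Normal := hI.normalZ
  obtain ⟨_, hz0, _, ⟨j, rfl⟩, hij⟩ := Subgroup.mem_sup_of_normal_left.mp (hVgen.ge (hQcomm u hu v (hQE hv)))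
  obtain ⟨i, rfl⟩ := exists_zpow_eq hI.cardZ hz hz1 hz0
  dsimp only at hij
  have hβQ := hWQ hβ
  set u' := u * β ^ (-j) with hu'def
  set v' := v * β ^ i with hv'def
  have hu'Q : u' ∈ Q := mul_mem hu (zpow_mem hβQ _)
  have hv'Q : v' ∈ Q := mul_mem hv (zpow_mem hβQ _)
  have hβu : ⁅β, u'⁆ = z := by
    rw [hu'def, comm_mul_right (hc β hβQ _ (zpow_mem hβQ _) u (hQE hu)),
      comm_zpow_right (hc β hβQ β hβQ β (hQE hβQ)), commutatorElement_self, one_zpow, mul_one, hu']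
  have hβv : ⁅β, v'⁆ = e := by
    rw [hv'def, comm_mul_right (hc β hβQ _ (zpow_mem hβQ _) v (hQE hv)),
      comm_zpow_right (hc β hβQ β hβQ β (hQE hβQ)), commutatorElement_self, one_zpow, mul_one, hv']
  have huv : ⁅u', v'⁆ = 1 := by
    have h1 : ⁅u', v⁆ = z ^ i := by
      rw [← commutatorElement_inv, hu'def, comm_mul_right (hc v hv _ (zpow_mem hβQ _) u (hQE hu)),
        comm_zpow_right (hc v hv β hβQ β (hQE hβQ)), ← commutatorElement_inv u v, ← hij,
        ← commutatorElement_inv β v, hv', zpow_neg, inv_zpow, inv_inv, mul_inv_rev, inv_inv,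
        show (e ^ j)⁻¹ * (z ^ i * e ^ j) = z ^ i from by
          rw [← Subgroup.mem_center_iff.mp (zpow_mem hz.1 i) (e ^ j), inv_mul_cancel_left]]
    have h2 : ⁅u', β⁆ = z⁻¹ := by rw [← commutatorElement_inv, hβu]
    rw [hv'def, comm_mul_right (hc u' hu'Q _ (zpow_mem hβQ _) v (hQE hv)),
      comm_zpow_right (hc u' hu'Q β hβQ β (hQE hβQ)), h1, h2, inv_zpow, mul_inv_cancel]
  have hcomm' := commutatorElement_eq_one_iff_mul_comm.mp huv
  set A := V ⊔ Subgroup.zpowers u' ⊔ Subgroup.zpowers v' with hAdef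
  obtain ⟨hc1, he1⟩ := elem_sup (A := V) (B := Subgroup.zpowers u') (p := p) hI.orbit.comm'
    (elem_zpowers (hQexp u' hu'Q)).1
    (fun a ha b hb => (hI.orbit.comm a ha b (hQE ((Subgroup.zpowers_le.mpr hu'Q) hb))).symm) hI.orbit.exp
    (elem_zpowers (hQexp u' hu'Q)).2
  obtain ⟨hc2, he2⟩ := elem_sup (A := V ⊔ Subgroup.zpowers u') (B := Subgroup.zpowers v') (p := p) hc1
    (elem_zpowers (hQexp v' hv'Q)).1 (fun a ha b hb => by
      obtain ⟨m, rfl⟩ := Subgroup.mem_zpowers_iff.mp hb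
      have hle : V ⊔ Subgroup.zpowers u' ≤ Subgroup.centralizer {v'} := sup_le
        (fun w hw => Subgroup.mem_centralizer_singleton_iff.mpr (hI.orbit.comm w hw v' (hQE hv'Q)).symm)
        (Subgroup.zpowers_le.mpr (Subgroup.mem_centralizer_singleton_iff.mpr hcomm'))
      exact ((show Commute a v' from Subgroup.mem_centralizer_singleton_iff.mp (hle ha)).zpow_right m).eq) he1
    (elem_zpowers (hQexp v' hv'Q)).2
  have hAQ : A ≤ Q :=
    sup_le (sup_le (hVW.trans hWQ) (Subgroup.zpowers_le.mpr hu'Q)) (Subgroup.zpowers_le.mpr hv'Q)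
  let f : A →* P := (ψ β hβQ).comp (Subgroup.inclusion hAQ)
  have hfr : V ≤ f.range := by
    rw [← hVgen]
    refine sup_le (fun t ht => ?_) (Subgroup.zpowers_le.mpr ⟨⟨v', Subgroup.mem_sup_right (Subgroup.mem_zpowers v')⟩, hβv⟩)
    obtain ⟨k, rfl⟩ := exists_zpow_eq hI.cardZ hz hz1 ht
    exact zpow_mem (show z ∈ f.range from
      ⟨⟨u', Subgroup.mem_sup_left (Subgroup.mem_sup_right (Subgroup.mem_zpowers u'))⟩, hβu⟩) k
  have hfk : V.subgroupOf A ≤ f.ker := fun t ht => commutatorElement_eq_one_iff_mul_comm.mpr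
    (hab β hβ _ (hVW ht))
  have hVA : V ≤ A := le_sup_left.trans le_sup_left
  have h1 := Nat.mul_le_mul ((Nat.card_congr (Subgroup.subgroupOfEquivOfLe hVA).toEquiv).ge.trans
    (Subgroup.card_le_of_le hfk)) (Subgroup.card_le_of_le hfr)
  rw [← Subgroup.index_ker, Subgroup.card_mul_index, hI.cardV] at h1
  have h2 := h1.trans (card_le_of_elementary hr A hc2 he2)
  rw [← pow_add] at h2
  exact absurd ((Nat.pow_le_pow_iff_right hp'.one_lt).mp h2) (by norm_num)

end CfsgLib.RankThreePair
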