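import Cfsg.Agent.Lib.Fusion.RankThreePair.InnerLarge

/-!
The orbit `W` of `V` under the second group does not have order `p³` when it is not abelian.
-/

set_option autoImplicit false
set_option maxHeartbeats 1600000

namespace CfsgLib.RankThreePair

open Cfsg
open scoped commutatorElement

variable {P : Type*} [Group P] {p : ℕ} [hp : Fact p.Prime]

omit hp in
/-- Conjugation by powers of `b` when the second displacement is central. -/
theorem conj_pow_formula {b x u z : P} (hxu : b * x * b⁻¹ = x * u) (huz : b * u * b⁻¹ = u * z)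
    (hz : ∀ g : P, g * z = z * g) (m : ℕ) : b ^ m * x * (b ^ m)⁻¹ = x * u ^ m * z ^ (m.choose 2) := by
  induction m with
  | zero => simp
  | succ m ih =>
    have h1 : b * u ^ m * b⁻¹ = u ^ m * z ^ m := by
      rw [← conj_pow, huz, (show Commute u z from hz u).mul_pow]
    have hzc : b * z ^ (m.choose 2) * b⁻¹ = z ^ (m.choose 2) := by
      rw [((show Commute b z from hz b).pow_right _).eq, mul_inv_cancel_right]
    rw [pow_succ', show b * b ^ m * x * (b * b ^ m)⁻¹ = b * (b ^ m * x * (b ^ m)⁻¹) * b⁻¹ by group, ih,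
      show b * (x * u ^ m * z ^ m.choose 2) * b⁻¹ = b * x * b⁻¹ * (b * u ^ m * b⁻¹) * (b * z ^ m.choose 2 * b⁻¹) by group,
      hxu, h1, hzc, pow_succ', Nat.choose_succ_succ' m 1, Nat.choose_one_right, pow_add]
    simp only [mul_assoc]

variable [Finite P] {E₁ E₂ : Subgroup P} [E₁.Normal] [E₂.Normal]
  {L₁ : Subgroup (MulAut E₁)} {L₂ : Subgroup (MulAut E₂)} {V : Subgroup P} {h : Pair p E₁ E₂ L₁ L₂}

theorem false_of_card_three (hP : IsPGroup p P) (hodd : Odd p) (hr : SectionalPRankLE p 3 P) (hI : Inner p h V)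
    (hnab : ¬ ∀ u ∈ orb L₂ V, ∀ v ∈ orb L₂ V, u * v = v * u) (hW3 : Nat.card (orb L₂ V) = p ^ 3) : False := by
  have hp' : p.Prime := hp.out
  obtain ⟨a, haV, haZ, hVgen⟩ := hI.exists_a
  obtain ⟨hA0, hzk⟩ := hI.card_stab haV hnab hVgen
  set W := orb L₂ V with hWdef
  set Z := omZ p P with hZdef
  have hWn : W.Normal := hI.normalW
  have hVn : V.Normal := hI.normalV
  have hZn : Z.Normal := hI.normalZ
  have hVW : V ≤ W := le_orb _ _
  have hWE : W ≤ E₂ := orb_le_self hI.le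
  have haW : a ∈ W := hVW haV
  have haE₁ : a ∈ E₁ := hI.orbit.leE haV
  have hVA : V ≤ W ⊓ Subgroup.centralizer {a} := fun v hv =>
    ⟨hVW hv, Subgroup.mem_centralizer_singleton_iff.mpr (hI.orbit.comm' v hv a haV)⟩
  have hA₀V : V = W ⊓ Subgroup.centralizer {a} := Subgroup.eq_of_le_of_card_ge hVA
    (Nat.le_of_mul_le_mul_left (by rw [← hA0, hW3, hI.cardV, pow_succ']) hp'.pos)
  obtain ⟨b, hb, hbV⟩ := SetLike.exists_of_lt (lt_of_le_of_ne hVW hI.wne.symm)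
  have hWgen : V ⊔ Subgroup.zpowers b = W := sup_zpowers_eq hVW (by rw [hW3, hI.cardV]; ring) hb hbV
  have hab : ⁅a, b⁆ ≠ 1 := fun e => hbV (hA₀V.ge ⟨hb, Subgroup.mem_centralizer_singleton_iff.mpr
    (commutatorElement_eq_one_iff_mul_comm.mp e).symm⟩)
  have hbE₁ : b ∉ E₁ := fun hh => hab (commutatorElement_eq_one_iff_mul_comm.mpr (hI.orbit.comm a haV b hh).symm)
  have hbp : b ^ p = 1 := hI.wexp b hb
  -- the centraliser `C` of `W` in `E₂`
  set C := E₂ ⊓ Subgroup.centralizer (W : Set P) with hCdef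
  have hCinv : Inv L₂ C := by
    intro β hβ c hc
    refine ⟨ap_mem β hc.1, Subgroup.mem_centralizer_iff.mpr fun t ht => ?_⟩
    have ht' : ap β⁻¹ t ∈ W := inv_orb L₂ hI.le _ (inv_mem hβ) t ht
    have := congrArg (ap β) (Subgroup.mem_centralizer_iff.mp hc.2 _ ht')
    rwa [ap_map_mul β (hWE ht') hc.1, ap_map_mul β hc.1 (hWE ht'), ap_self_inv] at this
  have hCE : C ≤ E₂ := inf_le_left
  have hCn : C.Normal := h.v₂.normal_of_inv hCE hCinv
  have hCE₁ : C ≤ E₁ := fun c hc => hI.orbit.cent c fun v hv =>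
    (Subgroup.mem_centralizer_iff.mp hc.2 v (hVW hv)).symm
  have hZC : Z ≤ C := fun z hz => ⟨hI.orbit.omle.trans hI.le hz, Subgroup.mem_centralizer_iff.mpr fun t _ =>
    Subgroup.mem_center_iff.mp hz.1 t⟩
  have hCmem : ∀ c ∈ E₂, c * a = a * c → c * b = b * c → c ∈ C := fun c hc h1 h2 => by
    refine ⟨hc, Subgroup.mem_centralizer_iff.mpr fun t ht => ?_⟩
    have hle : V ⊔ Subgroup.zpowers b ≤ Subgroup.centralizer {c} := by
      rw [← hVgen]
      exact sup_le (sup_le (fun z hz => Subgroup.mem_centralizer_singleton_iff.mpr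
        (Subgroup.mem_center_iff.mp hz.1 c).symm)
        (Subgroup.zpowers_le.mpr (Subgroup.mem_centralizer_singleton_iff.mpr h1.symm)))
        (Subgroup.zpowers_le.mpr (Subgroup.mem_centralizer_singleton_iff.mpr h2.symm))
    exact Subgroup.mem_centralizer_singleton_iff.mp (hle (hWgen.ge ht))
  -- every element of `E₂` is in `C ⊔ W`
  have hdec : ∀ e ∈ E₂, ∃ c ∈ C, ∃ l m : ℤ, e = c * a ^ m * b ^ l := by
    intro e he
    have hbE := hWE hb
    have haE := hWE haW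
    obtain ⟨l, hl⟩ := hzk (hI.wz a haW e he) hb hab
    set e₁ := e * (b ^ l)⁻¹ with he₁
    have hblE : b ^ l ∈ E₂ := zpow_mem hbE l
    have h1 : ⁅a, e₁⁆ = 1 := by
      have : ⁅a, e₁ * b ^ l⁆ = ⁅a, e₁⁆ * ⁅a, b ^ l⁆ := comm_mul_right (hI.commW a haW _ hblE e₁)
      rw [he₁, inv_mul_cancel_right, hl] at this
      exact mul_eq_right.mp this.symm
    have he₁E : e₁ ∈ E₂ := mul_mem he (inv_mem hblE)
    have hba : ⁅b, a⁆ ≠ 1 := fun hh => hab (by rw [← commutatorElement_inv, hh, inv_one])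
    obtain ⟨m, hm⟩ := exists_zpow_eq hI.cardZ (hI.wz b hb a haE) hba (hI.wz b hb e₁ he₁E)
    have hamE : a ^ m ∈ E₂ := zpow_mem haE m
    set c := e₁ * (a ^ m)⁻¹ with hcdef
    have h2 : ⁅b, c⁆ = 1 := by
      have : ⁅b, c * a ^ m⁆ = ⁅b, c⁆ * ⁅b, a ^ m⁆ := comm_mul_right (hI.commW b hb _ hamE c)
      rw [hcdef, inv_mul_cancel_right, comm_zpow_right (hI.commW b hb a haE a), hm] at this
      exact mul_eq_right.mp this.symm
    have h3 : c * a = a * c := by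
      have h1' : Commute a e₁ := commutatorElement_eq_one_iff_mul_comm.mp h1
      exact ((h1'.mul_right (((Commute.refl a).zpow_right m).inv_right)).eq).symm
    refine ⟨c, hCmem c (mul_mem he₁E (inv_mem hamE)) h3 (commutatorElement_eq_one_iff_mul_comm.mp h2).symm, l, m, ?_⟩
    rw [hcdef, inv_mul_cancel_right, he₁, inv_mul_cancel_right]
  have hdec' : ∀ e ∈ E₂, ∃ c ∈ C, ∃ w ∈ W, e = c * w := fun e he => by
    obtain ⟨c, hc, l, m, rfl⟩ := hdec e he
    exact ⟨c, hc, a ^ m * b ^ l, mul_mem (zpow_mem haW m) (zpow_mem hb l), mul_assoc _ _ _⟩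
  -- `E₂ / (Φ(C) Z)` is elementary
  set N := (frattini C).map C.subtype ⊔ Z with hNdef
  have hNC : N ≤ C := sup_le (Subgroup.map_subtype_le _) hZC
  have hPC : IsPGroup p C := hP.to_subgroup C
  have hNpow : ∀ c ∈ C, c ^ p ∈ N := fun c hc => Subgroup.mem_sup_left
    ⟨⟨c, hc⟩ ^ p, CfsgLib.PGroup.pow_mem_frattini hPC _, rfl⟩
  have hNcomm : ∀ c ∈ C, ∀ c' ∈ C, ⁅c, c'⁆ ∈ N := fun c hc c' hc' => Subgroup.mem_sup_left
    ⟨⁅⟨c, hc⟩, ⟨c', hc'⟩⁆, CfsgLib.PGroup.commutator_le_frattini hPC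
      (Subgroup.commutator_mem_commutator (Subgroup.mem_top _) (Subgroup.mem_top _)), rfl⟩
  have hCW : ∀ c ∈ C, ∀ w ∈ W, Commute c w := fun c hc w hw => (Subgroup.mem_centralizer_iff.mp hc.2 w hw).symm
  have hNn : ∀ e ∈ E₂, ∀ k ∈ N, e * k * e⁻¹ ∈ N := by
    intro e he k hk
    obtain ⟨c, hc, w, hw, rfl⟩ := hdec' e he
    have h1 : c * w * k * (c * w)⁻¹ = c * k * c⁻¹ := by
      rw [mul_assoc c w k, ← (hCW k (hNC hk) w hw).eq]; group
    have h2 := Subgroup.Normal.conj_mem (inferInstance : (frattini C).Normal)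
    rw [h1]
    have hle : N ≤ N.comap (MulAut.conj c).toMonoidHom := by
      refine sup_le ?_ fun z hz => Subgroup.mem_sup_right (hZn.conj_mem z hz c)
      rintro _ ⟨f, hf, rfl⟩
      exact Subgroup.mem_sup_left ⟨⟨c, hc⟩ * f * ⟨c, hc⟩⁻¹, h2 f hf _, rfl⟩
    exact hle hk
  have hE₂le : Nat.card E₂ ≤ p ^ 3 * Nat.card N := by
    refine card_section_le hr E₂ N (hNC.trans hCE) hNn (fun u hu v hv => ?_) fun u hu => ?_
    · obtain ⟨c, hc, w, hw, rfl⟩ := hdec' u hu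
      obtain ⟨c', hc', w', hw', rfl⟩ := hdec' v hv
      have e : ⁅c * w, c' * w'⁆ = ⁅c, c'⁆ * ⁅w, w'⁆ := by
        simp only [commutatorElement_def]
        calc c * w * (c' * w') * (c * w)⁻¹ * (c' * w')⁻¹
            = c * (w * c') * w' * (w⁻¹ * c⁻¹) * w'⁻¹ * c'⁻¹ := by group
          _ = c * c' * (w * w' * w⁻¹) * c⁻¹ * w'⁻¹ * c'⁻¹ := by rw [← (hCW c' hc' w hw).eq]; group
          _ = c * c' * c⁻¹ * (w * w' * w⁻¹ * w'⁻¹) * c'⁻¹ := by
            rw [mul_assoc (c * c') (w * w' * w⁻¹) c⁻¹,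
              ← (hCW c hc _ (mul_mem (mul_mem hw hw') (inv_mem hw))).inv_left.eq]
            group
          _ = _ := by
            rw [mul_assoc (c * c' * c⁻¹) _ c'⁻¹, ← (hCW c' hc' _ (mul_mem (mul_mem (mul_mem hw hw') (inv_mem hw))
              (inv_mem hw'))).inv_left.eq]
            group
      rw [e]
      exact mul_mem (hNcomm c hc c' hc') (Subgroup.mem_sup_right (hI.wz w hw w' (hWE hw')))
    · obtain ⟨c, hc, w, hw, rfl⟩ := hdec' u hu
      rw [(hCW c hc w hw).mul_pow, hI.wexp w hw, mul_one]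
      exact hNpow c hc
  have haC : a ∉ C := fun hh => hab (commutatorElement_eq_one_iff_mul_comm.mpr
    (Subgroup.mem_centralizer_iff.mp hh.2 b hb).symm)
  have hlt1 : C < C ⊔ Subgroup.zpowers a := lt_of_le_of_ne le_sup_left
    fun e => haC (e.ge (Subgroup.mem_sup_right (Subgroup.mem_zpowers a)))
  have hCaD : C ⊔ Subgroup.zpowers a ≤ E₁ ⊓ E₂ :=
    sup_le (le_inf hCE₁ hCE) (Subgroup.zpowers_le.mpr ⟨haE₁, hWE haW⟩)
  have hCN : Nat.card C ≤ p * Nat.card N := by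
    have h1 := mul_card_le_of_lt hP hlt1
    have h2 := mul_card_le_of_lt hP (lt_of_le_of_ne (inf_le_right : E₁ ⊓ E₂ ≤ E₂)
      fun e => hbE₁ (e.ge (hWE hb)).1)
    have h3 := (Nat.mul_le_mul_left p (h1.trans (Subgroup.card_le_of_le hCaD))).trans (h2.trans hE₂le)
    refine Nat.le_of_mul_le_mul_left ?_ (Nat.mul_pos hp'.pos hp'.pos)
    calc p * p * Nat.card C = p * (p * Nat.card C) := mul_assoc _ _ _
      _ ≤ p ^ 3 * Nat.card N := h3
      _ = _ := by ring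
  -- `C` is abelian
  obtain ⟨c₀, hc₀, hc₀gen⟩ : ∃ c₀ ∈ C, Z ⊔ Subgroup.zpowers c₀ = C := by
    obtain ⟨c₀, hc₀, hgen⟩ : ∃ c₀ ∈ C, N ⊔ Subgroup.zpowers c₀ = C := by
      by_cases hNC' : C ≤ N
      · exact ⟨1, one_mem _, by rw [Subgroup.zpowers_one_eq_bot, sup_bot_eq]; exact le_antisymm hNC hNC'⟩
      obtain ⟨c₀, hc₀, hc₀N⟩ := SetLike.not_le_iff_exists.mp hNC'
      refine ⟨c₀, hc₀, Subgroup.eq_of_le_of_card_ge (sup_le hNC (Subgroup.zpowers_le.mpr hc₀)) (hCN.trans ?_)⟩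
      exact mul_card_le_of_lt hP (lt_of_le_of_ne le_sup_left
        fun e => hc₀N (e.ge (Subgroup.mem_sup_right (Subgroup.mem_zpowers c₀))))
    refine ⟨c₀, hc₀, le_antisymm (sup_le hZC (Subgroup.zpowers_le.mpr hc₀)) ?_⟩
    have hK : ((Z ⊔ Subgroup.zpowers c₀).subgroupOf C) = ⊤ := by
      refine frattini_nongenerating ?_
      rw [eq_top_iff]
      intro c _
      have hc : (c : P) ∈ N ⊔ Subgroup.zpowers c₀ := hgen.ge c.2
      have hle : N ⊔ Subgroup.zpowers c₀ ≤ ((Z ⊔ Subgroup.zpowers c₀).subgroupOf C ⊔ frattini C).map C.subtype := by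
        refine sup_le (sup_le (Subgroup.map_mono le_sup_right) fun z hz => ?_) (Subgroup.zpowers_le.mpr ?_)
        · exact ⟨⟨z, hZC hz⟩, Subgroup.mem_sup_left (Subgroup.mem_sup_left hz), rfl⟩
        · exact ⟨⟨c₀, hc₀⟩, Subgroup.mem_sup_left (Subgroup.mem_sup_right (Subgroup.mem_zpowers c₀)), rfl⟩
      obtain ⟨c', hc', hcc⟩ := hle hc
      rwa [← show c' = c from Subtype.ext hcc]
    exact fun c hc => Subgroup.subgroupOf_eq_top.mp hK hc
  have hCab : ∀ u ∈ C, ∀ v ∈ C, u * v = v * u := by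
    intro u hu v hv
    have h1 : ∀ t ∈ C, t * c₀ = c₀ * t := fun t ht => by
      have hle : Z ⊔ Subgroup.zpowers c₀ ≤ Subgroup.centralizer {c₀} := sup_le
        (fun z hz => Subgroup.mem_centralizer_singleton_iff.mpr (Subgroup.mem_center_iff.mp hz.1 c₀).symm)
        (Subgroup.zpowers_le.mpr (Subgroup.mem_centralizer_singleton_iff.mpr rfl))
      exact Subgroup.mem_centralizer_singleton_iff.mp (hle (hc₀gen.ge ht))
    have hle : Z ⊔ Subgroup.zpowers c₀ ≤ Subgroup.centralizer {v} := sup_le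
      (fun z hz => Subgroup.mem_centralizer_singleton_iff.mpr (Subgroup.mem_center_iff.mp hz.1 v).symm)
      (Subgroup.zpowers_le.mpr (Subgroup.mem_centralizer_singleton_iff.mpr (h1 v hv).symm))
    exact Subgroup.mem_centralizer_singleton_iff.mp (hle (hc₀gen.ge hu))
  -- `E₁` is abelian and `C` is central
  set D₀ := E₁ ⊓ E₂ with hD₀def
  have hD₀gen : D₀ = C ⊔ Subgroup.zpowers a := by
    refine le_antisymm (fun e he => ?_) hCaD
    obtain ⟨c, hc, l, m, rfl⟩ := hdec e he.2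
    have hbl : b ^ l ∈ E₁ := by
      have := mul_mem (inv_mem (mul_mem (hCE₁ hc) (zpow_mem haE₁ m))) he.1
      rwa [inv_mul_cancel_left] at this
    have : b ^ l = 1 := by
      by_cases hl : (p : ℤ) ∣ l
      · obtain ⟨t, rfl⟩ := hl
        rw [zpow_mul, zpow_natCast, hbp, one_zpow]
      · exact absurd (mem_of_zpow_mem hl (by rw [hbp]; exact one_mem E₁) hbl) hbE₁
    rw [this, mul_one]
    exact mul_mem (Subgroup.mem_sup_left hc) (Subgroup.mem_sup_right (Subgroup.zpow_mem_zpowers a m))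
  obtain ⟨x, hxE, hx⟩ := hI.exists_x
  have hgen₁ : D₀ ⊔ Subgroup.zpowers x = E₁ := sup_zpowers_eq inf_le_left h.card₁ hxE fun hh => hx hh.2
  let π := QuotientGroup.mk' C
  have hE₁C : ⁅E₁, E₁⁆ ≤ C := by
    have hxa : π x * π a = π a * π x := by rw [← map_mul, ← map_mul, hI.orbit.comm a haV x hxE]
    have hE : E₁.map π ≤ Subgroup.zpowers (π a) ⊔ Subgroup.zpowers (π x) := by
      rw [← hgen₁, hD₀gen, Subgroup.map_le_iff_le_comap]
      refine sup_le (sup_le (fun c hc => ?_) (Subgroup.zpowers_le.mpr (Subgroup.mem_sup_left (Subgroup.mem_zpowers _))))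
        (Subgroup.zpowers_le.mpr (Subgroup.mem_sup_right (Subgroup.mem_zpowers _)))
      rw [Subgroup.mem_comap, show π c = 1 from (QuotientGroup.eq_one_iff c).mpr hc]
      exact one_mem _
    rw [Subgroup.commutator_le]
    intro u hu v hv
    refine (QuotientGroup.eq_one_iff _).mp ?_
    show π ⁅u, v⁆ = 1
    rw [map_commutatorElement, commutatorElement_eq_one_iff_mul_comm]
    have hab' : ∀ q ∈ ({π a, π x} : Set (P ⧸ C)), ∀ q' ∈ ({π a, π x} : Set (P ⧸ C)), q * q' = q' * q := by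
      rintro q (rfl | rfl) q' (rfl | rfl)
      exacts [rfl, hxa.symm, hxa, rfl]
    have hle : Subgroup.zpowers (π a) ⊔ Subgroup.zpowers (π x) ≤ Subgroup.closure {π a, π x} :=
      sup_le (Subgroup.zpowers_le.mpr (Subgroup.subset_closure (by simp)))
        (Subgroup.zpowers_le.mpr (Subgroup.subset_closure (by simp)))
    have := Subgroup.isMulCommutative_closure hab'
    exact congrArg Subtype.val (mul_comm'
      (⟨π u, hle (hE (Subgroup.mem_map_of_mem π hu))⟩ : Subgroup.closure ({π a, π x} : Set (P ⧸ C)))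
      ⟨π v, hle (hE (Subgroup.mem_map_of_mem π hv))⟩)
  have hcomm₁ : ∀ u ∈ E₁, ∀ v ∈ E₁, u * v = v * u := by
    intro u hu v hv
    by_contra hne
    have hne' : ⁅E₁, E₁⁆ ≠ ⊥ := fun e => hne (commutatorElement_eq_one_iff_mul_comm.mp
      (Subgroup.mem_bot.mp (e.le (Subgroup.commutator_mem_commutator hu hv))))
    have hinv : Inv L₁ ⁅E₁, E₁⁆ := (inv_self L₁).commutator (inv_self L₁) le_rfl le_rfl
    obtain ⟨z, hz, hzZ, hz1⟩ := exists_mem_omZ hP hne'
    refine haC (hE₁C ?_)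
    have hle : V ≤ ⁅E₁, E₁⁆ := by
      rw [hI.orbit.eq]
      refine orb_le fun β hβ t ht => hinv β hβ t ?_
      obtain ⟨k, hk⟩ := exists_zpow_eq hI.cardZ hzZ hz1 ht
      exact hk ▸ zpow_mem hz k
    exact hle haV
  have hCcen : C ≤ Subgroup.center P := fun c hc => h.central_of_commute
    (fun u hu => hcomm₁ u hu c (hCE₁ hc)) fun u hu => by
      obtain ⟨c', hc', w, hw, rfl⟩ := hdec' u hu
      exact ((show Commute c' c from hCab c' hc' c hc).mul_left (hCW c hc w hw).symm).eq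
  -- `E₁` has exponent `p`
  set u := x⁻¹ * (b * x * b⁻¹) with hudef
  have huD : u ∈ D₀ := h.quot_mem b x
  have hxu : b * x * b⁻¹ = x * u := by rw [hudef, mul_inv_cancel_left]
  obtain ⟨c₁, hc₁, _, ⟨i, rfl⟩, hu⟩ := Subgroup.mem_sup_of_normal_left.mp (hD₀gen.le huD)
  dsimp only at hu
  set za := a⁻¹ * (b * a * b⁻¹) with hzadef
  have hzaZ : za ∈ Z := conj_mem_step hP hI.orbit.omle (by rw [hI.cardV, hI.cardZ]; ring) b haV
  have huz : b * u * b⁻¹ = u * za ^ i := by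
    have e1 : b * a * b⁻¹ = a * za := by rw [hzadef, mul_inv_cancel_left]
    rw [← hu, show b * (c₁ * a ^ i) * b⁻¹ = b * c₁ * b⁻¹ * (b * a ^ i * b⁻¹) by group,
      ← Subgroup.mem_center_iff.mp (hCcen hc₁) b |>.symm, mul_inv_cancel_right, ← conj_zpow, e1,
      (show Commute a za from Subgroup.mem_center_iff.mp hzaZ.1 a).mul_zpow, mul_assoc]
  have hzz : ∀ g : P, g * za ^ i = za ^ i * g := fun g => Subgroup.mem_center_iff.mp (zpow_mem hzaZ.1 i) g
  have hup : u ^ p = 1 := by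
    have e := conj_pow_formula hxu huz hzz p
    rw [hbp, one_mul, inv_one, mul_one] at e
    have hz2 : (za ^ i) ^ p.choose 2 = 1 := by
      have hd : p ∣ p.choose 2 := hp'.dvd_choose_self (by norm_num) (by
        rcases hp'.two_le.lt_or_eq with hh | hh
        · exact hh
        · rw [← hh] at hodd; exact absurd hodd (by decide))
      obtain ⟨t, ht⟩ := hd
      rw [ht, pow_mul, show (za ^ i) ^ p = 1 from by
        rw [← zpow_natCast, ← zpow_mul, mul_comm, zpow_mul, zpow_natCast, hzaZ.2, one_zpow], one_pow]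
    rw [hz2, mul_one] at e
    exact mul_eq_left.mp e.symm
  have hbcomm : b * x ^ p = x ^ p * b := by
    refine mul_inv_eq_iff_eq_mul.mp ?_
    rw [← conj_pow, hxu, (show Commute x u from hcomm₁ x hxE u huD.1).mul_pow, hup, mul_one]
  have hxpC : x ^ p ∈ C := by
    have hxD : x ^ p ∈ D₀ := ⟨pow_mem hxE p, h.v₂.conj_pow_mem x⟩
    exact hCmem _ hxD.2 (hcomm₁ _ hxD.1 a haE₁) hbcomm.symm
  have hpowC : ∀ t ∈ E₁, t ^ p ∈ C := by
    intro t ht
    let T : Subgroup P :=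
      { carrier := {t | t ∈ E₁ ∧ t ^ p ∈ C}
        one_mem' := ⟨one_mem _, by rw [one_pow]; exact one_mem C⟩
        mul_mem' := fun {s t} hs ht => ⟨mul_mem hs.1 ht.1, by
          rw [(show Commute s t from hcomm₁ s hs.1 t ht.1).mul_pow]; exact mul_mem hs.2 ht.2⟩
        inv_mem' := fun {s} hs => ⟨inv_mem hs.1, by rw [inv_pow]; exact inv_mem hs.2⟩ }
    have hle : E₁ ≤ T := by
      rw [← hgen₁, hD₀gen]
      exact sup_le (sup_le (fun c hc => ⟨hCE₁ hc, pow_mem hc p⟩)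
        (Subgroup.zpowers_le.mpr ⟨haE₁, by rw [hI.orbit.exp a haV]; exact one_mem C⟩))
        (Subgroup.zpowers_le.mpr ⟨hxE, hxpC⟩)
    exact (hle ht).2
  let Ep : Subgroup P :=
    { carrier := {s | ∃ t ∈ E₁, t ^ p = s}
      one_mem' := ⟨1, one_mem _, one_pow p⟩
      mul_mem' := fun {s s'} ⟨t, ht, hs⟩ ⟨t', ht', hs'⟩ => ⟨t * t', mul_mem ht ht', by
        rw [(show Commute t t' from hcomm₁ t ht t' ht').mul_pow, hs, hs']⟩
      inv_mem' := fun {s} ⟨t, ht, hs⟩ => ⟨t⁻¹, inv_mem ht, by rw [inv_pow, hs]⟩ }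
  have hEp : Ep = ⊥ := by
    by_contra hne
    have hEpE : Ep ≤ E₁ := by rintro _ ⟨t, ht, rfl⟩; exact pow_mem ht p
    have hEpinv : Inv L₁ Ep := by
      rintro β hβ _ ⟨t, ht, rfl⟩
      exact ⟨ap β t, ap_mem β ht, (ap_map_pow β ht p).symm⟩
    have hEpn : Ep.Normal := h.v₁.normal_of_inv hEpE hEpinv
    obtain ⟨z, hz, hzZ, hz1⟩ := exists_mem_omZ hP hne
    have hle : V ≤ Ep := by
      rw [hI.orbit.eq]
      refine orb_le fun β hβ t ht => hEpinv β hβ t ?_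
      obtain ⟨k, hk⟩ := exists_zpow_eq hI.cardZ hzZ hz1 ht
      exact hk ▸ zpow_mem hz k
    obtain ⟨t, ht, hta⟩ := hle haV
    exact haC (hta ▸ hpowC t ht)
  have hexp₁ : ∀ t ∈ E₁, t ^ p = 1 := fun t ht => Subgroup.mem_bot.mp (hEp.le ⟨t, ht, rfl⟩)
  have hCZ : C = Z := le_antisymm (fun c hc => ⟨hCcen hc, hexp₁ c (hCE₁ hc)⟩) hZC
  have hD₀V : D₀ = V := by rw [hD₀gen, hCZ, hVgen]
  have hcard₁ : Nat.card E₁ = p ^ 3 := by rw [h.card₁, ← hD₀def, hD₀V, hI.cardV]; ring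
  -- the splitting of `V`
  have hH : ∀ v ∈ V, (v ∈ Z ↔ v⁻¹ * (b * v * b⁻¹) ∈ (⊥ : Subgroup P)) := fun v hv => by
    rw [Subgroup.mem_bot, inv_mul_eq_one, eq_comm, mul_inv_eq_iff_eq_mul]
    exact ⟨fun hz => Subgroup.mem_center_iff.mp hz.1 b, fun hg => hI.orbit.fixed v hv b hbE₁ hg⟩
  obtain ⟨β₁, hβ₁, z₁, hz₁, hz₁'⟩ : ∃ β ∈ L₁, ∃ z ∈ Z, ap β z ∉ Z := by
    by_contra! hh
    exact hI.orbit.omlt.ne (le_antisymm hI.orbit.omle (by rw [hI.orbit.eq]; exact orb_le hh))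
  obtain ⟨D, Pl, s, n, hS⟩ := exists_split_section hP h.v₁ hbE₁ V ⊥ Z bot_le hI.orbit.leE hI.orbit.inv (inv_bot L₁)
    (fun t ht v hv => by
      rw [Subgroup.mem_bot, commutatorElement_eq_one_iff_mul_comm]; exact hI.orbit.comm' t ht v hv)
    (fun t ht => by rw [Subgroup.mem_bot]; exact hI.orbit.exp t ht)
    (fun e he t ht => by
      rw [Subgroup.mem_bot, hI.orbit.comm t ht e he, mul_inv_cancel_right, inv_mul_cancel])
    hI.orbit.omle hH (by rw [hI.cardV, hI.cardZ]; ring) ⟨β₁, hβ₁, z₁, hz₁, hz₁'⟩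
  have hPl : Pl = V := Subgroup.eq_of_le_of_card_ge hS.PlX
    (by rw [hS.cardPl, hI.cardV, Subgroup.card_bot, mul_one])
  have hs1 : s ≠ 1 := fun e => hS.sD (e ▸ one_mem D)
  have hnz : ∀ t ∈ Z, ap n t = t⁻¹ := by
    intro t ht
    obtain ⟨k, rfl⟩ := exists_zpow_eq hI.cardZ hS.sH hs1 ht
    have hns : s * ap n s = 1 := Subgroup.mem_bot.mp hS.ns
    rw [ap_map_zpow n (hI.orbit.leE (hI.orbit.omle hS.sH)), eq_inv_of_mul_eq_one_right hns, inv_zpow]
  obtain ⟨z₂, hz₂, hna⟩ : ∃ z ∈ Z, ap n a = a⁻¹ * z := by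
    refine ⟨a * ap n a, ?_, (inv_mul_cancel_left a _).symm⟩
    have h1 := hS.nPl a (hPl.ge haV)
    rw [bot_sup_eq] at h1
    exact (Subgroup.zpowers_le.mpr hS.sH) h1
  have htriv₁ := h.v₁.trivial_of hI.orbit.leE le_rfl (inv_self L₁) hI.orbit.inv fun g t ht => by
    refine conj_mem_step hP hI.orbit.leE ?_ g ht
    rw [hcard₁, hI.cardV]; ring
  obtain ⟨φ, hφE, -, -⟩ := h.t₁ n hS.nL hS.nU
  obtain ⟨ν, e₀, he₀, hφb⟩ := exists_pow_mul h.v₁.index hbE₁ (φ b)
  have hbv : ∀ t ∈ E₁, φ b * t * (φ b)⁻¹ = b ^ ν * t * (b ^ ν)⁻¹ := fun t ht => by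
    rw [hφb, show b ^ ν * e₀ * t * (b ^ ν * e₀)⁻¹ = b ^ ν * (e₀ * t * e₀⁻¹) * (b ^ ν)⁻¹ by group,
      hcomm₁ e₀ he₀ t ht, mul_inv_cancel_right]
  -- `u` is not in `Z`
  have huZ : u ∉ Z := by
    intro hu'
    let f : E₁ →* P :=
      { toFun := fun t => (t : P)⁻¹ * (b * t * b⁻¹)
        map_one' := by simp
        map_mul' := fun s t => by
          have hc : Commute ((s : P)⁻¹ * (b * s * b⁻¹)) (t : P)⁻¹ :=
            hcomm₁ _ (mul_mem (inv_mem s.2) ((inferInstance : E₁.Normal).conj_mem _ s.2 b)) _ (inv_mem t.2)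
          show ((s : P) * t)⁻¹ * (b * (s * t) * b⁻¹) = (s : P)⁻¹ * (b * s * b⁻¹) * ((t : P)⁻¹ * (b * t * b⁻¹))
          rw [← mul_assoc _ (t : P)⁻¹, hc.eq]; group }
    have hle : E₁ ≤ (Z.comap f).map E₁.subtype := by
      refine hgen₁.ge.trans
        (sup_le (fun v hv => ⟨⟨v, hv.1⟩, ?_, rfl⟩) (Subgroup.zpowers_le.mpr ⟨⟨x, hxE⟩, ?_, rfl⟩))
      · exact conj_mem_step hP hI.orbit.omle (by rw [hI.cardV, hI.cardZ]; ring) b (hD₀V.le hv)
      · exact hu'
    have hr' : Nat.card f.range ≤ p := by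
      refine le_trans (Subgroup.card_le_of_le ?_) hI.cardZ.le
      rintro _ ⟨t, rfl⟩
      obtain ⟨t', ht', htt⟩ := hle t.2
      rw [← show t' = t from Subtype.ext htt]
      exact ht'
    have hk : Nat.card f.ker ≤ p := by
      let g : f.ker → Z := fun t => ⟨((t : E₁) : P), h.central_of_commute
        (fun w hw => hcomm₁ w hw _ t.1.2) (fun w hw => by
          have htb : b * ((t : E₁) : P) = ((t : E₁) : P) * b :=
            mul_inv_eq_iff_eq_mul.mp (inv_mul_eq_one.mp (show f t.1 = 1 from t.2)).symm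
          obtain ⟨c, hc, l, m, rfl⟩ := hdec w hw
          have h1 : Commute c ((t : E₁) : P) := hcomm₁ c (hCE₁ hc) _ t.1.2
          have h2 : Commute (a ^ m) ((t : E₁) : P) := hcomm₁ _ (zpow_mem haE₁ m) _ t.1.2
          exact ((h1.mul_left h2).mul_left ((show Commute b _ from htb).zpow_left l)).eq), hexp₁ _ t.1.2⟩
      exact (Nat.card_le_card_of_injective g fun s t hst => Subtype.ext (Subtype.ext
        (congrArg (fun z : Z => (z : P)) hst))).trans hI.cardZ.le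
    have h1 := Nat.mul_le_mul hk hr'
    rw [← Subgroup.index_ker, Subgroup.card_mul_index, hcard₁, ← pow_two] at h1
    exact absurd ((Nat.pow_le_pow_iff_right hp'.one_lt).mp h1) (by norm_num)
  have hzzZ : za ^ i ∈ Z := zpow_mem hzaZ i
  have hua : u = c₁ * a ^ i := hu.symm
  have hc₁Z : c₁ ∈ Z := hCZ ▸ hc₁
  -- the two sides for `a`
  have hconjA : b ^ ν * a * (b ^ ν)⁻¹ = a * za ^ ν := by
    have e1 : b * a * b⁻¹ = a * za := by rw [hzadef, mul_inv_cancel_left]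
    have e2 : b * za * b⁻¹ = za * 1 := by
      rw [Subgroup.mem_center_iff.mp hzaZ.1 b, mul_inv_cancel_right, mul_one]
    rw [conj_pow_formula e1 e2 (fun g => by simp) ν, one_pow, mul_one]
  have hza1 : za ≠ 1 := fun hh => hab (by
    rw [hzadef, inv_mul_eq_one, eq_mul_inv_iff_mul_eq] at hh
    exact commutatorElement_eq_one_iff_mul_comm.mpr hh)
  -- apply `φ` to `b a b⁻¹ = a za`
  have hkey : za ^ ν = za := by
    have h1 : φ (b * a * b⁻¹) = φ (a * za) := by rw [hzadef, mul_inv_cancel_left]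
    have hzaE : za ∈ E₁ := hI.orbit.leE (hI.orbit.omle hzaZ)
    have hφz₂ : b ^ ν * z₂ * (b ^ ν)⁻¹ = z₂ := by
      rw [Subgroup.mem_center_iff.mp hz₂.1, mul_inv_cancel_right]
    rw [map_mul, map_mul, map_inv, hφE a haE₁, hbv _ (ap_mem n haE₁), map_mul φ a za, hφE a haE₁, hφE za hzaE,
      hnz za hzaZ, hna, show b ^ ν * (a⁻¹ * z₂) * (b ^ ν)⁻¹ = (b ^ ν * a * (b ^ ν)⁻¹)⁻¹ * (b ^ ν * z₂ * (b ^ ν)⁻¹)
        by group, hconjA, hφz₂, mul_inv_rev] at h1
    have hc1 : Commute (za ^ ν)⁻¹ a⁻¹ := ((show Commute a za from Subgroup.mem_center_iff.mp hzaZ.1 a).pow_right ν).symm.inv_inv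
    rw [hc1.eq, mul_assoc, mul_assoc, mul_right_inj] at h1
    rw [show (za ^ ν)⁻¹ * z₂ = z₂ * (za ^ ν)⁻¹ from (Subgroup.mem_center_iff.mp hz₂.1 _), mul_right_inj,
      inv_inj] at h1
    exact h1
  -- apply `φ` to `b x b⁻¹ = x u` modulo `Z`
  let πZ := QuotientGroup.mk' Z
  have hπ1 : ∀ t ∈ Z, πZ t = 1 := fun t ht => (QuotientGroup.eq_one_iff t).mpr ht
  obtain ⟨v₁, hv₁, hnx⟩ : ∃ v ∈ V, ap n x = x * v :=
    ⟨x⁻¹ * ap n x, htriv₁ n hS.nL x hxE, (mul_inv_cancel_left x _).symm⟩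
  clear_value u
  have hkey' : πZ u ^ ν * πZ u = 1 := by
    have huE : u ∈ E₁ := huD.1
    have h1 : φ (b * x * b⁻¹) = φ (x * u) := by rw [hxu]
    rw [map_mul, map_mul, map_inv, hφE x hxE, hbv _ (ap_mem n hxE), map_mul φ x u, hφE x hxE, hφE u huE, hnx,
      show b ^ ν * (x * v₁) * (b ^ ν)⁻¹ = b ^ ν * x * (b ^ ν)⁻¹ * (b ^ ν * v₁ * (b ^ ν)⁻¹) by group,
      conj_pow_formula hxu huz hzz ν] at h1
    have hnu : πZ (ap n u) = (πZ u)⁻¹ := by
      rw [hua, ap_map_mul n (hI.orbit.leE (hI.orbit.omle hc₁Z)) (zpow_mem haE₁ i), hnz c₁ hc₁Z,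
        ap_map_zpow n haE₁, hna, map_mul, map_mul, map_zpow, map_mul, map_inv, hπ1 c₁ hc₁Z, hπ1 z₂ hz₂, mul_one,
        inv_one, one_mul, one_mul, map_zpow, map_inv, inv_zpow]
    have h2 := congrArg πZ h1
    have hv₁' : πZ (b ^ ν * v₁ * (b ^ ν)⁻¹) = πZ v₁ :=
      (QuotientGroup.eq.mpr (conj_mem_step hP hI.orbit.omle (by rw [hI.cardV, hI.cardZ]; ring) (b ^ ν) hv₁)).symm
    rw [map_mul, hv₁', map_mul, map_mul, map_pow, map_pow, hπ1 _ hzzZ, one_pow, mul_one, map_mul, map_mul, hnu] at h2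
    have hc : Commute (πZ u ^ ν) (πZ v₁) :=
      ((show Commute u v₁ from hcomm₁ u huE v₁ (hI.orbit.leE hv₁)).map πZ).pow_left ν
    rw [mul_assoc, mul_assoc (πZ x), mul_right_inj, hc.eq, mul_right_inj, eq_inv_iff_mul_eq_one] at h2
    exact h2
  -- `ν` is both `1` and `-1`
  have hd1 : (p : ℤ) ∣ (ν : ℤ) - 1 := by
    rw [← orderOf_eq_prime hzaZ.2 hza1]
    refine orderOf_dvd_iff_zpow_eq_one.mpr ?_
    rw [zpow_sub, zpow_natCast, hkey, zpow_one, mul_inv_cancel]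
  have hd2 : (p : ℤ) ∣ (ν : ℤ) + 1 := by
    have hpu : πZ u ^ p = 1 := by rw [← map_pow, hup, map_one]
    rw [← orderOf_eq_prime hpu (fun hh => huZ ((QuotientGroup.eq_one_iff u).mp hh))]
    refine orderOf_dvd_iff_zpow_eq_one.mpr ?_
    rw [zpow_add, zpow_natCast, zpow_one]
    exact hkey'
  have h2 : (p : ℤ) ∣ ((2 : ℕ) : ℤ) := by
    have := dvd_sub hd2 hd1
    simpa [two_mul, show (ν : ℤ) + 1 - (ν - 1) = 2 by ring] using this
  have := (Nat.prime_dvd_prime_iff_eq hp' Nat.prime_two).mp (Int.natCast_dvd_natCast.mp h2)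
  subst this
  exact absurd hodd (by decide)

end CfsgLib.RankThreePair
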