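import Cfsg.Agent.Lib.Fusion.RankThreePair.OrbitOut
import Cfsg.Agent.Lib.Fusion.RankThreePair.InnerAbelian
import Cfsg.Agent.Lib.Fusion.RankThreePair.InnerSmall

/-!
The possible shapes of a free pair of vertices in a `p`-group of sectional rank at most three.
-/

set_option autoImplicit false

namespace CfsgLib.RankThreePair

open Cfsg

variable {P : Type*} [Group P] [Finite P] {p : ℕ} [hp : Fact p.Prime] {E₁ E₂ : Subgroup P} [E₁.Normal] [E₂.Normal]
  {L₁ : Subgroup (MulAut E₁)} {L₂ : Subgroup (MulAut E₂)}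

/-- When `Ω₁ Z(P)` is moved by the first group, the pair has one of the two shapes. -/
theorem outcome_of_moved (hP : IsPGroup p P) (hodd : Odd p) (hr : SectionalPRankLE p 3 P)
    (h : Pair p E₁ E₂ L₁ L₂) (hF : Free L₁ L₂) (hm : ¬ Inv L₁ (omZ p P)) :
    DataA p E₁ E₂ ∨ ∃ x y a d, DataB p (E₂ := E₂) L₁ x y a d := by
  have hO := h.orbit hr hm
  by_cases hV : orb L₁ (omZ p P) ≤ E₂
  swap
  · exact outcome_of_not_le hP hodd hr h hF hO hV
  exfalso
  set V := orb L₁ (omZ p P)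
  have hI := inner_of_le hP hodd hr h hF hO hV
  by_cases hab : ∀ u ∈ orb L₂ V, ∀ v ∈ orb L₂ V, u * v = v * u
  · exact false_of_abelian hP hodd hr hI hab
  have hp' : p.Prime := hp.out
  obtain ⟨j, hj⟩ := IsPGroup.iff_card.mp (hP.to_subgroup (orb L₂ V))
  have h1 := mul_card_le_of_lt hP (lt_of_le_of_ne (le_orb L₂ V) hI.wne.symm)
  rw [hI.cardV, hj, ← pow_succ'] at h1
  have h2 : 3 ≤ j := (Nat.pow_le_pow_iff_right hp'.one_lt).mp h1
  have h3 : j ≤ 4 := (Nat.pow_le_pow_iff_right hp'.one_lt).mp (hj ▸ hI.wcard)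
  rcases (show j = 3 ∨ j = 4 by omega) with rfl | rfl
  · exact false_of_card_three hP hodd hr hI hab hj
  · exact false_of_card_four hP hodd hI hab hj

omit [E₁.Normal] [E₂.Normal] hp [Finite P] in
theorem DataA.symm (h : DataA p E₁ E₂) : DataA p E₂ E₁ :=
  ⟨h.card, h.card₂, h.card₁, h.comm₂, h.comm₁, h.exp₂, h.exp₁⟩

/-- The shapes of a free pair. -/
theorem engine (hP : IsPGroup p P) (hodd : Odd p) (hr : SectionalPRankLE p 3 P)
    (h : Pair p E₁ E₂ L₁ L₂) (hF : Free L₁ L₂) :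
    DataA p E₁ E₂ ∨ (∃ x y a d, DataB p (E₂ := E₂) L₁ x y a d) ∨ ∃ x y a d, DataB p (E₂ := E₁) L₂ x y a d := by
  rcases h.not_inv_omZ hP hF with hm | hm
  · exact (outcome_of_moved hP hodd hr h hF hm).imp_right Or.inl
  · exact (outcome_of_moved hP hodd hr h.symm hF.symm hm).imp DataA.symm Or.inr

end CfsgLib.RankThreePair
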