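import Cfsg.Agent.Lib.Fusion.RankThreePair.Shapes

/-!
The shape of a pair with abelian vertices, and the list of all shapes.
-/

set_option autoImplicit false
set_option maxHeartbeats 800000

namespace CfsgLib.RankThreePair

open Cfsg
open scoped commutatorElement

variable {P : Type*} [Group P] [Finite P] {p : ℕ} [hp : Fact p.Prime] {E₁ E₂ : Subgroup P} [E₁.Normal] [E₂.Normal]
  {L₁ : Subgroup (MulAut E₁)} {L₂ : Subgroup (MulAut E₂)} {T : Subgroup P} [T.Normal]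

omit hp [Finite P] in
theorem comm_shift {G : Type*} [Group G] {a b c w : G} (hc : c ∈ Subgroup.center G) (hw : w ∈ Subgroup.center G) :
    ⁅c * a, b * w⁆ = ⁅a, b⁆ := by
  have h1 : ∀ g, g * c = c * g := Subgroup.mem_center_iff.mp hc
  have h2 : ∀ g, g * w = w * g := Subgroup.mem_center_iff.mp hw
  calc ⁅c * a, b * w⁆ = c * a * b * w * a⁻¹ * c⁻¹ * w⁻¹ * b⁻¹ := by simp only [commutatorElement_def]; group
    _ = c * a * b * (a⁻¹ * w) * c⁻¹ * w⁻¹ * b⁻¹ := by rw [h2 a⁻¹]; group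
    _ = c * a * b * a⁻¹ * c⁻¹ * b⁻¹ := by
        rw [show c * a * b * (a⁻¹ * w) * c⁻¹ * w⁻¹ * b⁻¹ = c * a * b * a⁻¹ * (w * c⁻¹) * w⁻¹ * b⁻¹ by group,
          ← h2 c⁻¹]; group
    _ = ⁅a, b⁆ := by
        rw [show c * a * b * a⁻¹ * c⁻¹ * b⁻¹ = c * (a * b * a⁻¹) * c⁻¹ * b⁻¹ by group, ← h1, commutatorElement_def]
        group

theorem eq_one_of_sq (hP : IsPGroup p P) (hodd : Odd p) {c : P} (hc : c ^ 2 = 1) : c = 1 := by
  obtain ⟨k, hk⟩ := hP c
  obtain ⟨m, hm⟩ := hodd.pow (n := k)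
  rw [hm, pow_succ, pow_mul, hc, one_pow, one_mul] at hk
  exact hk

omit hp [Finite P] in
theorem mem_centralizer_of_commute {u v : P} (h : u * v = v * u) : u ∈ Subgroup.centralizer {v} :=
  Subgroup.mem_centralizer_singleton_iff.mpr h

namespace SmallQuot

/-- The images of the elements of `E₁ ∩ E₂` are central. -/
theorem central_inf (h : SmallQuot p E₁ E₂ L₁ L₂ T) {d : P} (hd : d ∈ E₁ ⊓ E₂) :
    QuotientGroup.mk' T d ∈ Subgroup.center (P ⧸ T) := by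
  let π := QuotientGroup.mk' T
  have hle : ∀ {E : Subgroup P}, (∀ u ∈ E, ∀ v ∈ E, ⁅u, v⁆ ∈ T) → d ∈ E →
      E ≤ (Subgroup.centralizer {π d}).comap π := fun {E} hc hdE u hu => by
    refine Subgroup.mem_centralizer_singleton_iff.mpr (commutatorElement_eq_one_iff_mul_comm.mp ?_)
    rw [← map_commutatorElement]
    exact (QuotientGroup.eq_one_iff _).mpr (hc u hu d hdE)
  obtain ⟨y, hy, hy'⟩ := SetLike.not_le_iff_exists.mp h.pair.symm.not_le₁
  refine Subgroup.mem_center_iff.mpr fun q => ?_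
  obtain ⟨g, rfl⟩ := QuotientGroup.mk'_surjective T q
  obtain ⟨i, e, he, rfl⟩ := exists_pow_mul h.pair.v₁.index hy' g
  exact Subgroup.mem_centralizer_singleton_iff.mp
    (mul_mem (s := (Subgroup.centralizer {π d}).comap π) (pow_mem (hle h.comm₂ hd.2 hy) i) (hle h.comm₁ hd.1 he))

theorem comm_not_mem (hP : IsPGroup p P) (hr : SectionalPRankLE p 3 P) (h : SmallQuot p E₁ E₂ L₁ L₂ T)
    {x y : P} (hx : x ∈ E₁) (hx' : x ∉ E₂) (hy : y ∈ E₂) (hy' : y ∉ E₁) : ⁅y, x⁆ ∉ T := by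
  intro hT
  let π := QuotientGroup.mk' T
  have hT2 : T ≤ E₂ := h.common.1.trans inf_le_right
  have hgen : E₁ ⊓ E₂ ⊔ Subgroup.zpowers y = E₂ :=
    sup_zpowers_eq inf_le_right h.pair.card₂ hy fun hh => hy' hh.1
  have hle : E₂ ≤ (Subgroup.centralizer {π x}).comap π := by
    rw [← hgen]
    refine sup_le (fun d hd => Subgroup.mem_centralizer_singleton_iff.mpr
      (Subgroup.mem_center_iff.mp (h.central_inf hd) (π x)).symm) (Subgroup.zpowers_le.mpr ?_)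
    refine Subgroup.mem_centralizer_singleton_iff.mpr (commutatorElement_eq_one_iff_mul_comm.mp ?_)
    rw [← map_commutatorElement]
    exact (QuotientGroup.eq_one_iff _).mpr hT
  have hV : Vertex p (E₂.map π) (push hT2 h.common.2.2).range :=
    h.pair.v₂.image hP hT2 h.common.2.2 (h.pair.symm.not_actsInner hP hr h.common.symm)
  refine hx' ((mem_map_mk_iff hT2).mp (hV.centric (Subgroup.mem_centralizer_iff.mpr ?_)))
  rintro _ ⟨v, hv, rfl⟩
  exact Subgroup.mem_centralizer_singleton_iff.mp (hle hv)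

/-- An automorphism inverting `E₁/T` on the line and fixing `T`. -/
theorem inverter_of_extend (hP : IsPGroup p P) (hr : SectionalPRankLE p 3 P) (h : SmallQuot p E₁ E₂ L₁ L₂ T)
    (hTc : T ≤ Subgroup.center P) {K : Set (MulAut P)}
    (hext : ∀ n ∈ L₁, (∀ g : P, n * MulAut.conjNormal g * n⁻¹ ∈ (MulAut.conjNormal : P →* MulAut E₁).range) →
      ∃ φ ∈ K, ∀ u ∈ E₁, φ u = ap n u)
    {x y : P} (hx : x ∈ E₁) (hx' : x ∉ E₂) (hy : y ∈ E₂) (hy' : y ∉ E₁) :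
    ∃ φ ∈ K, (∀ t ∈ T, φ t = t) ∧ x * φ x ∈ E₁ ⊓ E₂ ∧ y⁻¹ * φ y ∈ E₁ ∧ ⁅y, x⁆ * φ ⁅y, x⁆ ∈ T := by
  let π := QuotientGroup.mk' T
  have hT1 : T ≤ E₁ := h.common.1.trans inf_le_left
  have hzT := h.comm_not_mem hP hr hx hx' hy hy'
  set z := ⁅y, x⁆ with hz
  have hzD : z ∈ E₁ ⊓ E₂ := ⟨h.pair.v₁.commutator_mem y x, h.pair.v₂.commutator_mem y x⟩
  obtain ⟨D, Pl, s, n, hS⟩ := exists_split_section hP h.pair.v₁ hy' E₁ T (E₁ ⊓ E₂) hT1 le_rfl (inv_self L₁)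
    h.common.2.1 h.comm₁ h.pow₁
    (fun e he u hu => by
      have := h.comm₁ u⁻¹ (inv_mem hu) e he
      rwa [commutatorElement_def, inv_inv, mul_assoc, mul_assoc, ← mul_assoc e u] at this)
    inf_le_left
    (fun u hu => ⟨fun hd => proj_eq_iff.mp (by
        rw [map_mul, map_mul, map_inv, Subgroup.mem_center_iff.mp (h.central_inf hd) (π y), mul_inv_cancel_right]),
      fun hh => ⟨hu, by_contra fun hu' => h.comm_not_mem hP hr hu hu' hy hy' (by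
        have h1 : π (y * u * y⁻¹) = π u := (proj_eq_iff.mpr hh).symm
        refine (QuotientGroup.eq_one_iff _).mp ?_
        show π ⁅y, u⁆ = 1
        rw [commutatorElement_def, map_mul, h1, ← map_mul, mul_inv_cancel, map_one])⟩⟩)
    h.pair.card₁
    (by
      by_contra hh
      push Not at hh
      rcases h.irr₁ (E₁ ⊓ E₂) h.common.1 inf_le_left hh with h1 | h1
      · exact hzT (h1.le hzD)
      · exact h.pair.not_le₁ fun u hu => (h1.ge hu).2)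
  have hDT : D = T := (Subgroup.eq_of_le_of_card_ge hS.KD
    (Nat.eq_of_mul_eq_mul_left hp.out.pos (hS.cardD.symm.trans h.card₀)).le).symm
  have hPl : Pl = E₁ := Subgroup.eq_of_le_of_card_ge hS.PlX (by
    rw [hS.cardPl, h.pair.card₁, h.card₀, pow_two, mul_assoc])
  have hgen : T ⊔ Subgroup.zpowers s = E₁ ⊓ E₂ := sup_zpowers_eq h.common.1 h.card₀ hS.sH (hDT ▸ hS.sD)
  obtain ⟨φ, hφK, hφn⟩ := hext n hS.nL hS.nU
  have hTf : ∀ t ∈ T, φ t = t := fun t ht => by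
    rw [hφn t (hT1 ht)]
    exact h.pair.v₁.fix_of hT1 h.common.2.1
      (fun g u hu => by rw [Subgroup.mem_center_iff.mp (hTc hu) g, mul_inv_cancel_right]) n hS.nL t ht
  have hx2 : x * φ x ∈ E₁ ⊓ E₂ := by
    rw [hφn x hx, ← hgen]; exact hS.nPl x (hPl.ge hx)
  obtain ⟨t, ht, u, hu, htu⟩ := Subgroup.mem_sup_of_normal_left.mp (hgen.ge hzD)
  obtain ⟨i, rfl⟩ := Subgroup.mem_zpowers_iff.mp hu
  have hzz : z * φ z ∈ T := by
    have hs : s * φ s ∈ T := by rw [hφn s hS.sH.1]; exact hS.ns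
    set t₀ := s * φ s with ht₀
    have hφs : φ s = s⁻¹ * t₀ := by rw [ht₀, inv_mul_cancel_left]
    have hc0 : Commute s⁻¹ t₀ := Subgroup.mem_center_iff.mp (hTc hs) _
    have e : φ z = t * (s⁻¹ ^ i * t₀ ^ i) := by
      rw [← htu, map_mul, map_zpow, hTf t ht, hφs, hc0.mul_zpow]
    rw [e, ← htu, inv_zpow]
    have hcs : s ^ i * t = t * s ^ i := Subgroup.mem_center_iff.mp (hTc ht) _
    rw [show t * s ^ i * (t * ((s ^ i)⁻¹ * t₀ ^ i)) = t * (s ^ i * t) * (s ^ i)⁻¹ * t₀ ^ i by group, hcs,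
      show t * (t * s ^ i) * (s ^ i)⁻¹ * t₀ ^ i = t * t * t₀ ^ i by group]
    exact mul_mem (mul_mem ht ht) (zpow_mem hs i)
  refine ⟨φ, hφK, hTf, hx2, ?_, hzz⟩
  obtain ⟨k, e, he, hφy⟩ := exists_pow_mul h.pair.v₁.index hy' (φ y)
  have hk : (p : ℤ) ∣ (k : ℤ) - 1 := by
    by_contra hk
    refine hzT (mem_of_zpow_mem hk (h.pow₁ z hzD.1) ((QuotientGroup.eq_one_iff _).mp ?_))
    have hcl : ∀ q r : P ⧸ T, ⁅q, r⁆ ∈ Subgroup.center (P ⧸ T) := fun q r => by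
      obtain ⟨u, rfl⟩ := QuotientGroup.mk'_surjective T q
      obtain ⟨v, rfl⟩ := QuotientGroup.mk'_surjective T r
      rw [← map_commutatorElement]
      exact h.central_inf ⟨h.pair.v₁.commutator_mem u v, h.pair.v₂.commutator_mem u v⟩
    have hcm : ∀ q r : P ⧸ T, Commute r ⁅q, r⁆ := fun q r => Subgroup.mem_center_iff.mp (hcl q r) r
    set w := x * φ x with hw
    have hφx : φ x = x⁻¹ * w := by rw [hw, inv_mul_cancel_left]
    have hex : ⁅π e, (π x)⁻¹⁆ = 1 := by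
      rw [← map_inv, ← map_commutatorElement π]
      exact (QuotientGroup.eq_one_iff _).mpr (h.comm₁ e he _ (inv_mem hx))
    have h1 : π (φ z) = ⁅π y ^ k, (π x)⁻¹⁆ := by
      rw [hz, map_commutatorElement φ, hφy, hφx, map_commutatorElement π, map_mul, map_mul, map_pow, map_inv]
      rw [show ⁅π y ^ k * π e, (π x)⁻¹ * π w⁆ = ⁅π y ^ k * π e, (π x)⁻¹⁆ by
        simpa only [one_mul] using comm_shift (a := π y ^ k * π e) (b := (π x)⁻¹) (one_mem _) (h.central_inf hx2)]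
      calc ⁅π y ^ k * π e, (π x)⁻¹⁆ = π y ^ k * ⁅π e, (π x)⁻¹⁆ * (π y ^ k)⁻¹ * ⁅π y ^ k, (π x)⁻¹⁆ := by
            simp only [commutatorElement_def]; group
        _ = _ := by rw [hex, mul_one, mul_inv_cancel, one_mul]
    have h2 : ⁅π y ^ k, (π x)⁻¹⁆ = (π z ^ (k : ℤ))⁻¹ := by
      rw [← zpow_natCast, ← commutatorElement_inv, comm_zpow_right (hcm _ _), ← commutatorElement_inv (π y) (π x)⁻¹,
        ← zpow_neg_one (π x), comm_zpow_right (hcm _ _), ← map_commutatorElement π]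
      rw [inv_zpow, zpow_neg_one, inv_zpow, inv_inv]
    have h3 : π z * π (φ z) = 1 := by rw [← map_mul]; exact (QuotientGroup.eq_one_iff _).mpr hzz
    rw [h1, h2, mul_inv_eq_one] at h3
    show π (z ^ ((k : ℤ) - 1)) = 1
    rw [map_zpow, zpow_sub, zpow_one, ← h3, mul_inv_cancel]
  obtain ⟨m, hm⟩ := hk
  have hyk : y ^ ((k : ℤ) - 1) ∈ T := by
    rw [hm, zpow_mul, zpow_natCast]; exact zpow_mem (h.pow₂ y hy) m
  rw [hφy, show y⁻¹ * (y ^ k * e) = y ^ ((k : ℤ) - 1) * e by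
    rw [← zpow_natCast, sub_eq_neg_add, zpow_add, zpow_neg_one, mul_assoc]]
  exact mul_mem (hT1 hyk) he

omit hp in
/-- The same with the extension property of a pair. -/
theorem inverter [Fact p.Prime] (hP : IsPGroup p P) (hr : SectionalPRankLE p 3 P) (h : SmallQuot p E₁ E₂ L₁ L₂ T)
    (hTc : T ≤ Subgroup.center P) (ht : Torus E₁ E₂ L₁ L₂) {x y : P} (hx : x ∈ E₁) (hx' : x ∉ E₂) (hy : y ∈ E₂)
    (hy' : y ∉ E₁) :
    ∃ φ : MulAut P, (∀ t ∈ T, φ t = t) ∧ x * φ x ∈ E₁ ⊓ E₂ ∧ y⁻¹ * φ y ∈ E₁ ⊓ E₂ ∧ ⁅y, x⁆ * φ ⁅y, x⁆ ∈ T := by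
  obtain ⟨φ, hφ2, hTf, hx2, hy1, hzz⟩ := h.inverter_of_extend hP hr hTc (K := {φ | ∀ u ∈ E₂, φ u ∈ E₂})
    (fun n hn hU => by
      obtain ⟨φ, hφn, hφ2, -⟩ := ht n hn hU
      exact ⟨φ, hφ2, hφn⟩) hx hx' hy hy'
  exact ⟨φ, hTf, hx2, ⟨hy1, E₂.mul_mem (E₂.inv_mem hy) (hφ2 y hy)⟩, hzz⟩

/-- The second vertex is abelian. -/
theorem abelian₂ (hP : IsPGroup p P) (hodd : Odd p) (hr : SectionalPRankLE p 3 P)
    (h : SmallQuot p E₁ E₂ L₁ L₂ T) (hTc : T ≤ Subgroup.center P) (ht : Torus E₁ E₂ L₁ L₂) : ∀ u ∈ E₂, ∀ v ∈ E₂, u * v = v * u := by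
  obtain ⟨x, hx, hx'⟩ := SetLike.not_le_iff_exists.mp h.pair.not_le₁
  obtain ⟨y, hy, hy'⟩ := SetLike.not_le_iff_exists.mp h.pair.symm.not_le₁
  obtain ⟨φ, hTf, -, hy2, hzz⟩ := h.inverter hP hr hTc ht hx hx' hy hy'
  have hzT := h.comm_not_mem hP hr hx hx' hy hy'
  set z := ⁅y, x⁆
  have hzD : z ∈ E₁ ⊓ E₂ := ⟨h.pair.v₁.commutator_mem y x, h.pair.v₂.commutator_mem y x⟩
  have hgen : T ⊔ Subgroup.zpowers z = E₁ ⊓ E₂ := sup_zpowers_eq h.common.1 h.card₀ hzD hzT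
  have hTw : ∀ g : P, T ≤ Subgroup.centralizer {g} := fun g t ht =>
    mem_centralizer_of_commute (Subgroup.mem_center_iff.mp (hTc ht) g).symm
  have hDz : E₁ ⊓ E₂ ≤ Subgroup.centralizer {z} := hgen ▸
    sup_le (hTw z) (Subgroup.zpowers_le.mpr (mem_centralizer_of_commute rfl))
  have hc : ⁅y, z⁆ ∈ T := h.comm₂ y hy z hzD.2
  have hyz : ⁅y, z⁆ = 1 := by
    refine eq_one_of_sq hP hodd ?_
    have h1 : φ ⁅y, z⁆ = ⁅y, z⁆ := hTf _ hc
    set d := y⁻¹ * φ y with hd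
    set t := z * φ z with ht
    have hdz0 : Commute d z := Subgroup.mem_centralizer_singleton_iff.mp (hDz hy2)
    have hdz : Commute d z⁻¹ := hdz0.inv_right
    have htc : Commute z⁻¹ ⁅y * d, t⁆ := by
      rw [commutatorElement_eq_one_iff_mul_comm.mpr (Subgroup.mem_center_iff.mp (hTc hzz) _)]
      exact Commute.one_right _
    rw [map_commutatorElement φ, show φ y = y * d by rw [hd, mul_inv_cancel_left],
      show φ z = z⁻¹ * t by rw [ht, inv_mul_cancel_left], comm_mul_right htc,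
      commutatorElement_eq_one_iff_mul_comm.mpr (Subgroup.mem_center_iff.mp (hTc hzz) (y * d)), mul_one,
      show ⁅y * d, z⁻¹⁆ = y * ⁅d, z⁻¹⁆ * y⁻¹ * ⁅y, z⁻¹⁆ by simp only [commutatorElement_def]; group,
      commutatorElement_eq_one_iff_mul_comm.mpr hdz.eq, mul_one, mul_inv_cancel, one_mul, ← zpow_neg_one z,
      comm_zpow_right (show Commute z ⁅y, z⁆ from Subgroup.mem_center_iff.mp (hTc hc) z), zpow_neg_one] at h1
    rw [pow_two, ← eq_inv_iff_mul_eq_one]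
    exact h1.symm
  have hgen₂ : E₁ ⊓ E₂ ⊔ Subgroup.zpowers y = E₂ :=
    sup_zpowers_eq inf_le_right h.pair.card₂ hy fun hh => hy' hh.1
  have hDy : E₁ ⊓ E₂ ≤ Subgroup.centralizer {y} := hgen ▸ sup_le (hTw y) (Subgroup.zpowers_le.mpr
    (mem_centralizer_of_commute (commutatorElement_eq_one_iff_mul_comm.mp hyz).symm))
  have hEy : E₂ ≤ Subgroup.centralizer {y} := hgen₂.symm.le.trans
    (sup_le hDy (Subgroup.zpowers_le.mpr (mem_centralizer_of_commute rfl)))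
  have hED : ∀ d ∈ E₁ ⊓ E₂, E₂ ≤ Subgroup.centralizer {d} := fun d hd => by
    refine hgen₂.symm.le.trans (sup_le (hgen ▸ sup_le (hTw d) (Subgroup.zpowers_le.mpr ?_))
      (Subgroup.zpowers_le.mpr ?_))
    · exact mem_centralizer_of_commute (Subgroup.mem_centralizer_singleton_iff.mp (hDz hd)).symm
    · exact mem_centralizer_of_commute (Subgroup.mem_centralizer_singleton_iff.mp (hDy hd)).symm
  intro u hu v hv
  have hle : E₂ ≤ Subgroup.centralizer {u} := hgen₂.symm.le.trans (sup_le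
    (fun d hd => mem_centralizer_of_commute (Subgroup.mem_centralizer_singleton_iff.mp (hED d hd hu)).symm)
    (Subgroup.zpowers_le.mpr (mem_centralizer_of_commute (Subgroup.mem_centralizer_singleton_iff.mp (hEy hu)).symm)))
  exact (Subgroup.mem_centralizer_singleton_iff.mp (hle hv)).symm

end SmallQuot

/-- The shape with abelian vertices. -/
structure ShapeA (p : ℕ) (L₁ : Subgroup (MulAut E₁)) (L₂ : Subgroup (MulAut E₂)) (T : Subgroup P) (z : P) :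
    Prop where
  common : Common L₁ L₂ T
  central : T ≤ Subgroup.center P
  irr₁ : Irr E₁ L₁ T
  inf_eq : E₁ ⊓ E₂ = Subgroup.center P
  cardC : Nat.card (Subgroup.center P) = p * Nat.card T
  cardE : Nat.card E₁ = p * Nat.card (Subgroup.center P)
  cardP : Nat.card P = p * p * Nat.card (Subgroup.center P)
  ab₁ : ∀ u ∈ E₁, ∀ v ∈ E₁, u * v = v * u
  zC : z ∈ Subgroup.center P
  zT : z ∉ T
  zp : z ^ p = 1
  comm : ∀ u v : P, ⁅u, v⁆ ∈ Subgroup.zpowers z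
  pow : ∀ g : P, ∃ t ∈ T, t ^ p = g ^ p
  noncomm : ∃ u v : P, ⁅u, v⁆ ≠ 1

theorem SmallQuot.shapeA_of (hP : IsPGroup p P) (hodd : Odd p) (hr : SectionalPRankLE p 3 P)
    (h : SmallQuot p E₁ E₂ L₁ L₂ T) (hTc : T ≤ Subgroup.center P) (hab₁ : ∀ u ∈ E₁, ∀ v ∈ E₁, u * v = v * u)
    (hab₂ : ∀ u ∈ E₂, ∀ v ∈ E₂, u * v = v * u) {x y : P} (hx : x ∈ E₁) (hx' : x ∉ E₂) (hy : y ∈ E₂) (hy' : y ∉ E₁)
    {φ₁ φ₂ : MulAut P} (hf₁ : ∀ t ∈ T, φ₁ t = t) (hx₁ : x * φ₁ x ∈ E₁ ⊓ E₂) (hf₂ : ∀ t ∈ T, φ₂ t = t)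
    (hy₂ : y * φ₂ y ∈ E₁ ⊓ E₂) : ∃ z, ShapeA p L₁ L₂ T z := by
  have hzT := h.comm_not_mem hP hr hx hx' hy hy'
  set z := ⁅y, x⁆ with hz
  have hD : E₁ ⊓ E₂ = Subgroup.center P := le_antisymm
    (fun d hd => h.pair.central_of_commute (fun u hu => hab₁ u hu d hd.1) (fun u hu => hab₂ u hu d hd.2))
    fun d hd => ⟨h.pair.v₁.centric (Subgroup.mem_centralizer_iff.mpr fun v _ => Subgroup.mem_center_iff.mp hd v),
      h.pair.v₂.centric (Subgroup.mem_centralizer_iff.mpr fun v _ => Subgroup.mem_center_iff.mp hd v)⟩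
  have hzC : z ∈ Subgroup.center P :=
    hD ▸ ⟨h.pair.v₁.commutator_mem y x, h.pair.v₂.commutator_mem y x⟩
  have hgen₁ : E₁ ⊓ E₂ ⊔ Subgroup.zpowers x = E₁ :=
    sup_zpowers_eq inf_le_left h.pair.card₁ hx fun hh => hx' hh.2
  have hall : ∀ A : Subgroup P, E₁ ⊓ E₂ ≤ A → x ∈ A → y ∈ A → ∀ g, g ∈ A := fun A hA hxA hyA g => by
    obtain ⟨i, e, he, rfl⟩ := exists_pow_mul h.pair.v₁.index hy' g
    exact mul_mem (pow_mem hyA i) ((hgen₁.symm.le.trans (sup_le hA (Subgroup.zpowers_le.mpr hxA))) he)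
  have hzp : z ^ p = 1 := by
    rw [hz]
    exact CfsgLib.PGroup.commutatorElement_pow_eq_one_of_pow_central hzC (hTc (h.pow₂ y hy))
  have hN : (Subgroup.zpowers z).Normal := ⟨fun u hu g => by
    obtain ⟨i, rfl⟩ := Subgroup.mem_zpowers_iff.mp hu
    rw [Subgroup.mem_center_iff.mp (zpow_mem hzC i) g, mul_inv_cancel_right]; exact hu⟩
  have hcomm : ∀ u v : P, ⁅u, v⁆ ∈ Subgroup.zpowers z := by
    let ρ := QuotientGroup.mk' (Subgroup.zpowers z)
    have hcen : ∀ d ∈ E₁ ⊓ E₂, ∀ g, Commute (ρ g) (ρ d) := fun d hd g => by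
      show ρ g * ρ d = ρ d * ρ g
      rw [← map_mul, Subgroup.mem_center_iff.mp (hD ▸ hd : d ∈ Subgroup.center P) g, map_mul]
    have hyx : Commute (ρ y) (ρ x) := by
      refine commutatorElement_eq_one_iff_mul_comm.mp ?_
      rw [← map_commutatorElement ρ]
      exact (QuotientGroup.eq_one_iff _).mpr (Subgroup.mem_zpowers z)
    have hCx : ∀ g, g ∈ (Subgroup.centralizer {ρ x}).comap ρ :=
      hall _ (fun d hd => mem_centralizer_of_commute (hcen d hd x).symm.eq) (mem_centralizer_of_commute rfl)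
        (mem_centralizer_of_commute hyx.eq)
    have hCy : ∀ g, g ∈ (Subgroup.centralizer {ρ y}).comap ρ :=
      hall _ (fun d hd => mem_centralizer_of_commute (hcen d hd y).symm.eq) (mem_centralizer_of_commute hyx.symm.eq)
        (mem_centralizer_of_commute rfl)
    intro u v
    refine (QuotientGroup.eq_one_iff _).mp ?_
    show ρ ⁅u, v⁆ = 1
    rw [map_commutatorElement, commutatorElement_eq_one_iff_mul_comm]
    exact Subgroup.mem_centralizer_singleton_iff.mp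
      (hall ((Subgroup.centralizer {ρ v}).comap ρ)
        (fun d hd => mem_centralizer_of_commute (hcen d hd v).symm.eq)
        (mem_centralizer_of_commute (Subgroup.mem_centralizer_singleton_iff.mp (hCx v)).symm)
        (mem_centralizer_of_commute (Subgroup.mem_centralizer_singleton_iff.mp (hCy v)).symm) u)
  let A : Subgroup P :=
    { carrier := {g | ∃ t ∈ T, t ^ p = g ^ p}
      one_mem' := ⟨1, one_mem _, rfl⟩
      mul_mem' := fun {a b} ⟨s, hs, ha⟩ ⟨t, ht, hb⟩ => ⟨s * t, mul_mem hs ht, by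
        obtain ⟨j, hj⟩ := Subgroup.mem_zpowers_iff.mp (hcomm b a)
        have hcb : ⁅b, a⁆ ∈ Subgroup.center P := by rw [← hj]; exact zpow_mem hzC j
        have hcp : ⁅b, a⁆ ^ p = 1 := by
          rw [← hj, ← zpow_natCast, ← zpow_mul, mul_comm, zpow_mul, zpow_natCast, hzp, one_zpow]
        rw [CfsgLib.PGroup.mul_pow_odd_of_central hodd hcb hcp,
          (show Commute s t from Subgroup.mem_center_iff.mp (hTc ht) s).mul_pow, ha, hb]⟩
      inv_mem' := fun {a} ⟨s, hs, ha⟩ => ⟨s⁻¹, inv_mem hs, by rw [inv_pow, inv_pow, ha]⟩ }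
  have hTA : T ≤ A := fun t ht => ⟨t, ht, rfl⟩
  have hDA : E₁ ⊓ E₂ ≤ A := by
    rw [← sup_zpowers_eq h.common.1 h.card₀ (hD.ge hzC) hzT]
    exact sup_le hTA (Subgroup.zpowers_le.mpr ⟨1, one_mem _, by rw [one_pow, hzp]⟩)
  have hside : ∀ {E : Subgroup P}, (∀ u ∈ E, ∀ v ∈ E, u * v = v * u) → (∀ u ∈ E, u ^ p ∈ T) →
      ∀ {φ : MulAut P}, (∀ t ∈ T, φ t = t) → ∀ {u}, u ∈ E → u * φ u ∈ E₁ ⊓ E₂ → u ∈ A := by
    intro E hab hpw φ hTf u hu hw
    obtain ⟨t, ht, htp⟩ := hDA hw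
    set w := u * φ u with hw'
    have hwc : Commute u⁻¹ w := Subgroup.mem_center_iff.mp (hD ▸ hw : w ∈ Subgroup.center P) _
    have h1 : φ (u ^ p) = u ^ p := hTf _ (hpw u hu)
    rw [map_pow, show φ u = u⁻¹ * w by rw [hw', inv_mul_cancel_left], hwc.mul_pow, inv_pow,
      inv_mul_eq_iff_eq_mul] at h1
    obtain ⟨k, hk⟩ := hP u
    obtain ⟨m, hm⟩ := hodd.pow (n := k)
    rw [hm] at hk
    refine ⟨t ^ (m + 1), pow_mem ht _, ?_⟩
    calc (t ^ (m + 1)) ^ p = (w ^ p) ^ (m + 1) := by rw [← pow_mul, mul_comm, pow_mul, htp]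
      _ = (u ^ (2 * m + 1)) ^ p * u ^ p := by
          rw [h1, ← pow_mul, ← pow_add, ← pow_add, ← pow_mul]; congr 1; ring
      _ = u ^ p := by rw [hk, one_pow, one_mul]
  have hxA : x ∈ A := hside hab₁ h.pow₁ hf₁ hx hx₁
  have hyA : y ∈ A := hside hab₂ h.pow₂ hf₂ hy hy₂
  refine ⟨z, h.common, hTc, h.irr₁, hD, hD ▸ h.card₀, hD ▸ h.pair.card₁, hD ▸ h.pair.card_P, hab₁, hzC, hzT, hzp,
    hcomm, fun g => hall A hDA hxA hyA g, ⟨y, x, fun e => hzT (by rw [hz, e]; exact one_mem T)⟩⟩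

theorem SmallQuot.shapeA (hP : IsPGroup p P) (hodd : Odd p) (hr : SectionalPRankLE p 3 P)
    (h : SmallQuot p E₁ E₂ L₁ L₂ T) (hTc : T ≤ Subgroup.center P) (hp' : Pair p E₁ E₂ L₁ L₂) :
    ∃ z, ShapeA p L₁ L₂ T z := by
  obtain ⟨x, hx, hx'⟩ := SetLike.not_le_iff_exists.mp h.pair.not_le₁
  obtain ⟨y, hy, hy'⟩ := SetLike.not_le_iff_exists.mp h.pair.symm.not_le₁
  obtain ⟨φ₁, hf₁, hx₁, -, -⟩ := h.inverter hP hr hTc hp'.t₁ hx hx' hy hy'
  obtain ⟨φ₂, hf₂, hy₂, -, -⟩ := h.symm.inverter hP hr hTc hp'.t₂ hy hy' hx hx'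
  exact h.shapeA_of hP hodd hr hTc (h.symm.abelian₂ hP hodd hr hTc hp'.t₂) (h.abelian₂ hP hodd hr hTc hp'.t₁)
    hx hx' hy hy' hf₁ hx₁ hf₂ (by rwa [inf_comm] at hy₂)

/-- All shapes of a pair. -/
theorem shape (hP : IsPGroup p P) (hodd : Odd p) (hr : SectionalPRankLE p 3 P) (h : Pair p E₁ E₂ L₁ L₂) :
    (∃ x y a d, DataB p (E₂ := E₂) L₁ x y a d) ∨ (∃ x y a d, DataB p (E₂ := E₁) L₂ x y a d) ∨
      ∃ T z, ShapeA p L₁ L₂ T z := by
  have : (maxCommon L₁ L₂).Normal := maxCommon_normal h.toDuo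
  set T := maxCommon L₁ L₂ with hTdef
  have hT : Common L₁ L₂ T := maxCommon_common
  have hmax : ∀ D, Common L₁ L₂ D → D ≤ T := fun _ => le_maxCommon
  obtain ⟨hbar, hFbar⟩ := h.image hP hr hT hmax
  have hPb := hP.to_quotient T
  have hfree : T = ⊥ → Nat.card (P ⧸ T) ≠ p ^ 3 →
      (∃ x y a d, DataB p (E₂ := E₂) L₁ x y a d) ∨ (∃ x y a d, DataB p (E₂ := E₁) L₂ x y a d) := by
    intro hbot hne
    rcases engine hP hodd hr h (fun D hD => le_bot_iff.mp (hbot ▸ hmax D hD)) with hA | hB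
    · refine absurd ?_ hne
      rw [← hA.card]
      have := Subgroup.card_mul_index T
      rw [hbot, Subgroup.card_bot, one_mul, ← hbot, Subgroup.index_eq_card] at this
      exact this
    · exact hB
  have hp34 : p ^ 4 ≠ p ^ 3 := fun e => absurd (Nat.pow_right_injective hp.out.two_le e) (by norm_num)
  rcases engine hPb hodd (rank_quotient hr T) hbar hFbar with hA | ⟨xq, yq, aq, dq, hB⟩ | ⟨xq, yq, aq, dq, hB⟩
  rotate_left
  · exact (hfree (eq_bot_of_dataB hP hr h hT rfl rfl hbar hFbar hB) (by rw [hB.card]; exact hp34)).imp_right Or.inl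
  · exact (hfree (eq_bot_of_dataB hP hr h.symm hT.symm rfl rfl hbar.symm hFbar.symm hB)
      (by rw [hB.card]; exact hp34)).imp_right Or.inl
  refine Or.inr (Or.inr ⟨T, ?_⟩)
  let π := QuotientGroup.mk' T
  have hT1 : T ≤ E₁ := hT.1.trans inf_le_left
  have hT2 : T ≤ E₂ := hT.1.trans inf_le_right
  have hcT : ∀ {E : Subgroup P}, (∀ u ∈ E.map π, ∀ v ∈ E.map π, u * v = v * u) →
      ∀ u ∈ E, ∀ v ∈ E, ⁅u, v⁆ ∈ T := fun {E} hc u hu v hv => (QuotientGroup.eq_one_iff _).mp (by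
    show π ⁅u, v⁆ = 1
    rw [map_commutatorElement, commutatorElement_eq_one_iff_mul_comm]
    exact hc _ (Subgroup.mem_map_of_mem π hu) _ (Subgroup.mem_map_of_mem π hv))
  have hpT : ∀ {E : Subgroup P}, (∀ u ∈ E.map π, u ^ p = 1) → ∀ u ∈ E, u ^ p ∈ T := fun {E} he u hu =>
    (QuotientGroup.eq_one_iff _).mp (by
      show π (u ^ p) = 1
      rw [map_pow]; exact he _ (Subgroup.mem_map_of_mem π hu))
  have hirr₁ := irr_of_map hT1 hT.2.1 (hbar.v₁.irr_of_card hPb hA.card₁)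
  have hirr₂ := irr_of_map hT2 hT.2.2 (hbar.v₂.irr_of_card hPb hA.card₂)
  have hc0 : Nat.card (E₁ ⊓ E₂ : Subgroup P) = p * Nat.card T := by
    have h1 := hbar.card₁
    rw [hA.card₁, pow_two, inf_map_mk hT1 hT2] at h1
    rw [card_map_mk hT.1, ← Nat.eq_of_mul_eq_mul_left hp.out.pos h1]
  have hSQ : SmallQuot p E₁ E₂ L₁ L₂ T := by
    refine ⟨h.toDuo, hT, hirr₁, hirr₂, hc0, hcT hA.comm₁, hcT hA.comm₂, hpT hA.exp₁, hpT hA.exp₂, fun hc => ?_⟩
    obtain ⟨x, hx, hx'⟩ := SetLike.not_le_iff_exists.mp h.not_le₁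
    refine hx' ((mem_map_mk_iff hT2).mp (hbar.v₂.centric (Subgroup.mem_centralizer_iff.mpr ?_)))
    rintro _ ⟨v, -, rfl⟩
    rw [← commutatorElement_eq_one_iff_mul_comm, ← map_commutatorElement]
    exact (QuotientGroup.eq_one_iff _).mpr (hc v x)
  have hD₀ : ¬ Inv L₂ (E₁ ⊓ E₂) := fun hI => by
    rcases hirr₂ (E₁ ⊓ E₂) hT.1 inf_le_right hI with h1 | h1
    · have := congrArg (fun S : Subgroup P => Nat.card S) h1
      simp only [hc0] at this
      exact absurd ((Nat.mul_eq_right Nat.card_pos.ne').mp this) hp.out.ne_one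
    · exact h.symm.not_le₁ fun u hu => (h1.ge hu).1
  refine hSQ.shapeA hP hodd hr ?_ h
  exact (le_center_of_trivial hP hr h.toDuo hT hirr₁ hD₀ hSQ.comm₁ hSQ.pow₁
    (by rw [h.card₁, hc0, mul_assoc]) (frConj_trivial hP h.toDuo hT hirr₁ hD₀ (hSQ.ker_ne hP hodd hr)
      (hbar.omZ_le.trans inf_le_left)))

end CfsgLib.RankThreePair
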