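import Cfsg.Agent.Lib.Fusion.RankThreePair.FromFusion
import Cfsg.Agent.Lib.Fusion.RankThreePair.ShapeA
import Cfsg.Agent.Lib.Fusion.Normal

/-!
The shape with two abelian vertices does not occur when no subgroup is normal in the system.
-/

set_option autoImplicit false
set_option maxHeartbeats 800000

namespace CfsgLib.RankThreePair

open Cfsg Cfsg.FusionSystem CfsgLib.Fusion
open scoped commutatorElement

variable {p : ℕ} [hp : Fact p.Prime]

/-- A nonabelian group of order `p³` has sectional rank at most two. -/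
theorem rank_two_of_noncomm {P : Type*} [Group P] [Finite P] (hc : Nat.card P = p ^ 3) {u v : P}
    (huv : ⁅u, v⁆ ≠ 1) : SectionalPRankLE p 2 P := by
  intro H N _ A hA hexp
  have hp' : p.Prime := hp.out
  obtain ⟨j, hj3, hj⟩ := (Nat.dvd_prime_pow hp').mp
    ((Subgroup.card_subgroup_dvd_card A).trans ((Subgroup.card_quotient_dvd_card N).trans
      (hc ▸ Subgroup.card_subgroup_dvd_card H)))
  rw [hj]
  refine Nat.pow_le_pow_right hp'.pos ?_
  by_contra hcon
  obtain rfl : j = 3 := by omega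
  have hQ : Nat.card A ∣ Nat.card (H ⧸ N) := Subgroup.card_subgroup_dvd_card A
  have hH : Nat.card H = p ^ 3 := Nat.dvd_antisymm (hc ▸ Subgroup.card_subgroup_dvd_card H)
    (hj ▸ hQ.trans (Subgroup.card_quotient_dvd_card N))
  have hHQ : Nat.card (H ⧸ N) = p ^ 3 := Nat.dvd_antisymm (hH ▸ Subgroup.card_quotient_dvd_card N) (hj ▸ hQ)
  have hN : N = ⊥ := by
    have h1 := Subgroup.card_mul_index N
    rw [Subgroup.index_eq_card, hHQ, hH] at h1
    exact Subgroup.card_eq_one.mp ((Nat.mul_eq_right (pow_ne_zero 3 hp'.ne_zero)).mp h1)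
  have hAt : A = ⊤ := Subgroup.eq_top_of_card_eq A (hj.trans hHQ.symm)
  have hHt : H = ⊤ := Subgroup.eq_top_of_card_eq H (hH.trans hc.symm)
  refine huv (commutatorElement_eq_one_iff_mul_comm.mpr ?_)
  have hu : u ∈ H := hHt ▸ Subgroup.mem_top u
  have hv : v ∈ H := hHt ▸ Subgroup.mem_top v
  have h := congrArg Subtype.val (mul_comm' (⟨QuotientGroup.mk' N ⟨u, hu⟩, hAt ▸ Subgroup.mem_top _⟩ : A)
    ⟨QuotientGroup.mk' N ⟨v, hv⟩, hAt ▸ Subgroup.mem_top _⟩)
  have h2 : QuotientGroup.mk' N (⟨u, hu⟩ * ⟨v, hv⟩) = QuotientGroup.mk' N (⟨v, hv⟩ * ⟨u, hu⟩) := by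
    rw [map_mul, map_mul]; exact h
  rw [QuotientGroup.mk'_apply, QuotientGroup.mk'_apply, QuotientGroup.eq, hN, Subgroup.mem_bot, inv_mul_eq_one] at h2
  exact congrArg Subtype.val h2

variable {Ω : Type*} [Group Ω] {S : Subgroup Ω} [Finite S] {F : FusionSystem S}

/-- A subgroup of `↥S` as a subgroup of the ambient group, invariant under the group of `F` on `E`. -/
theorem mem_map_of_autS {E : Subgroup Ω} (hES : E ≤ S) {Q : Subgroup S}
    (h : ∀ a ∈ autS F hES, ∀ x ∈ Q, x ∈ E.subgroupOf S → ap a x ∈ Q) :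
    ∀ α ∈ F.autGroup E, ∀ x : E, (x : Ω) ∈ Q.map S.subtype → ((α x : E) : Ω) ∈ Q.map S.subtype := by
  rintro α hα x ⟨y, hy, hyx⟩
  have hyE : (y : Ω) ∈ E := by rw [show (y : Ω) = x from hyx]; exact x.2
  refine ⟨ap (pull hES α) y, h _ (Subgroup.mem_map_of_mem _ hα) y hy hyE, ?_⟩
  show ((ap (pull hES α) y : S) : Ω) = _
  rw [ap_pull hES α hyE]
  exact congrArg (fun w : E => ((α w : E) : Ω)) (Subtype.ext hyx)

/-- The shape with abelian vertices is impossible when `T` is invariant under the group of the top. -/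
theorem false_of_shapeA (hS : IsPGroup p S) (hodd : Odd p)
    (hsr : SectionalPRankLE p 3 S ∧ ¬ SectionalPRankLE p 2 S)
    (hF : F.IsSaturated p) (hO : F.core = ⊥) {E₁ : Subgroup Ω} (hE₁ : F.IsEssential p E₁) {E₂ : Subgroup S}
    [(E₁.subgroupOf S).Normal] [E₂.Normal] {L₂ : Subgroup (MulAut E₂)}
    (hidx₁ : (E₁.subgroupOf S).index = p)
    {T : Subgroup S} (hmapT : ∀ β ∈ F.autGroup S, ∀ t ∈ T, β t ∈ T)
    {z : S} (hA : ShapeA p (loc F hE₁.1.1) L₂ T z) : False := by
  classical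
  have hp' : p.Prime := hp.out
  have hE₁S : E₁ ≤ S := hE₁.1.1
  set Z := Subgroup.center S with hZ
  have hnone : ∀ Q : Subgroup Ω, F.IsNormal Q → Q = ⊥ := fun Q hQ => le_bot_iff.mp (hO ▸ le_sSup hQ)
  -- the essential subgroups contain the centre
  have hess : ∀ {E : Subgroup Ω}, F.IsEssential p E →
      Z ≤ E.subgroupOf S ∧ (E.subgroupOf S).Normal ∧ S ≤ Subgroup.normalizer (E : Set Ω) := by
    intro E hE
    have hZE : Z ≤ E.subgroupOf S := fun x hx => Subgroup.mem_subgroupOf.mpr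
      (IsCentric.centralizerIn_le' hE.1 ⟨x.2, Subgroup.mem_centralizer_iff.mpr fun y hy =>
        congrArg Subtype.val (Subgroup.mem_center_iff.mp hx ⟨y, hE.1.1 hy⟩)⟩)
    have hn : (E.subgroupOf S).Normal := ⟨fun x hx g => by
      have h1 := mul_mem (s := E.subgroupOf S) (hZE (show ⁅g, x⁆ ∈ Z by
        obtain ⟨i, hi⟩ := Subgroup.mem_zpowers_iff.mp (hA.comm g x)
        exact hi ▸ zpow_mem hA.zC i)) hx
      rwa [commutatorElement_def, inv_mul_cancel_right] at h1⟩
    exact ⟨hZE, hn, le_normalizer_of_normal hE.1.1⟩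
  have hQle : ∀ {Q : Subgroup S}, Q ≤ Z → ∀ P : Subgroup Ω, P = S ∨ F.IsEssential p P → Q.map S.subtype ≤ P := by
    intro Q hQ P hP
    rcases hP with rfl | hP
    · exact Subgroup.map_subtype_le _
    · rintro _ ⟨x, hx, rfl⟩
      exact (hess hP).1 (hQ hx)
  -- `T^p = 1`
  let Tp : Subgroup S :=
    { carrier := {u | ∃ t ∈ T, t ^ p = u}
      one_mem' := ⟨1, one_mem _, one_pow p⟩
      mul_mem' := fun {u v} ⟨s, hs, hu⟩ ⟨t, ht, hv⟩ => ⟨s * t, mul_mem hs ht, by
        rw [(show Commute s t from Subgroup.mem_center_iff.mp (hA.central ht) s).mul_pow, hu, hv]⟩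
      inv_mem' := fun {u} ⟨s, hs, hu⟩ => ⟨s⁻¹, inv_mem hs, by rw [inv_pow, hu]⟩ }
  have hTpZ : Tp ≤ Z := by rintro _ ⟨t, ht, rfl⟩; exact pow_mem (hA.central ht) p
  have hTp : Tp.map S.subtype = ⊥ := by
    refine hnone _ (isNormal_of_essential hS hF fun P hP => ⟨hQle hTpZ P hP, ?_⟩)
    have hPS : P ≤ S := by
      rcases hP with rfl | hP
      · exact le_rfl
      · exact hP.1.1
    rintro α - x ⟨_, ⟨t, ht, rfl⟩, hx⟩
    have htP : (t : Ω) ∈ P := hQle (Q := T) hA.central P hP ⟨t, ht, rfl⟩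
    obtain ⟨t', ht', he⟩ := hA.pow ⟨(α ⟨t, htP⟩ : P), hPS (α ⟨t, htP⟩).2⟩
    refine ⟨t' ^ p, ⟨t', ht', rfl⟩, ?_⟩
    rw [show x = (⟨t, htP⟩ : P) ^ p from Subtype.ext (by
      rw [SubmonoidClass.coe_pow]; exact hx.symm.trans (map_pow S.subtype t p)), map_pow α, he]
    rw [SubmonoidClass.coe_pow]; exact map_pow S.subtype _ p
  have hexp : ∀ g : S, g ^ p = 1 := fun g => by
    obtain ⟨t, ht, he⟩ := hA.pow g
    have h1 : S.subtype (t ^ p) ∈ Tp.map S.subtype := Subgroup.mem_map_of_mem _ ⟨t, ht, rfl⟩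
    rw [hTp, Subgroup.mem_bot] at h1
    rw [← he]
    exact Subtype.ext h1
  -- the orders
  have hTc : Nat.card T = p := by
    have h1 := card_le_of_elementary hsr.1 (E₁.subgroupOf S) hA.ab₁ fun x _ => hexp x
    rw [hA.cardE, hA.cardC, ← mul_assoc, pow_succ, pow_two] at h1
    have h2 := Nat.le_of_mul_le_mul_left h1 (Nat.mul_pos hp'.pos hp'.pos)
    obtain ⟨j, hj⟩ := IsPGroup.iff_card.mp (hS.to_subgroup T)
    have hj1 : j ≤ 1 := (Nat.pow_le_pow_iff_right hp'.one_lt).mp (by rw [pow_one, ← hj]; exact h2)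
    rcases (show j = 0 ∨ j = 1 by omega) with rfl | rfl
    · exfalso
      obtain ⟨u, v, huv⟩ := hA.noncomm
      refine hsr.2 (rank_two_of_noncomm ?_ huv)
      rw [hA.cardP, hA.cardC, hj, pow_zero]; ring
    · rw [hj, pow_one]
  -- `T` is normal in `F`
  have hTn : F.IsNormal (T.map S.subtype) := by
    refine isNormal_of_essential hS hF fun P hP => ⟨hQle hA.central P hP, ?_⟩
    rcases hP with rfl | hE
    · rintro α hα x ⟨y, hy, hyx⟩
      exact ⟨α y, hmapT α hα y hy, congrArg (fun w => ((α w : P) : Ω)) (Subtype.ext hyx)⟩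
    obtain ⟨hZE, hEn, hEN⟩ := hess hE
    have hidx := index_of_essential hS hsr.1 hF hE hEN
    have hV := vertex_loc hS hF hE hidx
    set E' := P.subgroupOf S with hE'
    set L := loc F hE.1.1 with hL
    obtain ⟨g₀, hg₀⟩ : ∃ g : S, g ∉ E' := by
      by_contra! hh
      rw [(eq_top_iff.mpr fun x _ => hh x : E' = ⊤), Subgroup.index_top] at hidx
      exact hp'.ne_one hidx.symm
    have hcardE : Nat.card E' = p * Nat.card Z := by
      have h1 := card_mul_index' E' hidx
      rw [hA.cardP, mul_comm, mul_assoc] at h1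
      exact Nat.eq_of_mul_eq_mul_left hp'.pos h1
    obtain ⟨e, he, heZ⟩ := SetLike.exists_of_lt (lt_of_le_of_ne hZE fun h => by
      rw [← h] at hcardE
      exact hp'.ne_one ((Nat.mul_eq_right Nat.card_pos.ne').mp hcardE.symm))
    have hgen : Z ⊔ Subgroup.zpowers e = E' := sup_zpowers_eq hZE hcardE he heZ
    have hab : ∀ u ∈ E', ∀ v ∈ E', u * v = v * u := by
      have hce : ∀ w : S, Z ≤ Subgroup.centralizer {w} := fun w d hd =>
        Subgroup.mem_centralizer_singleton_iff.mpr (Subgroup.mem_center_iff.mp hd w).symm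
      have hle : E' ≤ Subgroup.centralizer {e} := hgen.symm.le.trans
        (sup_le (hce e) (Subgroup.zpowers_le.mpr (Subgroup.mem_centralizer_singleton_iff.mpr rfl)))
      intro u hu v hv
      have hle' : E' ≤ Subgroup.centralizer {v} := hgen.symm.le.trans (sup_le (hce v) (Subgroup.zpowers_le.mpr
        (Subgroup.mem_centralizer_singleton_iff.mpr (Subgroup.mem_centralizer_singleton_iff.mp (hle hv)).symm)))
      exact Subgroup.mem_centralizer_singleton_iff.mp (hle' hu)
    obtain ⟨D, Pl, s, n, hSp⟩ := exists_split_section hS hV hg₀ E' ⊥ Z bot_le le_rfl (inv_self L) (inv_bot L)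
      (fun u hu v hv => Subgroup.mem_bot.mpr (commutatorElement_eq_one_iff_mul_comm.mpr (hab u hu v hv)))
      (fun u _ => Subgroup.mem_bot.mpr (hexp u))
      (fun u hu v hv => by
        rw [Subgroup.mem_bot, hab u hu v hv, mul_inv_cancel_right, inv_mul_cancel])
      hZE
      (fun u hu => ⟨fun hh => by
          rw [Subgroup.mem_bot, Subgroup.mem_center_iff.mp hh g₀, mul_inv_cancel_right, inv_mul_cancel],
        fun hh => Subgroup.mem_center_iff.mpr fun g => by
          rw [Subgroup.mem_bot, inv_mul_eq_one, eq_comm, mul_inv_eq_iff_eq_mul] at hh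
          obtain ⟨i, w, hw, rfl⟩ := exists_pow_mul hidx hg₀ g
          exact ((show Commute g₀ u from hh).pow_left i |>.mul_left (hab w hw u hu)).eq⟩)
      hcardE
      (by
        by_contra hh
        push Not at hh
        refine hV.false_of_chain hS (n := 2) (fun i => if i = 0 then ⊥ else if i = 1 then Z else E') (by simp)
          (by simp [hE']) (fun i hi => by rcases (show i = 0 ∨ i = 1 by omega) with rfl | rfl <;> simp [hZE])
          (fun i hi => by
            rcases (show i = 0 ∨ i = 1 ∨ i = 2 by omega) with rfl | rfl | rfl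
            · simp [inv_bot]
            · exact hh
            · exact inv_self L)
          fun g i hi x hx => ?_
        rcases (show i = 0 ∨ i = 1 by omega) with rfl | rfl
        · simp only [show (0 : ℕ) + 1 ≠ 0 by omega, if_false, if_true] at hx
          simp only [if_true, Subgroup.mem_bot]
          rw [Subgroup.mem_center_iff.mp hx g, mul_inv_cancel_right, inv_mul_cancel]
        · exact conj_mem_step hS hZE hcardE g (by simpa using hx))
    have hcen : Subgroup.zpowers s = Subgroup.zpowers z := by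
      obtain ⟨i, hi⟩ := Subgroup.mem_zpowers_iff.mp (hA.comm e⁻¹ g₀)
      have h1 := hSp.centre e he
      rw [bot_sup_eq, ← mul_assoc, ← mul_assoc, show e⁻¹ * g₀ * e * g₀⁻¹ = ⁅e⁻¹, g₀⁆ by
        rw [commutatorElement_def, inv_inv], ← hi] at h1
      have hne : z ^ i ≠ 1 := fun h => heZ (Subgroup.mem_center_iff.mpr fun g => by
        obtain ⟨j, w, hw, rfl⟩ := exists_pow_mul hidx hg₀ g
        rw [h] at hi
        have hc : Commute e⁻¹ g₀ := commutatorElement_eq_one_iff_mul_comm.mp hi.symm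
        exact (((inv_inv e) ▸ hc.inv_left).symm.pow_left j |>.mul_left (hab w hw e he)).eq)
      have hsp : s ^ p = 1 := hexp s
      have hcs : Nat.card (Subgroup.zpowers s) = p := by
        rw [Nat.card_zpowers, orderOf_eq_prime hsp fun hs1 => hne (by
          rw [hs1, Subgroup.zpowers_one_eq_bot, Subgroup.mem_bot] at h1; exact h1)]
      obtain ⟨k, hk⟩ := exists_zpow_eq hcs h1 hne (Subgroup.mem_zpowers s)
      refine Subgroup.eq_of_le_of_card_ge (Subgroup.zpowers_le.mpr ?_) ?_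
      · exact hk ▸ zpow_mem (zpow_mem (Subgroup.mem_zpowers z) i) k
      · rw [hcs, Nat.card_zpowers]
        exact Nat.le_of_dvd hp'.pos (orderOf_dvd_of_pow_eq_one hA.zp)
    obtain ⟨β, hβ, hβe⟩ := exists_extend_top hS hF hE (loc_le_autS _ hSp.nL) hSp.nU
    have hgenZ : D ⊔ Subgroup.zpowers z = Z := hcen ▸ sup_zpowers_eq hSp.DH hSp.cardD hSp.sH hSp.sD
    have hβs : β s = s⁻¹ := by
      rw [hβe s (hZE hSp.sH)]
      exact eq_inv_of_mul_eq_one_right (Subgroup.mem_bot.mp hSp.ns)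
    have hTD : T ≤ D := by
      intro t ht
      have htZ : t ∈ Z := hA.central ht
      rw [← hgenZ, ← hcen] at htZ
      have : D.Normal := ⟨fun d hd g => by
        rw [Subgroup.mem_center_iff.mp (hSp.DH hd) g, mul_inv_cancel_right]; exact hd⟩
      obtain ⟨d, hd, w, hw, rfl⟩ := Subgroup.mem_sup_of_normal_left.mp htZ
      obtain ⟨i, rfl⟩ := Subgroup.mem_zpowers_iff.mp hw
      have hβd : β d = d := by
        rw [hβe d (hZE (hSp.DH hd))]
        exact (inv_mul_eq_one.mp (Subgroup.mem_bot.mp (hSp.nD d hd))).symm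
      have h1 := mul_mem (inv_mem (hmapT β hβ _ ht)) ht
      rw [map_mul, map_zpow, hβd, hβs, inv_zpow, show (d * (s ^ i)⁻¹)⁻¹ * (d * s ^ i) = s ^ i * s ^ i by group,
        ← zpow_add] at h1
      obtain ⟨j, hj⟩ : s ^ (i + i) ∈ Subgroup.zpowers z := hcen ▸ Subgroup.zpow_mem_zpowers s _
      have hs2 : s ^ (i + i) = 1 := by
        by_contra hne
        have hzc : Nat.card (Subgroup.zpowers z) = p := by
          rw [Nat.card_zpowers, orderOf_eq_prime hA.zp fun h => hA.zT (h ▸ one_mem T)]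
        obtain ⟨k, hk⟩ := exists_zpow_eq hzc (hj ▸ Subgroup.zpow_mem_zpowers z j) hne (Subgroup.mem_zpowers z)
        exact hA.zT (hk ▸ zpow_mem h1 k)
      have hsi : s ^ i = 1 := eq_one_of_sq hS hodd (by
        rw [← zpow_natCast, ← zpow_mul, show i * ((2 : ℕ) : ℤ) = i + i by push_cast; ring]; exact hs2)
      rw [hsi, mul_one]
      exact hd
    have hDT : D = T := (Subgroup.eq_of_le_of_card_ge hTD (by
      have h1 := hSp.cardD
      rw [hA.cardC] at h1
      exact (Nat.eq_of_mul_eq_mul_left hp'.pos h1).ge)).symm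
    refine mem_map_of_autS hE.1.1 fun a ha x hx hxE => ?_
    rw [← hDT] at hx ⊢
    refine hSp.maxD _ (ap_mem a hxE) fun b hb => ?_
    have hb' : a⁻¹ * b * a ∈ L := by
      simpa using loc_normal hE.1.1 (inv_mem ha) hb
    have h1 := inv_mul_eq_one.mp (Subgroup.mem_bot.mp (hSp.fixD _ hb' x hx))
    rw [ap_mul, ap_mul] at h1
    have h2 := congrArg (ap a) h1
    rw [ap_self_inv] at h2
    rw [← h2, inv_mul_cancel]
    exact one_mem _
  have hbot := hnone _ hTn
  rw [Subgroup.map_eq_bot_iff_of_injective _ S.subtype_injective] at hbot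
  rw [hbot, Subgroup.card_bot] at hTc
  exact hp'.ne_one hTc.symm

/-- An invariant vertex fixes the common subgroup of the shape with abelian vertices. -/
theorem mapT_of_invariant (hS : IsPGroup p S) (hF : F.IsSaturated p) {E₁ : Subgroup Ω} (hE₁ : F.IsEssential p E₁)
    {E₂ : Subgroup S} [(E₁.subgroupOf S).Normal] [E₂.Normal] {L₂ : Subgroup (MulAut E₂)}
    (hidx₁ : (E₁.subgroupOf S).index = p)
    (hc₁ : ∀ φ : MulAut S, φ ∈ F.autGroup S → (E₁.subgroupOf S).map φ.toMonoidHom = E₁.subgroupOf S)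
    {T : Subgroup S} {z : S} (hA : ShapeA p (loc F hE₁.1.1) L₂ T z) : ∀ β ∈ F.autGroup S, ∀ t ∈ T, β t ∈ T := by
  have hp' : p.Prime := hp.out
  have hE₁S : E₁ ≤ S := hE₁.1.1
  -- the fixed points of the first local group
  obtain ⟨hT₁, hTinv₁, -⟩ := hA.common
  have hT1 : T ≤ E₁.subgroupOf S := hT₁.trans inf_le_left
  have hV₁ := vertex_loc hS hF hE₁ hidx₁
  set L₁ := loc F hE₁S
  let F₁ : Subgroup S :=
    { carrier := {x | x ∈ E₁.subgroupOf S ∧ ∀ a ∈ L₁, ap a x = x}
      one_mem' := ⟨one_mem _, fun a _ => ap_map_one a⟩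
      mul_mem' := fun {u v} hu hv => ⟨mul_mem hu.1 hv.1, fun a ha => by
        rw [ap_map_mul a hu.1 hv.1, hu.2 a ha, hv.2 a ha]⟩
      inv_mem' := fun {u} hu => ⟨inv_mem hu.1, fun a ha => by rw [ap_map_inv a hu.1, hu.2 a ha]⟩ }
  have hTF : T ≤ F₁ := fun t ht => ⟨hT1 ht, fun a ha => hV₁.fix_of hT1 hTinv₁
    (fun g u hu => by rw [Subgroup.mem_center_iff.mp (hA.central hu) g, mul_inv_cancel_right]) a ha t ht⟩
  have hF₁ : F₁ = T := by
    refine (hA.irr₁ F₁ hTF (fun x hx => hx.1) fun a ha x hx => by rw [hx.2 a ha]; exact hx).resolve_right fun h => ?_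
    refine absurd hidx₁ (fun e => ?_)
    obtain ⟨g, hg⟩ : ∃ g : S, g ∉ E₁.subgroupOf S := by
      by_contra! hh
      rw [(eq_top_iff.mpr fun x _ => hh x : E₁.subgroupOf S = ⊤), Subgroup.index_top] at e
      exact hp'.ne_one e.symm
    refine hg (hV₁.centric (Subgroup.mem_centralizer_iff.mpr fun x hx => ?_))
    have h1 := (h.ge hx).2 _ (hV₁.le g)
    rw [ap_conj g hx, mul_inv_eq_iff_eq_mul] at h1
    exact h1.symm
  have hmapT : ∀ β ∈ F.autGroup S, ∀ t ∈ T, β t ∈ T := by
    intro β hβ t ht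
    obtain ⟨h1, h2⟩ := exists_loc_conj hE₁S hβ (hc₁ β hβ)
    refine hF₁.le ⟨h1 t (hT1 ht), fun b hb => ?_⟩
    obtain ⟨a, ha, hab⟩ := Torus.exists_pre h2 b hb
    rw [← hab t (hT1 ht), (hTF ht).2 a ha]
  exact hmapT
end CfsgLib.RankThreePair
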