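import Cfsg.Agent.Lib.Fusion.RankThreePair.Action

/-!
Facts about `p`-groups acting on elementary abelian groups of order at most `p³`.
-/

set_option autoImplicit false

namespace CfsgLib.RankThreePair

variable {p : ℕ} [hp : Fact p.Prime] {M : Type*} [CommGroup M]

omit hp in
/-- Automorphisms fixing `C` pointwise and moving everything into `C` commute. -/
theorem commute_of_stab (C : Subgroup M) {a b : MulAut M} (ha : ∀ x ∈ C, a x = x) (hb : ∀ x ∈ C, b x = x)
    (ha' : ∀ x, x⁻¹ * a x ∈ C) (hb' : ∀ x, x⁻¹ * b x ∈ C) : a * b = b * a := by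
  refine MulEquiv.ext fun x => ?_
  rw [MulAut.mul_apply, MulAut.mul_apply]
  have e1 : a x = x * (x⁻¹ * a x) := (mul_inv_cancel_left _ _).symm
  have e2 : b x = x * (x⁻¹ * b x) := (mul_inv_cancel_left _ _).symm
  calc a (b x) = a (x * (x⁻¹ * b x)) := by rw [← e2]
    _ = a x * (x⁻¹ * b x) := by rw [map_mul, ha _ (hb' x)]
    _ = x * (x⁻¹ * a x) * (x⁻¹ * b x) := by rw [← e1]
    _ = x * (x⁻¹ * b x) * (x⁻¹ * a x) := mul_right_comm _ _ _
    _ = b x * (x⁻¹ * a x) := by rw [← e2]
    _ = b (x * (x⁻¹ * a x)) := by rw [map_mul b x, hb _ (ha' x)]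
    _ = b (a x) := by rw [← e1]

theorem not_dvd_pred {n : ℕ} (h : 1 ≤ n) : ¬ p ∣ p ^ n - 1 := by
  intro hd
  have h1 : p ∣ p ^ n := dvd_pow_self p (by omega)
  have h2 : 1 ≤ p ^ n := Nat.one_le_pow _ _ hp.out.pos
  have := Nat.dvd_sub h1 hd
  rw [Nat.sub_sub_self h2] at this
  exact hp.out.one_lt.ne' (Nat.dvd_one.mp this)

/-- The automorphism group of an elementary group of order at most `p³` has `p`-part at most `p³`. -/
theorem not_pow_four_dvd [Finite M] (hM : ∀ x : M, x ^ p = 1) (hc : Nat.card M ≤ p ^ 3) :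
    ¬ p ^ 4 ∣ Nat.card (MulAut M) := by
  have hp' : p.Prime := hp.out
  obtain ⟨n, hn⟩ := IsPGroup.iff_card.mp (show IsPGroup p M from fun x => ⟨1, by rw [pow_one]; exact hM x⟩)
  have hfr : frattini M = ⊥ := eq_bot_iff.mpr (CfsgLib.PGroup.frattini_le_of (p := p) _
    (by rw [commutator_def, Subgroup.commutator_le]; intro a _ b _
        rw [Subgroup.mem_bot, commutatorElement_eq_one_iff_mul_comm, mul_comm])
    fun x => by rw [Subgroup.mem_bot]; exact hM x)
  have hidx : (frattini M).index = p ^ n := by rw [hfr, Subgroup.index_bot, hn]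
  intro hd
  have h := hd.trans (CfsgLib.AutFrattini82.card_aut_dvd hn hidx)
  rw [Nat.sub_self, mul_zero, pow_zero, one_mul] at h
  have hn3 : n ≤ 3 := (Nat.pow_le_pow_iff_right hp'.one_lt).mp (hn ▸ hc)
  have hcop : ∀ m, 1 ≤ m → Nat.Coprime (p ^ 4) (p ^ m - 1) := fun m hm =>
    (hp'.coprime_iff_not_dvd.mpr (not_dvd_pred hm)).pow_left 4
  have hsub : ∀ i j, i ≤ j → p ^ j - p ^ i = p ^ i * (p ^ (j - i) - 1) := fun i j hij => by
    rw [Nat.mul_sub, mul_one, ← pow_add, Nat.add_sub_cancel' hij]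
  have hsplit : ∏ i ∈ Finset.range n, (p ^ n - p ^ i) =
      p ^ (∑ i ∈ Finset.range n, i) * ∏ i ∈ Finset.range n, (p ^ (n - i) - 1) := by
    rw [← Finset.prod_pow_eq_pow_sum, ← Finset.prod_mul_distrib]
    exact Finset.prod_congr rfl fun i hi => hsub i n (Finset.mem_range.mp hi).le
  rw [hsplit] at h
  have h' := (Nat.Coprime.prod_right fun i hi => hcop (n - i) (by have := Finset.mem_range.mp hi; omega)).dvd_of_dvd_mul_right h
  have := Nat.le_of_dvd (pow_pos hp'.pos _) h'
  have hsum : ∑ i ∈ Finset.range n, i ≤ 3 := by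
    interval_cases n <;> decide
  exact absurd ((Nat.pow_le_pow_iff_right hp'.one_lt).mp this) (by omega)

end CfsgLib.RankThreePair
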