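import Cfsg.Agent.Lib.Fusion.RankThreePair.Push
import Cfsg.Agent.Lib.Fusion.RankThreePair.Linear
import Cfsg.Agent.Lib.Fusion.RankThree.Module

/-!
Two abelian vertices of order `p²` modulo `T` do not act faithfully on the Frattini quotient of `T`.
-/

set_option autoImplicit false
set_option maxHeartbeats 800000

namespace CfsgLib.RankThreePair

open Cfsg CfsgLib.FusionRankThree
open scoped commutatorElement

variable {P : Type*} [Group P] [Finite P] {p : ℕ} [hp : Fact p.Prime]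

/-- The only invariant subgroups between `T` and `E` are the two ends. -/
def Irr (E : Subgroup P) (L : Subgroup (MulAut E)) (T : Subgroup P) : Prop :=
  ∀ Q : Subgroup P, T ≤ Q → Q ≤ E → Inv L Q → Q = T ∨ Q = E

/-- The standing hypotheses on a common subgroup with small quotient. -/
structure SmallQuot (p : ℕ) (E₁ E₂ : Subgroup P) [E₁.Normal] [E₂.Normal] (L₁ : Subgroup (MulAut E₁))
    (L₂ : Subgroup (MulAut E₂)) (T : Subgroup P) : Prop where
  pair : Duo p E₁ E₂ L₁ L₂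
  common : Common L₁ L₂ T
  irr₁ : Irr E₁ L₁ T
  irr₂ : Irr E₂ L₂ T
  card₀ : Nat.card (E₁ ⊓ E₂ : Subgroup P) = p * Nat.card T
  comm₁ : ∀ u ∈ E₁, ∀ v ∈ E₁, ⁅u, v⁆ ∈ T
  comm₂ : ∀ u ∈ E₂, ∀ v ∈ E₂, ⁅u, v⁆ ∈ T
  pow₁ : ∀ u ∈ E₁, u ^ p ∈ T
  pow₂ : ∀ u ∈ E₂, u ^ p ∈ T
  comm_P : ¬ ∀ u v : P, ⁅u, v⁆ ∈ T

variable {E₁ E₂ : Subgroup P} [E₁.Normal] [E₂.Normal] {L₁ : Subgroup (MulAut E₁)}
  {L₂ : Subgroup (MulAut E₂)} {T : Subgroup P} [T.Normal]

omit hp [Finite P] in
theorem SmallQuot.symm (h : SmallQuot p E₁ E₂ L₁ L₂ T) : SmallQuot p E₂ E₁ L₂ L₁ T :=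
  ⟨h.pair.symm, h.common.symm, h.irr₂, h.irr₁, by rw [inf_comm]; exact h.card₀, h.comm₂, h.comm₁, h.pow₂, h.pow₁,
    h.comm_P⟩

/-- If the displacements by `E` lie in a subgroup of order `p` then the action is not faithful modulo `T`. -/
theorem false_of_small_image (hP : IsPGroup p P) (hodd : Odd p) (hr : SectionalPRankLE p 3 P)
    (h : SmallQuot p E₁ E₂ L₁ L₂ T) (hker : (frConj T).ker = T) (hM3 : Nat.card (T ⧸ frattini T) = p ^ 3)
    (I : Subgroup (T ⧸ frattini T)) (hI : Nat.card I = p)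
    (hIinv : ∀ a : L₁, ∀ q ∈ I, frAct (h.common.1.trans inf_le_left) h.common.2.1 a q ∈ I)
    (hdisp : ∀ e ∈ E₁, ∀ q, q⁻¹ * frConj T e q ∈ I) : False := by
  have hp' : p.Prime := hp.out
  obtain ⟨hM, hMc, hcard⟩ := frAct_card hP hr T
  let _ : CommGroup (T ⧸ frattini T) := { (inferInstance : Group (T ⧸ frattini T)) with mul_comm := hMc }
  have hTE : T ≤ E₁ := h.common.1.trans inf_le_left
  have hTinv : Inv L₁ T := h.common.2.1
  have hV := h.pair.v₁
  have hσinv : ∀ g : P, ∀ q ∈ I, frConj T g q ∈ I := fun g q hq => by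
    rw [← frAct_conj hTE hTinv g (hV.le g)]; exact hIinv _ q hq
  have hσp : ∀ g : P, ∃ k, frConj T g ^ p ^ k = 1 := fun g => by
    obtain ⟨k, hk⟩ := hP g
    exact ⟨k, by rw [← map_pow, hk, map_one]⟩
  have hIfix : ∀ g : P, ∀ q ∈ I, frConj T g q = q := fun g q hq => by
    obtain ⟨k, hk⟩ := hσp g
    have := CfsgLib.FusionFlag.stabilizes_step (K := ⊥) (L := I) bot_le
      (by rw [hI, Subgroup.card_bot, mul_one]) hk (hσinv g)
      (fun x hx => by rw [Subgroup.mem_bot] at hx ⊢; rw [hx, map_one]) q hq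
    rw [Subgroup.mem_bot, inv_mul_eq_one] at this
    exact this.symm
  -- the fixed points of `P` lie in `I`
  have hfix : ∀ w, (∀ g : P, frConj T g w = w) → w ∈ I := by
    intro w hw
    by_contra hwI
    set C := I ⊔ Subgroup.zpowers w with hC
    have hCfix : ∀ g : P, ∀ q ∈ C, frConj T g q = q := fun g q hq => by
      have hle : C ≤ MonoidHom.eqLocus (frConj T g).toMonoidHom (MonoidHom.id _) :=
        sup_le (fun x hx => hIfix g x hx) (Subgroup.zpowers_le.mpr (hw g))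
      exact hle hq
    have hPM : IsPGroup p (T ⧸ frattini T) := fun q => ⟨1, by rw [pow_one]; exact hM q⟩
    have hC2 : p ^ 2 ≤ Nat.card C := by
      have := mul_card_le_of_lt hPM (lt_of_le_of_ne (le_sup_left : I ≤ C)
        fun e => hwI (e.ge (Subgroup.mem_sup_right (Subgroup.mem_zpowers w))))
      rwa [hI, ← pow_two] at this
    have hCne : C ≠ ⊤ := fun e => h.comm_P fun u v => hker.le (MonoidHom.mem_ker.mpr (by
      have h1 : ∀ g, frConj T g = 1 := fun g =>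
        MulEquiv.ext fun q => hCfix g q (e.ge (Subgroup.mem_top q))
      rw [commutatorElement_def, map_mul, map_mul, map_mul, map_inv, map_inv, h1, h1]; group))
    obtain ⟨j, hj⟩ := IsPGroup.iff_card.mp (hPM.to_subgroup C)
    have hCc : Nat.card C = p ^ 2 := by
      have h2 := mul_card_le_of_lt hPM (lt_top_iff_ne_top.mpr hCne)
      rw [Subgroup.card_top, hM3, pow_succ'] at h2
      exact le_antisymm (Nat.le_of_mul_le_mul_left h2 hp'.pos) hC2
    have hCdisp : ∀ g : P, ∀ q, q⁻¹ * frConj T g q ∈ C := fun g q => by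
      obtain ⟨k, hk⟩ := hσp g
      exact CfsgLib.FusionFlag.stabilizes_step (L := ⊤) le_top (by rw [Subgroup.card_top, hM3, hCc]; ring) hk
        (fun _ _ => Subgroup.mem_top _) (fun x hx => by rw [hCfix g x hx]; exact hx) q (Subgroup.mem_top q)
    refine h.comm_P fun u v => hker.le (MonoidHom.mem_ker.mpr ?_)
    rw [map_commutatorElement, commutatorElement_eq_one_iff_mul_comm]
    exact commute_of_stab C (hCfix u) (hCfix v) (hCdisp u) (hCdisp v)
  -- the preimage `N` of `I`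
  let π := QuotientGroup.mk' (frattini T)
  set N := (I.comap π).map T.subtype with hNdef
  have hNT : N ≤ T := Subgroup.map_subtype_le _
  have hmemN : ∀ t : T, (t : P) ∈ N ↔ π t ∈ I := fun t => by
    refine ⟨?_, fun ht => ⟨t, ht, rfl⟩⟩
    rintro ⟨s, hs, hst⟩
    obtain rfl : s = t := Subtype.ext hst
    exact hs
  have hNinv : Inv L₁ N := by
    rintro a ha _ ⟨t, ht, rfl⟩
    exact (hmemN ⟨_, hTinv a ha _ t.2⟩).mpr (hIinv ⟨a, ha⟩ (π t) ht)
  have hNn : N.Normal := hV.normal_of_inv (hNT.trans hTE) hNinv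
  have hdispN : ∀ e ∈ E₁, ∀ t ∈ T, t⁻¹ * (e * t * e⁻¹) ∈ N := fun e he t ht => by
    refine (hmemN ⟨_, mul_mem (inv_mem ht) ((inferInstance : T.Normal).conj_mem t ht e)⟩).mpr ?_
    exact hdisp e he (π ⟨t, ht⟩)
  have hΦN : (frattini T).map T.subtype ≤ N := Subgroup.map_mono fun t ht => by
    rw [Subgroup.mem_comap, show π t = 1 from (QuotientGroup.eq_one_iff t).mpr ht]; exact one_mem I
  have hTN : ∀ t ∈ T, ∀ s ∈ T, ⁅t, s⁆ ∈ N := fun t ht s hs => hΦN ⟨⁅⟨t, ht⟩, ⟨s, hs⟩⁆,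
    CfsgLib.PGroup.commutator_le_frattini (hP.to_subgroup T)
      (Subgroup.commutator_mem_commutator (Subgroup.mem_top _) (Subgroup.mem_top _)), rfl⟩
  let πN := QuotientGroup.mk' N
  have hTc : ∀ t ∈ T, ∀ e ∈ E₁, Commute (πN e) (πN t) := fun t ht e he => by
    refine (show πN e * πN t = πN t * πN e from ?_)
    rw [← map_mul, ← map_mul, eq_comm, proj_eq_iff]
    have := hdispN e he t ht
    have e1 : (t * e)⁻¹ * (e * t) = e⁻¹ * (t⁻¹ * (e * t * e⁻¹)) * e⁻¹⁻¹ := by group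
    rw [e1]
    exact hNn.conj_mem _ this e⁻¹
  -- generators
  obtain ⟨x, hxE, hx⟩ : ∃ x ∈ E₁, x ∉ E₂ := SetLike.not_le_iff_exists.mp h.pair.not_le₁
  have hTD : T ≤ E₁ ⊓ E₂ := h.common.1
  obtain ⟨z₀, hz₀, hz₀T⟩ := SetLike.exists_of_lt (lt_of_le_of_ne hTD fun e => by
    have h1 := h.card₀
    rw [← e] at h1
    exact hp'.one_lt.ne' (Nat.eq_of_mul_eq_mul_right Nat.card_pos (by rw [one_mul]; exact h1.symm)))
  have hgenD : T ⊔ Subgroup.zpowers z₀ = E₁ ⊓ E₂ := sup_zpowers_eq hTD h.card₀ hz₀ hz₀T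
  have hgen₁ : E₁ ⊓ E₂ ⊔ Subgroup.zpowers x = E₁ := sup_zpowers_eq inf_le_left h.pair.card₁ hxE fun hh => hx hh.2
  set c := πN ⁅x, z₀⁆ with hcdef
  have hxzT : ⁅x, z₀⁆ ∈ T := h.comm₁ x hxE z₀ hz₀.1
  have hccen : ∀ e ∈ E₁, Commute (πN e) c := fun e he => hTc _ hxzT e he
  -- the commutators of `E₁` modulo `N` are powers of `c`
  have hcomm : ∀ u ∈ E₁, ∀ v ∈ E₁, πN ⁅u, v⁆ ∈ Subgroup.zpowers c := by
    let W : Subgroup (P ⧸ N) := E₁.map πN
    have hcW : c ∈ W := Subgroup.mem_map_of_mem πN (hTE hxzT)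
    let Zc : Subgroup W := (Subgroup.zpowers c).subgroupOf W
    have hZn : Zc.Normal := ⟨fun z hz w => by
      obtain ⟨k, hk⟩ := Subgroup.mem_zpowers_iff.mp (show (z : P ⧸ N) ∈ Subgroup.zpowers c from hz)
      obtain ⟨e, he, hew⟩ := Subgroup.mem_map.mp w.2
      show (w : P ⧸ N) * z * (w : P ⧸ N)⁻¹ ∈ Subgroup.zpowers c
      rw [← hk, ← hew, ((hccen e he).zpow_right k).eq, mul_inv_cancel_right]
      exact Subgroup.zpow_mem_zpowers c k⟩
    let ρW := QuotientGroup.mk' Zc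
    have hEW : ∀ {u}, u ∈ E₁ → πN u ∈ W := fun hu => Subgroup.mem_map_of_mem πN hu
    let f : E₁ →* W ⧸ Zc := ρW.comp (πN.subgroupMap E₁)
    have hfT : ∀ t (ht : t ∈ T) (e : E₁), Commute (f e) (f ⟨t, hTE ht⟩) := fun t ht e =>
      (show Commute (πN.subgroupMap E₁ e) (πN.subgroupMap E₁ ⟨t, hTE ht⟩) from
        Subtype.ext (hTc t ht e e.2)).map ρW
    have hfxz : Commute (f ⟨x, hxE⟩) (f ⟨z₀, hz₀.1⟩) := by
      refine commutatorElement_eq_one_iff_mul_comm.mp ?_
      rw [← map_commutatorElement]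
      exact (QuotientGroup.eq_one_iff _).mpr (Subgroup.mem_zpowers c)
    have hcen : ∀ a b : E₁, Commute (f a) (f b) := by
      intro a b
      have key : ∀ (g : E₁), (∀ t (ht : t ∈ T), Commute (f g) (f ⟨t, hTE ht⟩)) → Commute (f g) (f ⟨z₀, hz₀.1⟩) →
          Commute (f g) (f ⟨x, hxE⟩) → ∀ e : E₁, Commute (f g) (f e) := by
        intro g h1 h2 h3 e
        let Cg : Subgroup P := ((Subgroup.centralizer {f g}).comap f).map E₁.subtype
        have hle : T ⊔ Subgroup.zpowers z₀ ⊔ Subgroup.zpowers x ≤ Cg := sup_le (sup_le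
          (fun t ht => ⟨⟨t, hTE ht⟩, Subgroup.mem_centralizer_singleton_iff.mpr (h1 t ht).symm, rfl⟩)
          (Subgroup.zpowers_le.mpr ⟨⟨z₀, hz₀.1⟩, Subgroup.mem_centralizer_singleton_iff.mpr h2.symm, rfl⟩))
          (Subgroup.zpowers_le.mpr ⟨⟨x, hxE⟩, Subgroup.mem_centralizer_singleton_iff.mpr h3.symm, rfl⟩)
        rw [hgenD, hgen₁] at hle
        obtain ⟨e', he', hee⟩ := hle e.2
        rw [← show e' = e from Subtype.ext hee]
        exact (Subgroup.mem_centralizer_singleton_iff.mp he').symm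
      have hz : ∀ e, Commute (f ⟨z₀, hz₀.1⟩) (f e) := key _ (fun t ht => hfT t ht _) rfl hfxz.symm
      have hxa : ∀ e, Commute (f ⟨x, hxE⟩) (f e) := key _ (fun t ht => hfT t ht _) hfxz rfl
      exact key a (fun t ht => hfT t ht a) (hz a).symm (hxa a).symm b
    intro u hu v hv
    have h1 := commutatorElement_eq_one_iff_mul_comm.mpr (hcen ⟨u, hu⟩ ⟨v, hv⟩).eq
    rw [← map_commutatorElement] at h1
    exact (QuotientGroup.eq_one_iff (N := Zc) (πN.subgroupMap E₁ ⁅(⟨u, hu⟩ : E₁), ⟨v, hv⟩⁆)).mp h1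
  have hcp : c ^ p = 1 := by
    rw [hcdef, ← map_pow]
    refine (QuotientGroup.eq_one_iff _).mpr (hΦN ?_)
    exact ⟨⟨_, hxzT⟩ ^ p, CfsgLib.PGroup.pow_mem_frattini (hP.to_subgroup T) _, rfl⟩
  have hseries : ∀ {B : Subgroup (T ⧸ frattini T)}, I ≤ B → Nat.card B = p * Nat.card I →
      (∀ a : L₁, ∀ q ∈ B, frAct hTE hTinv a q ∈ B) → False := by
    intro B hIB hB hBinv
    have hp_act := hV.pAction_of_series hP hM (frAct hTE hTinv) hIB hI (Or.inl hB)
      (by rw [hM3, hB, hI]; ring) hIinv hBinv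
    refine hV.false_of_pAction hP hTE hTinv (fun a ha => ?_) hp_act
    obtain ⟨k, hk⟩ := hp_act ⟨a, ha⟩
    refine ⟨k, fun e he => ?_⟩
    have hb : a ^ p ^ k ∈ L₁ := pow_mem ha _
    have h0 : frAct hTE hTinv ⟨a ^ p ^ k, hb⟩ = 1 := by rw [← hk, ← map_pow]; rfl
    refine hker.le (MonoidHom.mem_ker.mpr ?_)
    have h2 := congrArg (frAct hTE hTinv) (show (⟨a ^ p ^ k, hb⟩ : L₁) * ⟨_, hV.le e⟩ * ⟨a ^ p ^ k, hb⟩⁻¹ =
      ⟨_, hV.le (ap (a ^ p ^ k) e)⟩ from Subtype.ext (conj_conjNormal _ he))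
    rw [map_mul, map_mul, map_inv, h0, one_mul, inv_one, mul_one, frAct_conj, frAct_conj] at h2
    rw [map_mul, map_inv, ← h2, inv_mul_cancel]
  -- `E₁/N` is abelian
  have hEN : ∀ u ∈ E₁, ∀ v ∈ E₁, ⁅u, v⁆ ∈ N := by
    by_cases hc1 : c = 1
    · intro u hu v hv
      have := hcomm u hu v hv
      rw [hc1, Subgroup.zpowers_one_eq_bot, Subgroup.mem_bot] at this
      exact (QuotientGroup.eq_one_iff _).mp this
    exfalso
    have hxzN : ⁅x, z₀⁆ ∉ N := fun hh => hc1 ((QuotientGroup.eq_one_iff _).mpr hh)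
    set B := I ⊔ Subgroup.zpowers (π ⟨_, hxzT⟩) with hBdef
    have hB : Nat.card B = p * Nat.card I := by
      have hzc : Nat.card (Subgroup.zpowers (π ⟨_, hxzT⟩)) ≤ p := by
        rw [Nat.card_zpowers]
        exact Nat.le_of_dvd hp'.pos (orderOf_dvd_of_pow_eq_one (hM _))
      have hlt : I < B := lt_of_le_of_ne le_sup_left fun e =>
        hxzN ((hmemN ⟨_, hxzT⟩).mpr (e.ge (Subgroup.mem_sup_right (Subgroup.mem_zpowers _))))
      have hPM : IsPGroup p (T ⧸ frattini T) := fun q => ⟨1, by rw [pow_one]; exact hM q⟩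
      refine le_antisymm ?_ (mul_card_le_of_lt hPM hlt)
      have hf : B = (MonoidHom.noncommCoprod I.subtype (Subgroup.zpowers (π ⟨_, hxzT⟩)).subtype
          fun _ _ => Commute.all _ _).range := by
        rw [MonoidHom.noncommCoprod_range, Subgroup.range_subtype, Subgroup.range_subtype]
      rw [hf]
      refine (Nat.le_of_dvd Nat.card_pos (Subgroup.card_range_dvd _)).trans ?_
      rw [Nat.card_prod, mul_comm p]
      exact Nat.mul_le_mul_left _ hzc
    refine hseries le_sup_left hB fun a q hq => ?_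
    have hmap : B.map (frAct hTE hTinv a).toMonoidHom ≤ B := by
      rw [hBdef, Subgroup.map_sup, MonoidHom.map_zpowers]
      refine sup_le ((Subgroup.map_le_iff_le_comap).mpr fun r hr => Subgroup.mem_sup_left (hIinv a r hr))
        (Subgroup.zpowers_le.mpr ?_)
      show π ⟨ap (a : MulAut E₁) ⁅x, z₀⁆, hTinv _ a.2 _ hxzT⟩ ∈ B
      have hap : ap (a : MulAut E₁) ⁅x, z₀⁆ = ⁅ap (a : MulAut E₁) x, ap (a : MulAut E₁) z₀⁆ := by
        have hz := hz₀.1
        simp only [commutatorElement_def]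
        rw [ap_map_mul _ (mul_mem (mul_mem hxE hz) (inv_mem hxE)) (inv_mem hz),
          ap_map_mul _ (mul_mem hxE hz) (inv_mem hxE), ap_map_mul _ hxE hz, ap_map_inv _ hxE, ap_map_inv _ hz]
      obtain ⟨k, hk⟩ := Subgroup.mem_zpowers_iff.mp
        (hcomm _ (ap_mem (a : MulAut E₁) hxE) _ (ap_mem (a : MulAut E₁) hz₀.1))
      rw [hcdef, ← map_zpow, ← hap, proj_eq_iff] at hk
      have h3 : π ((⟨⁅x, z₀⁆, hxzT⟩ : T) ^ k)⁻¹ * π ⟨ap (a : MulAut E₁) ⁅x, z₀⁆, hTinv _ a.2 _ hxzT⟩ ∈ I := by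
        rw [← map_mul]
        exact (hmemN _).mp hk
      have h4 := mul_mem (Subgroup.mem_sup_right (S := I) (Subgroup.zpow_mem_zpowers (π ⟨_, hxzT⟩) k))
        (Subgroup.mem_sup_left (T := Subgroup.zpowers (π ⟨_, hxzT⟩)) h3)
      rwa [map_inv, map_zpow, mul_inv_cancel_left] at h4
    exact hmap (Subgroup.mem_map_of_mem _ hq)
  -- `z₀^p` lies in `N`
  have hz0N : z₀ ^ p ∈ N := by
    refine (hmemN ⟨_, h.pow₁ z₀ hz₀.1⟩).mpr (hfix _ fun g => ?_)
    let Φ' := (frattini T).map T.subtype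
    have hΦn : Φ'.Normal := h.pair.v₁.normal_of_inv ((Subgroup.map_subtype_le _).trans hTE) (by
      rintro a ha _ ⟨t, ht, rfl⟩
      exact ⟨resHom hTE hTinv ⟨a, ha⟩ t,
        ((inferInstance : (frattini T).Characteristic).fixed (resHom hTE hTinv ⟨a, ha⟩)).ge ht, rfl⟩)
    let πΦ := QuotientGroup.mk' Φ'
    obtain ⟨t, ht, hgt⟩ : ∃ t ∈ T, g * z₀ * g⁻¹ = z₀ * t :=
      ⟨z₀⁻¹ * (g * z₀ * g⁻¹), conj_mem_step hP hTD h.card₀ g hz₀, (mul_inv_cancel_left _ _).symm⟩
    have hd : t⁻¹ * (z₀ * t * z₀⁻¹) ∈ N := hdispN z₀ hz₀.1 t ht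
    -- the commutator commutes with both modulo the Frattini subgroup
    have hNc : ∀ n ∈ N, ∀ s ∈ T, Commute (πΦ s) (πΦ n) := fun n hn s hs => by
      refine commutatorElement_eq_one_iff_mul_comm.mp ?_
      rw [← map_commutatorElement]
      exact (QuotientGroup.eq_one_iff _).mpr ⟨⁅⟨s, hs⟩, ⟨n, hNT hn⟩⁆, CfsgLib.PGroup.commutator_le_frattini
        (hP.to_subgroup T) (Subgroup.commutator_mem_commutator (Subgroup.mem_top _) (Subgroup.mem_top _)), rfl⟩
    have hNz : ∀ n ∈ N, Commute (πΦ z₀) (πΦ n) := fun n hn => by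
      refine (show πΦ z₀ * πΦ n = πΦ n * πΦ z₀ from ?_)
      have h1 : π ⟨z₀ * n * z₀⁻¹, (inferInstance : T.Normal).conj_mem n (hNT hn) z₀⟩ = π ⟨n, hNT hn⟩ := by
        have := hIfix z₀ (π ⟨n, hNT hn⟩) ((hmemN _).mp hn)
        exact this
      rw [proj_eq_iff] at h1
      rw [← map_mul, ← map_mul, eq_comm, proj_eq_iff]
      have h2 : (z₀ * n * z₀⁻¹)⁻¹ * n ∈ Φ' := ⟨_, h1, rfl⟩
      have h3 := hΦn.conj_mem _ (inv_mem h2) z₀⁻¹
      have e1 : (n * z₀)⁻¹ * (z₀ * n) = z₀⁻¹ * ((z₀ * n * z₀⁻¹)⁻¹ * n)⁻¹ * z₀⁻¹⁻¹ := by group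
      rw [e1]; exact h3
    set a' := πΦ z₀ with ha'
    set b' := πΦ t with hb'
    set d := πΦ (t⁻¹ * (z₀ * t * z₀⁻¹)) with hd'
    have had : Commute a' d := hNz _ hd
    have hbd : Commute b' d := hNc _ hd t ht
    have hbp : b' ^ p = 1 := by
      rw [hb', ← map_pow]
      exact (QuotientGroup.eq_one_iff _).mpr
        ⟨⟨t, ht⟩ ^ p, CfsgLib.PGroup.pow_mem_frattini (hP.to_subgroup T) _, rfl⟩
    have hdp : d ^ p = 1 := by
      rw [hd', ← map_pow]
      exact (QuotientGroup.eq_one_iff _).mpr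
        ⟨⟨_, hNT hd⟩ ^ p, CfsgLib.PGroup.pow_mem_frattini (hP.to_subgroup T) _, rfl⟩
    have hab : a' * b' = b' * d * a' := by
      rw [ha', hb', hd', ← map_mul, ← map_mul, ← map_mul]
      congr 1
      group
    have hbn : ∀ n : ℕ, a' * b' ^ n = b' ^ n * d ^ n * a' := by
      intro n
      induction n with
      | zero => simp
      | succ n ih =>
        calc a' * b' ^ (n + 1) = a' * b' ^ n * b' := by rw [pow_succ, mul_assoc]
          _ = b' ^ n * d ^ n * (a' * b') := by rw [ih, mul_assoc]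
          _ = b' ^ n * (d ^ n * b') * d * a' := by rw [hab]; simp only [mul_assoc]
          _ = b' ^ (n + 1) * d ^ (n + 1) * a' := by
            rw [((hbd.pow_right n).symm).eq, pow_succ, pow_succ]; simp only [mul_assoc]
    have hpow : ∀ n : ℕ, (a' * b') ^ n = b' ^ n * a' ^ n * d ^ (n + 1).choose 2 := by
      intro n
      induction n with
      | zero => simp
      | succ n ih =>
        have hdc : Commute (d ^ (n + 1).choose 2) (a' * b') := (had.mul_left hbd).symm.pow_left _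
        have hanb : ∀ m : ℕ, a' ^ m * b' = b' * d ^ m * a' ^ m := by
          intro m
          induction m with
          | zero => simp
          | succ m ihm =>
            calc a' ^ (m + 1) * b' = a' * (a' ^ m * b') := by rw [pow_succ', mul_assoc]
              _ = a' * b' * d ^ m * a' ^ m := by rw [ihm]; simp only [mul_assoc]
              _ = b' * d * (a' * d ^ m) * a' ^ m := by rw [hab]; simp only [mul_assoc]
              _ = b' * d ^ (m + 1) * a' ^ (m + 1) := by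
                rw [(had.pow_right m).eq, pow_succ' d, pow_succ' a']; simp only [mul_assoc]
        calc (a' * b') ^ (n + 1) = b' ^ n * a' ^ n * d ^ (n + 1).choose 2 * (a' * b') := by rw [pow_succ, ih]
          _ = b' ^ n * (a' ^ (n + 1) * b') * d ^ (n + 1).choose 2 := by
            rw [mul_assoc, hdc.eq, pow_succ]; simp only [mul_assoc]
          _ = b' ^ (n + 1) * (d ^ (n + 1) * a' ^ (n + 1)) * d ^ (n + 1).choose 2 := by
            rw [hanb, pow_succ b']; simp only [mul_assoc]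
          _ = _ := by
            rw [(((had.pow_left (n + 1)).pow_right (n + 1)).symm).eq, Nat.choose_succ_succ' (n + 1) 1,
              Nat.choose_one_right]
            simp only [mul_assoc, ← pow_add]
    have hch : p ∣ (p + 1).choose 2 := by
      rw [Nat.choose_two_right]
      obtain ⟨k, hk⟩ := hodd
      refine ⟨k + 1, ?_⟩
      rw [hk, Nat.add_sub_cancel, show (2 * k + 1 + 1) * (2 * k + 1) = 2 * ((2 * k + 1) * (k + 1)) by ring,
        Nat.mul_div_cancel_left _ (by norm_num)]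
    have hfin : (a' * b') ^ p = a' ^ p := by
      obtain ⟨m, hm⟩ := hch
      rw [hpow, hbp, one_mul, hm, pow_mul, hdp, one_pow, mul_one]
    have key : πΦ (g * z₀ ^ p * g⁻¹) = πΦ (z₀ ^ p) := by
      rw [← conj_pow, hgt, map_pow, map_mul, map_pow]
      exact hfin
    rw [proj_eq_iff] at key
    obtain ⟨s, hs, hse⟩ := key
    show π ⟨g * z₀ ^ p * g⁻¹, _⟩ = π ⟨z₀ ^ p, _⟩
    rw [proj_eq_iff]
    rwa [← show s = (⟨g * z₀ ^ p * g⁻¹, (inferInstance : T.Normal).conj_mem _ (h.pow₁ z₀ hz₀.1) g⟩ : T)⁻¹ *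
      ⟨z₀ ^ p, h.pow₁ z₀ hz₀.1⟩ from Subtype.ext hse]
  -- `E₁/N` would be elementary of order `p⁴`
  let Q : Subgroup P :=
    { carrier := {e | e ∈ E₁ ∧ e ^ p ∈ N}
      one_mem' := ⟨one_mem _, by rw [one_pow]; exact one_mem N⟩
      mul_mem' := fun {a b} ha hb => ⟨mul_mem ha.1 hb.1, by
        refine (QuotientGroup.eq_one_iff _).mp ?_
        show πN ((a * b) ^ p) = 1
        have hc : Commute (πN a) (πN b) := commutatorElement_eq_one_iff_mul_comm.mp (by
          rw [← map_commutatorElement]; exact (QuotientGroup.eq_one_iff _).mpr (hEN a ha.1 b hb.1))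
        rw [map_pow, map_mul, hc.mul_pow, ← map_pow, ← map_pow,
          show πN (a ^ p) = 1 from (QuotientGroup.eq_one_iff _).mpr ha.2,
          show πN (b ^ p) = 1 from (QuotientGroup.eq_one_iff _).mpr hb.2, one_mul]⟩
      inv_mem' := fun {a} ha => ⟨inv_mem ha.1, by rw [inv_pow]; exact inv_mem ha.2⟩ }
  have hQinv : Inv L₁ Q := by
    rintro a ha e ⟨he, he'⟩
    refine ⟨ap_mem a he, ?_⟩
    rw [← ap_map_pow a he]
    exact hNinv a ha _ he'
  have hTQ : T ≤ Q := fun t ht =>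
    ⟨hTE ht, hΦN ⟨⟨t, ht⟩ ^ p, CfsgLib.PGroup.pow_mem_frattini (hP.to_subgroup T) _, rfl⟩⟩
  rcases h.irr₁ Q hTQ (fun e he => he.1) hQinv with hQ | hQ
  · exact hz₀T (hQ.le ⟨hz₀.1, hz0N⟩)
  have hsec := card_section_le hr E₁ N (hNT.trans hTE) (fun e _ k hk => hNn.conj_mem k hk e) hEN
    fun e he => (hQ.ge he).2
  have hNc : Nat.card N * p ^ 2 = Nat.card T := by
    rw [hNdef, Subgroup.card_map_of_injective T.subtype_injective]
    have h1 := Subgroup.card_mul_index (I.comap π)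
    rw [Subgroup.index_comap_of_surjective I (QuotientGroup.mk'_surjective _)] at h1
    have h2 := Subgroup.card_mul_index I
    rw [hM3, hI] at h2
    rw [← h1, show I.index = p ^ 2 from Nat.eq_of_mul_eq_mul_left hp'.pos (h2.trans (pow_succ' p 2))]
  rw [h.pair.card₁, h.card₀, ← hNc, show p * (p * (Nat.card N * p ^ 2)) = p ^ 4 * Nat.card N by ring] at hsec
  exact absurd ((Nat.pow_le_pow_iff_right hp'.one_lt).mp (Nat.le_of_mul_le_mul_right hsec Nat.card_pos)) (by norm_num)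

end CfsgLib.RankThreePair
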