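import Cfsg.Agent.Lib.Fusion.RankThreePair.Index
import Cfsg.Agent.Lib.Fusion.RankThreePair.Basic
import Cfsg.Agent.Lib.Fusion.EssentialTorus

/-!
Essential subgroups of index `p` as vertices, and two invariant ones as a pair.
-/

set_option autoImplicit false
set_option maxHeartbeats 800000

namespace CfsgLib.RankThreePair

open Cfsg Cfsg.FusionSystem CfsgLib.Fusion

variable {p : ℕ} [hp : Fact p.Prime] {Ω : Type*} [Group Ω] {S : Subgroup Ω} {F : FusionSystem S}

/-- Automorphisms of `E ≤ S` read on the subgroup `E` of `↥S`. -/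
noncomputable def pull {E : Subgroup Ω} (hES : E ≤ S) : MulAut E →* MulAut (E.subgroupOf S) :=
  (MulAut.congr (Subgroup.subgroupOfEquivOfLe hES).symm).toMonoidHom

theorem ap_pull {E : Subgroup Ω} (hES : E ≤ S) (a : MulAut E) {x : S} (hx : (x : Ω) ∈ E) :
    ((ap (pull hES a) x : S) : Ω) = ((a ⟨x, hx⟩ : E) : Ω) := by
  rw [ap_of_mem (pull hES a) (x := x) hx]
  rfl

/-- The group of `F` on `E`, read inside `↥S`. -/
noncomputable def autS (F : FusionSystem S) {E : Subgroup Ω} (hES : E ≤ S) : Subgroup (MulAut (E.subgroupOf S)) :=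
  (F.autGroup E).map (pull hES)

/-- The normal closure of the conjugations in the group of `F` on `E`. -/
noncomputable def loc (F : FusionSystem S) {E : Subgroup Ω} (hES : E ≤ S) [(E.subgroupOf S).Normal] :
    Subgroup (MulAut (E.subgroupOf S)) :=
  Subgroup.closure {b | ∃ a ∈ autS F hES, ∃ g : S, b = a * MulAut.conjNormal g * a⁻¹}

variable {E : Subgroup Ω}

theorem le_normalizer_of_normal (hES : E ≤ S) [hn : (E.subgroupOf S).Normal] :
    S ≤ Subgroup.normalizer (E : Set Ω) := by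
  intro g hg
  rw [Subgroup.mem_normalizer_iff]
  refine fun x => ⟨fun hx => hn.conj_mem ⟨x, hES hx⟩ hx ⟨g, hg⟩, fun hx => ?_⟩
  have := hn.conj_mem ⟨_, hES hx⟩ hx ⟨g⁻¹, inv_mem hg⟩
  simpa [Subgroup.mem_subgroupOf, mul_assoc] using this

theorem conj_eq_pull (hES : E ≤ S) [(E.subgroupOf S).Normal] (g : S) :
    ∃ c ∈ autInducedBy S E, pull hES c = MulAut.conjNormal g := by
  obtain ⟨c, hc, hce⟩ := exists_autInducedBy (K := S) (P := E) g.2 (le_normalizer_of_normal hES g.2)
  refine ⟨c, hc, ap_ext fun x hx => Subtype.ext ?_⟩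
  rw [ap_pull hES c hx, hce, ap_conj g hx]
  rfl

theorem conj_mem_autS (hES : E ≤ S) [(E.subgroupOf S).Normal] (g : S) :
    (MulAut.conjNormal g : MulAut (E.subgroupOf S)) ∈ autS F hES := by
  obtain ⟨c, hc, hce⟩ := conj_eq_pull hES g
  exact hce ▸ Subgroup.mem_map_of_mem _ (autInducedBy_le_autGroup hES hc)

theorem loc_le_autS (hES : E ≤ S) [(E.subgroupOf S).Normal] : loc F hES ≤ autS F hES := by
  rw [loc, Subgroup.closure_le]
  rintro _ ⟨a, ha, g, rfl⟩
  exact mul_mem (mul_mem ha (conj_mem_autS hES g)) (inv_mem ha)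

theorem conj_mem_loc (hES : E ≤ S) [(E.subgroupOf S).Normal] (g : S) :
    (MulAut.conjNormal g : MulAut (E.subgroupOf S)) ∈ loc F hES :=
  Subgroup.subset_closure ⟨1, one_mem _, g, by group⟩

theorem loc_normal (hES : E ≤ S) [(E.subgroupOf S).Normal] {a : MulAut (E.subgroupOf S)} (ha : a ∈ autS F hES)
    {b : MulAut (E.subgroupOf S)} (hb : b ∈ loc F hES) : a * b * a⁻¹ ∈ loc F hES := by
  have hle : (loc F hES).map (MulAut.conj a).toMonoidHom ≤ loc F hES := by
    rw [loc, MonoidHom.map_closure, Subgroup.closure_le]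
    rintro _ ⟨_, ⟨c, hc, g, rfl⟩, rfl⟩
    refine Subgroup.subset_closure ⟨a * c, mul_mem ha hc, g, ?_⟩
    show a * (c * MulAut.conjNormal g * c⁻¹) * a⁻¹ = _
    group
  exact hle ⟨b, hb, rfl⟩

theorem range_conj_eq (hES : E ≤ S) [(E.subgroupOf S).Normal] :
    (MulAut.conjNormal : S →* MulAut (E.subgroupOf S)).range = (autInducedBy S E).map (pull hES) := by
  refine le_antisymm ?_ ?_
  · rintro _ ⟨g, rfl⟩
    obtain ⟨c, hc, hce⟩ := conj_eq_pull hES g
    exact ⟨c, hc, hce⟩
  · rintro _ ⟨c, hc, rfl⟩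
    obtain ⟨g, hg, hge⟩ := mem_autInducedBy.mp hc
    refine ⟨⟨g, hg⟩, ap_ext fun x hx => Subtype.ext ?_⟩
    rw [ap_pull hES c hx, hge, ap_conj _ hx]
    rfl

/-- An essential subgroup of index `p` gives a vertex. -/
theorem vertex_loc [Finite S] (hS : IsPGroup p S) (hF : F.IsSaturated p) (hE : F.IsEssential p E)
    [hn : (E.subgroupOf S).Normal] (hidx : (E.subgroupOf S).index = p) :
    Vertex p (E.subgroupOf S) (loc F hE.1.1) := by
  classical
  have hp' : p.Prime := hp.out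
  have hES : E ≤ S := hE.1.1
  have hrad := radical_of_essential hE hS
  have hC : centralizerIn S E ≤ E := IsCentric.centralizerIn_le' hE.1
  obtain ⟨⟨-, R, hR⟩, -⟩ := fullyNormalized_good hS hF hE.2.1
  have hfinA : Finite (MulAut E) := finite_mulAut hES
  have hfinB : Finite (MulAut (E.subgroupOf S)) :=
    Finite.of_injective (fun f : MulAut (E.subgroupOf S) => (f : E.subgroupOf S → E.subgroupOf S))
      DFunLike.coe_injective
  set L := loc F hES
  set U := (MulAut.conjNormal : S →* MulAut (E.subgroupOf S)).range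
  have hUL : U ≤ L := by rintro _ ⟨g, rfl⟩; exact conj_mem_loc hES g
  have hUA : U ≤ autS F hES := hUL.trans (loc_le_autS hES)
  have hUp : IsPGroup p U := hS.of_surjective _ (MonoidHom.rangeRestrict_surjective _)
  have hsA : ¬ p ∣ (U.subgroupOf (autS F hES)).index := by
    intro h
    refine R.not_dvd_index (h.trans (dvd_of_eq ?_))
    rw [hR]
    show U.relIndex (autS F hES) = (autInducedBy S E).relIndex (F.autGroup E)
    rw [show U = (autInducedBy S E).map (pull hES) from range_conj_eq hES, autS]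
    exact Subgroup.relIndex_map_map_of_injective _ _ (MulEquiv.injective _)
  have hsL : ¬ p ∣ (U.subgroupOf L).index := by
    intro h
    exact hsA (h.trans (Dvd.intro _ (Subgroup.relIndex_mul_relIndex U L (autS F hES) hUL (loc_le_autS hES))))
  refine ⟨hidx, fun g => conj_mem_loc hES g, fun M hM hcj hn' => ?_, hsL, ?_, ?_⟩
  · refine le_antisymm hM ?_
    rw [show L = loc F hES from rfl, loc, Subgroup.closure_le]
    rintro _ ⟨a, ha, g, rfl⟩
    set V := U.map (MulAut.conj a).toMonoidHom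
    have hVL : V ≤ L := by
      rintro _ ⟨u, hu, rfl⟩
      exact loc_normal hES ha (hUL hu)
    have hcard : Nat.card V = Nat.card U := Subgroup.card_map_of_injective (MulAut.conj a).injective
    let SU : Sylow p L := (hUp.comap_subtype (K := L)).toSylow hsL
    have hsV : ¬ p ∣ (V.subgroupOf L).index := by
      intro h
      refine hsL ?_
      have e1 := Subgroup.card_mul_index (V.subgroupOf L)
      have e2 := Subgroup.card_mul_index (U.subgroupOf L)
      rw [Nat.card_congr (Subgroup.subgroupOfEquivOfLe hVL).toEquiv, hcard] at e1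
      rw [Nat.card_congr (Subgroup.subgroupOfEquivOfLe hUL).toEquiv] at e2
      rwa [Nat.eq_of_mul_eq_mul_left Nat.card_pos (e2.trans e1.symm)]
    let SV : Sylow p L := ((hUp.map _).comap_subtype (K := L)).toSylow hsV
    obtain ⟨l, hl⟩ := MulAction.exists_smul_eq L SU SV
    have hmem : (⟨a * MulAut.conjNormal g * a⁻¹, hVL ⟨_, ⟨g, rfl⟩, rfl⟩⟩ : L) ∈ (SV : Subgroup L) :=
      show a * MulAut.conjNormal g * a⁻¹ ∈ V from ⟨_, ⟨g, rfl⟩, rfl⟩
    rw [← hl] at hmem
    obtain ⟨u, hu, hue⟩ := hmem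
    have he : (l : MulAut (E.subgroupOf S)) * (u : MulAut (E.subgroupOf S)) * (l : MulAut (E.subgroupOf S))⁻¹ =
        a * MulAut.conjNormal g * a⁻¹ := congrArg Subtype.val hue
    show a * MulAut.conjNormal g * a⁻¹ ∈ M
    rw [← he]
    obtain ⟨k, hk⟩ := (hu : (u : MulAut (E.subgroupOf S)) ∈ U)
    exact hn' _ l.2 _ (Eq.subst (motive := fun w => w ∈ M) hk (hcj k))
  · intro hLp
    obtain ⟨g, hg⟩ : ∃ g : S, g ∉ E.subgroupOf S := by
      by_contra! h
      rw [(eq_top_iff.mpr fun x _ => h x : E.subgroupOf S = ⊤), Subgroup.index_top] at hidx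
      exact hp'.ne_one hidx.symm
    obtain ⟨c, hc, hce⟩ := conj_eq_pull hES g
    have hle : (L.comap (pull hES)) ≤ Inn E := by
      refine le_inn_of_radical hrad (fun b hb => ?_) (hLp.comap_of_injective _ (MulEquiv.injective _))
        fun b hb a ha => ?_
      · obtain ⟨b', hb', hbe⟩ := loc_le_autS hES hb
        exact MulEquiv.injective _ hbe ▸ hb'
      · show pull hES (a * b * a⁻¹) ∈ L
        rw [map_mul, map_mul, map_inv]
        exact loc_normal hES (Subgroup.mem_map_of_mem _ ha) hb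
    refine hg ?_
    obtain ⟨h, hh, hhe⟩ := mem_autInducedBy.mp hc
    have hin : c ∈ Inn E := hle (show pull hES c ∈ L from hce ▸ conj_mem_loc hES g)
    have hcg : ∀ x : E, ((c x : E) : Ω) = (g : Ω) * x * (g : Ω)⁻¹ := fun x => by
      have := congrArg (fun b => ((ap b (⟨x, hES x.2⟩ : S) : S) : Ω)) hce
      beta_reduce at this
      rw [ap_pull hES c (x := ⟨x, hES x.2⟩) x.2, ap_conj g (x := ⟨x, hES x.2⟩) x.2] at this
      exact this
    exact Subgroup.mem_subgroupOf.mpr ((mem_inn_iff_mem hES hC g.2 hcg).mp hin)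
  · intro x hx
    refine Subgroup.mem_subgroupOf.mpr (hC ⟨x.2, Subgroup.mem_centralizer_iff.mpr fun y hy => ?_⟩)
    exact congrArg Subtype.val (Subgroup.mem_centralizer_iff.mp hx ⟨y, hES hy⟩ hy)

/-- Elements normalising the conjugations extend to `F`-automorphisms of `S`. -/
theorem exists_extend_top [Finite S] (hS : IsPGroup p S) (hF : F.IsSaturated p) (hE : F.IsEssential p E)
    [hn : (E.subgroupOf S).Normal] {n : MulAut (E.subgroupOf S)} (hnA : n ∈ autS F hE.1.1)
    (hnU : ∀ g : S, n * MulAut.conjNormal g * n⁻¹ ∈ (MulAut.conjNormal : S →* MulAut (E.subgroupOf S)).range) :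
    ∃ β ∈ F.autGroup S, ∀ x ∈ E.subgroupOf S, β x = ap n x := by
  have hES : E ≤ S := hE.1.1
  obtain ⟨α, hα, rfl⟩ := hnA
  obtain ⟨β, hβ, hβe⟩ := CfsgLib.FusionTorus.exists_extend_normalizing hS hF hE.2.1 hα fun a ha => by
    obtain ⟨g, hg⟩ : pull hES a ∈ (MulAut.conjNormal : S →* MulAut (E.subgroupOf S)).range := by
      rw [range_conj_eq hES]; exact Subgroup.mem_map_of_mem _ ha
    have := hnU g
    rw [hg, ← map_inv, ← map_mul, ← map_mul, range_conj_eq hES] at this
    exact (Subgroup.mem_map_iff_mem (MulEquiv.injective _)).mp this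
  have hNS : normalizerIn S E = S := le_antisymm inf_le_left (le_inf le_rfl (le_normalizer_of_normal hES))
  have hres : ∀ {X : Subgroup Ω} (hXS : X = S) (b : MulAut X), b ∈ F.autGroup X →
      ∃ b' ∈ F.autGroup S, ∀ x : S, ((b' x : S) : Ω) = ((b ⟨x, hXS.symm ▸ x.2⟩ : X) : Ω) := by
    rintro X rfl b hb
    exact ⟨b, hb, fun _ => rfl⟩
  obtain ⟨β', hβ', hβ'e⟩ := hres hNS β hβ
  refine ⟨β', hβ', fun x hx => Subtype.ext ?_⟩
  rw [hβ'e, ap_pull hES α hx, ← hβe ⟨x, hx⟩]

/-- An `F`-automorphism of `S` fixing `E` maps the local group into itself. -/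
theorem exists_loc_conj [Finite S] (hES : E ≤ S) [hn : (E.subgroupOf S).Normal] {β : MulAut S}
    (hβ : β ∈ F.autGroup S) (hβE : (E.subgroupOf S).map β.toMonoidHom = E.subgroupOf S) :
    (∀ x ∈ E.subgroupOf S, β x ∈ E.subgroupOf S) ∧
      ∀ a ∈ loc F hES, ∃ b ∈ loc F hES, ∀ x ∈ E.subgroupOf S, β (ap a x) = ap b (β x) := by
  have hmem : ∀ x ∈ E.subgroupOf S, β x ∈ E.subgroupOf S := fun x hx => hβE ▸ Subgroup.mem_map_of_mem _ hx
  obtain ⟨φ, hφ, -, hφe⟩ := exists_map_of_mem_autGroup le_rfl hβ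
  obtain ⟨χ, hχ, hχr, hχe⟩ := exists_restrict hφ hES (Q := E) (by
    ext y
    constructor
    · rintro ⟨x, hx, rfl⟩
      rw [hφe]
      exact hmem x hx
    · intro hy
      obtain ⟨x, hx, hxy⟩ := hβE.ge (show (⟨y, hES hy⟩ : S) ∈ E.subgroupOf S from hy)
      exact ⟨x, hx, (hφe x).trans (congrArg Subtype.val hxy)⟩)
  obtain ⟨γ, hγ, hγe⟩ := exists_aut hχ hχr
  have hγβ : ∀ x ∈ E.subgroupOf S, β x = ap (pull hES γ) x := fun x hx => Subtype.ext (by
    rw [ap_pull hES γ hx, hγe, hχe, hφe])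
  refine ⟨hmem, fun a ha => ⟨pull hES γ * a * (pull hES γ)⁻¹, loc_normal hES (Subgroup.mem_map_of_mem _ hγ) ha,
    fun x hx => ?_⟩⟩
  rw [hγβ _ (ap_mem a hx), hγβ x hx, ap_mul, ap_mul, ap_inv_self]

variable {E' : Subgroup Ω}

/-- The extension property towards an invariant essential subgroup. -/
theorem torus_loc [Finite S] (hS : IsPGroup p S) (hF : F.IsSaturated p) (hE : F.IsEssential p E)
    [(E.subgroupOf S).Normal] (hE'S : E' ≤ S) [(E'.subgroupOf S).Normal]
    (hc' : ∀ φ : MulAut S, φ ∈ F.autGroup S → (E'.subgroupOf S).map φ.toMonoidHom = E'.subgroupOf S) :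
    Torus (E.subgroupOf S) (E'.subgroupOf S) (loc F hE.1.1) (loc F hE'S) := by
  intro n hnL hnU
  obtain ⟨β, hβ, hβe⟩ := exists_extend_top hS hF hE (loc_le_autS _ hnL) hnU
  obtain ⟨h1, h2⟩ := exists_loc_conj hE'S hβ (hc' β hβ)
  exact ⟨β, hβe, h1, h2⟩

omit hp in
theorem normal_of_invariant [Finite S]
    (hc : ∀ φ : MulAut S, φ ∈ F.autGroup S → (E.subgroupOf S).map φ.toMonoidHom = E.subgroupOf S) :
    (E.subgroupOf S).Normal := ⟨fun x hx g => by
  have := hc (MulAut.conj g) (inn_le_autGroup le_rfl (mem_inn.mpr ⟨g, fun _ => rfl⟩))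
  rw [← this]
  exact ⟨x, hx, rfl⟩⟩

end CfsgLib.RankThreePair
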