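import Cfsg.Agent.Lib.Fusion.RankThreePair.OrbitIn

/-!
The orbit `W` of `V` under the second group does not have order `p^4` when it is not abelian.
-/

set_option autoImplicit false
set_option maxHeartbeats 800000

namespace CfsgLib.RankThreePair

open Cfsg
open scoped commutatorElement

variable {P : Type*} [Group P] [Finite P] {p : ℕ} [hp : Fact p.Prime] {E₁ E₂ : Subgroup P} [E₁.Normal] [E₂.Normal]
  {L₁ : Subgroup (MulAut E₁)} {L₂ : Subgroup (MulAut E₂)} {V : Subgroup P}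

omit hp in
/-- An automorphism normalising `L₁` preserves the orbit of `Ω₁ Z(P)`. -/
theorem map_orbit (h : Pair p E₁ E₂ L₁ L₂) (hO : Orbit p L₁ V) [Fact p.Prime] {φ : MulAut P}
    (hφ : ∀ u ∈ E₁, φ u ∈ E₁) (hL : ∀ a ∈ L₁, ∃ b ∈ L₁, ∀ u ∈ E₁, φ (ap a u) = ap b (φ u)) :
    ∀ v ∈ V, φ v ∈ V := by
  intro v hv
  have hle : V ≤ E₁ ⊓ V.comap φ.toMonoidHom := by
    conv_lhs => rw [hO.eq]
    refine orb_le fun a ha z hz => ?_
    have hzE : z ∈ E₁ := hO.leE (hO.omle hz)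
    obtain ⟨b, hb, hab⟩ := hL a ha
    refine ⟨ap_mem a hzE, ?_⟩
    show φ (ap a z) ∈ V
    rw [hab z hzE]
    refine hO.inv b hb _ (hO.omle ⟨Subgroup.mem_center_iff.mpr fun g => ?_, by rw [← map_pow, hz.2, map_one]⟩)
    obtain ⟨k, rfl⟩ := φ.surjective g
    rw [← map_mul, ← map_mul, Subgroup.mem_center_iff.mp hz.1 k]
  exact (hle hv).2

variable {h : Pair p E₁ E₂ L₁ L₂}

omit hp in
theorem Inner.card_stab [Fact p.Prime] (hI : Inner p h V) {a : P} (ha : a ∈ V)
    (hW : ¬ ∀ u ∈ orb L₂ V, ∀ v ∈ orb L₂ V, u * v = v * u) (haV : omZ p P ⊔ Subgroup.zpowers a = V) :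
    Nat.card (orb L₂ V) = p * Nat.card (orb L₂ V ⊓ Subgroup.centralizer {a} : Subgroup P) ∧
      ∀ {z}, z ∈ omZ p P → ∀ {t}, t ∈ orb L₂ V → ⁅a, t⁆ ≠ 1 → ∃ k : ℤ, ⁅a, t ^ k⁆ = z := by
  have haW : a ∈ orb L₂ V := le_orb _ _ ha
  have hWE := orb_le_self (L := L₂) hI.le
  refine ⟨card_centralizer_inf hI.cardZ (fun g hg k hk => hI.commW a haW k (hWE hk) g)
    (fun g hg => hI.wz a haW g (hWE hg)) ?_, fun {z} hz {t} ht ht1 => ?_⟩
  · by_contra! hh
    refine hW ?_
    have hVc : ∀ v ∈ V, ∀ g ∈ orb L₂ V, g * v = v * g := by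
      intro v hv g hg
      rw [← haV] at hv
      have hle : omZ p P ⊔ Subgroup.zpowers a ≤ Subgroup.centralizer {g} := sup_le
        (fun w hw => Subgroup.mem_centralizer_singleton_iff.mpr (Subgroup.mem_center_iff.mp hw.1 g).symm)
        (Subgroup.zpowers_le.mpr (Subgroup.mem_centralizer_singleton_iff.mpr
          (commutatorElement_eq_one_iff_mul_comm.mp (hh g hg))))
      exact (Subgroup.mem_centralizer_singleton_iff.mp (hle hv)).symm
    intro u hu v hv
    have hle : orb L₂ V ≤ Subgroup.centralizer {v} := by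
      refine orb_le fun b hb w hw => Subgroup.mem_centralizer_singleton_iff.mpr ?_
      have hv' : ap b⁻¹ v ∈ orb L₂ V := inv_orb L₂ hI.le _ (inv_mem hb) v hv
      have := congrArg (ap b) (hVc w hw _ hv')
      rw [ap_map_mul b (hWE hv') (hI.le hw), ap_map_mul b (hI.le hw) (hWE hv'), ap_self_inv] at this
      exact this.symm
    exact Subgroup.mem_centralizer_singleton_iff.mp (hle hu)
  · obtain ⟨k, hk⟩ := exists_zpow_eq hI.cardZ (hI.wz a haW t (hWE ht)) ht1 hz
    exact ⟨k, by rw [comm_zpow_right (hI.commW a haW t (hWE ht) t), hk]⟩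

theorem false_of_card_four (hP : IsPGroup p P) (hodd : Odd p) (hI : Inner p h V)
    (hnab : ¬ ∀ u ∈ orb L₂ V, ∀ v ∈ orb L₂ V, u * v = v * u) (hW4 : Nat.card (orb L₂ V) = p ^ 4) : False := by
  have hp' : p.Prime := hp.out
  obtain ⟨a, haV, haZ, hVgen⟩ := hI.exists_a
  obtain ⟨hA0, hzk⟩ := hI.card_stab haV hnab hVgen
  set W := orb L₂ V with hWdef
  set Z := omZ p P with hZdef
  have hWn : W.Normal := hI.normalW
  have hVn : V.Normal := hI.normalV
  have hZn : Z.Normal := hI.normalZ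
  have hVW : V ≤ W := le_orb _ _
  have hWE : W ≤ E₂ := orb_le_self hI.le
  have hZW : Z ≤ W := hI.orbit.omle.trans hVW
  have haW : a ∈ W := hVW haV
  set A₀ := W ⊓ Subgroup.centralizer {a} with hA₀def
  have hA₀c : Nat.card A₀ = p ^ 3 := Nat.eq_of_mul_eq_mul_left hp'.pos (by rw [← hA0, hW4, pow_succ'])
  have hVA : V ≤ A₀ := fun v hv => ⟨hVW hv, Subgroup.mem_centralizer_singleton_iff.mpr (hI.orbit.comm' v hv a haV)⟩
  obtain ⟨u, huA, huV⟩ := SetLike.exists_of_lt (lt_of_le_of_ne hVA fun e => by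
    rw [← e, hI.cardV] at hA₀c
    exact absurd (Nat.pow_right_injective hp'.two_le hA₀c) (by norm_num))
  have hVu : V ⊔ Subgroup.zpowers u = A₀ := sup_zpowers_eq hVA (by rw [hA₀c, hI.cardV]; ring) huA huV
  obtain ⟨w, hw, hwA⟩ := SetLike.exists_of_lt (lt_of_le_of_ne (inf_le_left : A₀ ≤ W) fun e => by
    rw [show A₀ = W from e, hW4] at hA₀c
    exact absurd (Nat.pow_right_injective hp'.two_le hA₀c) (by norm_num))
  have haw : ⁅a, w⁆ ≠ 1 := fun e => hwA ⟨hw, Subgroup.mem_centralizer_singleton_iff.mpr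
    (commutatorElement_eq_one_iff_mul_comm.mp e).symm⟩
  have hWgen : A₀ ⊔ Subgroup.zpowers w = W :=
    sup_zpowers_eq inf_le_left (by rw [hW4, hA₀c, pow_succ']) hw hwA
  -- the centre of `W`
  set R := W ⊓ Subgroup.centralizer (W : Set P) with hRdef
  have hRinv : Inv L₂ R := by
    intro b hb r hr
    refine ⟨inv_orb L₂ hI.le b hb r hr.1, Subgroup.mem_centralizer_iff.mpr fun t ht => ?_⟩
    have ht' : ap b⁻¹ t ∈ W := inv_orb L₂ hI.le _ (inv_mem hb) t ht
    have := congrArg (ap b) (Subgroup.mem_centralizer_iff.mp hr.2 _ ht')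
    rwa [ap_map_mul b (hWE ht') (hWE hr.1), ap_map_mul b (hWE hr.1) (hWE ht'), ap_self_inv] at this
  have hRn : R.Normal := h.v₂.normal_of_inv (inf_le_left.trans hWE) hRinv
  have hZR : Z ≤ R := fun z hz => ⟨hZW hz, Subgroup.mem_centralizer_iff.mpr fun t _ =>
    Subgroup.mem_center_iff.mp hz.1 t⟩
  have haR : a ∉ R := fun e => haw (commutatorElement_eq_one_iff_mul_comm.mpr
    (Subgroup.mem_centralizer_iff.mp e.2 w hw).symm)
  have hRA : R ≤ A₀ := fun r hr => ⟨hr.1, Subgroup.mem_centralizer_singleton_iff.mpr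
    (Subgroup.mem_centralizer_iff.mp hr.2 a haW).symm⟩
  -- an element of the centre outside `V`
  obtain ⟨k, hk⟩ : ∃ k : ℤ, ⁅w, a ^ k⁆ = ⁅w, u⁆⁻¹ := by
    have h1 : ⁅w, a⁆ ≠ 1 := fun e => haw (by rw [← commutatorElement_inv, e, inv_one])
    obtain ⟨k, hk⟩ := exists_zpow_eq hI.cardZ (hI.wz w hw a (hWE haW)) h1 (inv_mem (hI.wz w hw u (hWE huA.1)))
    exact ⟨k, by rw [comm_zpow_right (hI.commW w hw a (hWE haW) a), hk]⟩
  set r := u * a ^ k with hrdef
  have hrR : r ∈ R := by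
    have hakW : a ^ k ∈ W := zpow_mem haW k
    refine ⟨mul_mem huA.1 hakW, Subgroup.mem_centralizer_iff.mpr fun t ht => ?_⟩
    have hwr : ⁅w, r⁆ = 1 := by
      rw [hrdef, comm_mul_right (hI.commW w hw _ (hWE hakW) u), hk, mul_inv_cancel]
    have hle : W ≤ Subgroup.centralizer {r} := by
      rw [← hWgen, ← hVu, ← hVgen]
      have hua : u * a = a * u := Subgroup.mem_centralizer_singleton_iff.mp huA.2
      refine sup_le (sup_le (sup_le (fun z hz => ?_) (Subgroup.zpowers_le.mpr ?_)) (Subgroup.zpowers_le.mpr ?_))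
        (Subgroup.zpowers_le.mpr ?_)
      · exact Subgroup.mem_centralizer_singleton_iff.mpr (Subgroup.mem_center_iff.mp hz.1 r).symm
      · refine Subgroup.mem_centralizer_singleton_iff.mpr ?_
        exact ((show Commute a u from hua.symm).mul_right ((Commute.refl a).zpow_right k)).eq
      · refine Subgroup.mem_centralizer_singleton_iff.mpr ?_
        exact ((Commute.refl u).mul_right ((show Commute u a from hua).zpow_right k)).eq
      · exact Subgroup.mem_centralizer_singleton_iff.mpr (commutatorElement_eq_one_iff_mul_comm.mp hwr)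
    exact Subgroup.mem_centralizer_singleton_iff.mp (hle ht)
  have hrV : r ∉ V := fun e => huV (by
    have := mul_mem e (inv_mem (zpow_mem haV k))
    rwa [hrdef, mul_inv_cancel_right] at this)
  have hRc : Nat.card R = p ^ 2 := by
    have h1 := mul_card_le_of_lt hP (lt_of_le_of_ne hZR fun e => hrV (hI.orbit.omle (e.ge hrR)))
    have h2 := mul_card_le_of_lt hP (lt_of_le_of_ne hRA fun e => haR (e.ge ⟨haW, Subgroup.mem_centralizer_singleton_iff.mpr rfl⟩))
    rw [hI.cardZ, ← pow_two] at h1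
    rw [hA₀c, pow_succ' p 2] at h2
    exact le_antisymm (Nat.le_of_mul_le_mul_left h2 hp'.pos) h1
  have hRgen : R ⊔ Subgroup.zpowers a = A₀ :=
    sup_zpowers_eq hRA (by rw [hA₀c, hRc]; ring) ⟨haW, Subgroup.mem_centralizer_singleton_iff.mpr rfl⟩ haR
  -- the splitting of `W` modulo `Z`
  obtain ⟨x, hxE, hx⟩ := hI.exists_x
  have hH : ∀ t ∈ W, (t ∈ A₀ ↔ t⁻¹ * (x * t * x⁻¹) ∈ Z) := by
    let π := QuotientGroup.mk' Z
    let T : Subgroup P := MonoidHom.eqLocus (π.comp (MulAut.conj x).toMonoidHom) π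
    have hT : ∀ t, t ∈ T ↔ t⁻¹ * (x * t * x⁻¹) ∈ Z := fun t =>
      eq_comm.trans ((inv_mul_eq_one (a := π t) (b := π (x * t * x⁻¹))).symm.trans (by
        rw [← map_inv, ← map_mul]; exact QuotientGroup.eq_one_iff _))
    have hA₀T : A₀ ≤ T := by
      rw [← hRgen]
      refine sup_le (fun t ht => (hT t).mpr (conj_mem_step hP hZR (by rw [hRc, hI.cardZ]; ring) x ht))
        (Subgroup.zpowers_le.mpr ((hT a).mpr ?_))
      rw [hI.orbit.comm a haV x hxE, mul_inv_cancel_right, inv_mul_cancel]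
      exact one_mem Z
    intro t ht
    refine ⟨fun hh => (hT t).mp (hA₀T hh), fun hh => ?_⟩
    by_contra htA
    refine hI.not_fix hx fun s hs => (hT s).mp ?_
    have hs' : s ∈ A₀ ⊔ Subgroup.zpowers t :=
      (sup_zpowers_eq (inf_le_left : A₀ ≤ W) (by rw [hW4, hA₀c, pow_succ']) ht htA).ge hs
    exact sup_le hA₀T (Subgroup.zpowers_le.mpr ((hT t).mpr hh)) hs'
  obtain ⟨b₁, hb₁, t₁, ht₁, ht₁'⟩ : ∃ b ∈ L₂, ∃ t ∈ A₀, ap b t ∉ A₀ := by
    by_contra! hh
    exact hwA ((orb_le fun b hb t ht => hh b hb t (hVA ht) : orb L₂ V ≤ A₀) hw)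
  obtain ⟨D, Pl, s, n, hS⟩ := exists_split_section hP h.v₂ hx W Z A₀ hZW hWE (inv_orb L₂ hI.le)
    (fun b hb z hz => by rw [hI.fixZ b hb z hz]; exact hz) (fun u hu v hv => hI.wz u hu v (hWE hv))
    (fun u hu => by rw [hI.wexp u hu]; exact one_mem Z)
    (fun e he t ht => by
      have := hI.wz t⁻¹ (inv_mem ht) e he
      rwa [commutatorElement_def, inv_inv, mul_assoc, mul_assoc, ← mul_assoc e] at this)
    inf_le_left hH (by rw [hW4, hA₀c, pow_succ']) ⟨b₁, hb₁, t₁, ht₁, ht₁'⟩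
  have hRD : R = D := by
    refine Subgroup.eq_of_le_of_card_ge (fun t ht => hS.maxD t ht.1 ?_) ?_
    · exact fun b hb => h.v₂.trivial_of hZR (inf_le_left.trans hWE) hRinv
        (fun b hb z hz => by rw [hI.fixZ b hb z hz]; exact hz)
        (fun g t ht => conj_mem_step hP hZR (by rw [hRc, hI.cardZ]; ring) g ht) b hb t ht
    · rw [hRc]
      have h1 := hS.cardD
      rw [hA₀c, pow_succ'] at h1
      exact (Nat.eq_of_mul_eq_mul_left hp'.pos h1).ge
  obtain ⟨φ, hφE, hφ1, hφL⟩ := h.t₂ n hS.nL hS.nU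
  have hφV := map_orbit h hI.orbit hφ1 hφL
  have hgenA : D ⊔ Subgroup.zpowers s = A₀ := sup_zpowers_eq hS.DH hS.cardD hS.sH hS.sD
  have hDn : D.Normal := hRD ▸ hRn
  obtain ⟨δ, hδ, _, ⟨l, rfl⟩, hal⟩ :=
    Subgroup.mem_sup_of_normal_left.mp (hgenA.ge (⟨haW, Subgroup.mem_centralizer_singleton_iff.mpr rfl⟩ : a ∈ A₀))
  dsimp only at hal
  have hsW : s ∈ W := hS.sH.1
  have hδW : δ ∈ W := (hS.DH hδ).1
  -- modulo `Z`, `a * φ a` is the square of `δ`
  let π := QuotientGroup.mk' Z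
  have hπ : ∀ {t t' : P}, t⁻¹ * t' ∈ Z → π t' = π t := fun {t t'} hh => (QuotientGroup.eq.mpr hh).symm
  have hns : π (ap n s) = (π s)⁻¹ := eq_inv_of_mul_eq_one_right (by
    rw [← map_mul]; exact (QuotientGroup.eq_one_iff _).mpr hS.ns)
  have hφa : π (a * φ a) = π (δ ^ 2) := by
    rw [hφE a (hWE haW), ← hal, map_mul, map_mul, ap_map_mul n (hWE hδW) (zpow_mem (hWE hsW) l),
      ap_map_zpow n (hWE hsW), map_mul, map_zpow, map_zpow, hπ (hS.nD δ hδ), hns, map_pow, pow_two, inv_zpow]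
    have hc : Commute (π δ) (π s ^ l) := by
      refine Commute.zpow_right ?_ l
      rw [hRD.symm] at hδ
      show π δ * π s = π s * π δ
      rw [← map_mul, ← map_mul, Subgroup.mem_centralizer_iff.mp hδ.2 s hsW]
    rw [mul_assoc, ← mul_assoc (π s ^ l), ← hc.eq, mul_assoc (π δ) (π s ^ l), mul_inv_cancel, mul_one]
  have hδ2 : δ ^ 2 ∈ V := by
    have h1 : (a * φ a)⁻¹ * δ ^ 2 ∈ V := hI.orbit.omle (QuotientGroup.eq.mp hφa)
    have := mul_mem (mul_mem haV (hφV a haV)) h1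
    rwa [mul_inv_cancel_left] at this
  have hδZ : δ ∈ Z := by
    have hVR : V ⊓ R = Z := by
      by_contra hne
      have he := eq_of_lt_of_card (lt_of_le_of_ne (le_inf hI.orbit.omle hZR) (Ne.symm hne)) inf_le_left
        (by rw [hI.cardV, hI.cardZ]; ring)
      exact haR (inf_eq_left.mp he haV)
    exact mem_of_zpow_mem (i := 2) (fun hd => by
        have h2 : p ∣ 2 := by exact_mod_cast hd
        have := (Nat.prime_dvd_prime_iff_eq hp' Nat.prime_two).mp h2
        subst this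
        exact absurd hodd (by decide))
      (by rw [hI.wexp δ hδW]; exact one_mem Z) (hVR ▸ ⟨by exact_mod_cast hδ2, hRD.ge (zpow_mem hδ 2)⟩)
  have haPl : a ∈ Pl := by
    rw [← hal]; exact mul_mem (hS.KPl hδZ) (zpow_mem hS.sPl l)
  have hVPl : V ≤ Pl := by
    rw [← hVgen]; exact sup_le hS.KPl (Subgroup.zpowers_le.mpr haPl)
  have hle := Subgroup.card_le_of_le (orb_le fun b hb v hv => hS.invPl b hb v (hVPl hv) : W ≤ Pl)
  rw [hW4, hS.cardPl, hI.cardZ, ← pow_succ] at hle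
  exact absurd ((Nat.pow_le_pow_iff_right hp'.one_lt).mp hle) (by norm_num)

end CfsgLib.RankThreePair
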