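import Cfsg.Agent.Lib.Fusion.RankThreePair.Shapes
import Cfsg.Agent.Lib.Sp.Card
import Cfsg.Prelude.Def_Transfer

/-!
The shape of order `p⁴` is a Sylow subgroup of `Sp(4,p)`; its second vertex is extraspecial.
-/

set_option autoImplicit false
set_option maxHeartbeats 800000

namespace CfsgLib.RankThreePair

open Cfsg
open scoped commutatorElement

variable {p : ℕ} [hp : Fact p.Prime]

/-- The relations of the group of order `p⁴`. -/
structure Rels (p : ℕ) {G : Type*} [Group G] (x a d y : G) : Prop where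
  xp : x ^ p = 1
  ap : a ^ p = 1
  dp : d ^ p = 1
  yp : y ^ p = 1
  xa : x * a = a * x
  xd : x * d = d * x
  ad : a * d = d * a
  yd : y * d = d * y
  yx : y * x = x * a * y
  ya : y * a = a * d * y

/-- Adjoining an element normalising `A` with `p`-th power in `A` multiplies the order by at most `p`. -/
theorem card_sup_zpowers_le {G : Type*} [Group G] [Finite G] {A : Subgroup G} {x : G}
    (hx : x ∈ Subgroup.normalizer (A : Set G)) (hxp : x ^ p ∈ A) :
    Nat.card (A ⊔ Subgroup.zpowers x : Subgroup G) ≤ p * Nat.card A := by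
  have hmem : ∀ u ∈ A ⊔ Subgroup.zpowers x, ∃ h ∈ A, ∃ i : Fin p, u = h * x ^ (i : ℕ) := by
    intro u hu
    rw [← SetLike.mem_coe, Subgroup.coe_mul_of_right_le_normalizer_left A _ (Subgroup.zpowers_le.mpr hx)] at hu
    obtain ⟨h, hh, _, ⟨j, rfl⟩, rfl⟩ := hu
    have hp0 : (p : ℤ) ≠ 0 := by exact_mod_cast hp.out.ne_zero
    refine ⟨h * (x ^ p) ^ (j / p), mul_mem hh (zpow_mem hxp _), ⟨(j % p).toNat, ?_⟩, ?_⟩
    · have := Int.emod_lt_of_pos j (show (0 : ℤ) < p by exact_mod_cast hp.out.pos)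
      omega
    · rw [mul_assoc, ← zpow_natCast, ← zpow_natCast, ← zpow_mul, ← zpow_add,
        Int.toNat_of_nonneg (Int.emod_nonneg _ hp0), Int.mul_ediv_add_emod]
  have h := Nat.card_le_card_of_surjective (β := (A ⊔ Subgroup.zpowers x : Subgroup G))
    (fun q : A × Fin p => ⟨(q.1 : G) * x ^ (q.2 : ℕ),
      mul_mem (Subgroup.mem_sup_left q.1.2) (pow_mem (Subgroup.mem_sup_right (Subgroup.mem_zpowers x)) _)⟩)
    fun u => by
      obtain ⟨h, hh, i, hi⟩ := hmem u u.2
      exact ⟨(⟨h, hh⟩, i), Subtype.ext hi.symm⟩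
  rw [Nat.card_prod, Nat.card_fin, mul_comm] at h
  exact h

theorem mem_normalizer_of_gens {G : Type*} [Group G] [Finite G] {S : Set G} {A : Subgroup G}
    (hA : A = Subgroup.closure S) {g : G} (h : ∀ s ∈ S, g * s * g⁻¹ ∈ A) :
    g ∈ Subgroup.normalizer (A : Set G) := by
  refine CfsgLib.Fusion.mem_normalizer_of_forall fun x hx => ?_
  have hle : A ≤ A.comap (MulAut.conj g).toMonoidHom := by
    conv_lhs => rw [hA]
    exact (Subgroup.closure_le _).mpr h
  exact hle hx

theorem Rels.card_le {G : Type*} [Group G] [Finite G] {x a d y : G} (h : Rels p x a d y) :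
    Nat.card (Subgroup.closure {x, a, d, y} : Subgroup G) ≤ p ^ 4 := by
  have hp' : p.Prime := hp.out
  set A₁ := Subgroup.zpowers d with hA₁
  set A₂ := A₁ ⊔ Subgroup.zpowers a with hA₂
  set A₃ := A₂ ⊔ Subgroup.zpowers x with hA₃
  have hcm : ∀ {u v : G}, Commute u v → u * v * u⁻¹ = v := fun {u v} h => by rw [h.eq, mul_inv_cancel_right]
  have e₂ : A₂ = Subgroup.closure {d, a} := by
    rw [hA₂, hA₁, Subgroup.zpowers_eq_closure, Subgroup.zpowers_eq_closure, ← Subgroup.closure_union,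
      Set.singleton_union]
  have e₃ : A₃ = Subgroup.closure {d, a, x} := by
    rw [hA₃, e₂, Subgroup.zpowers_eq_closure, ← Subgroup.closure_union]
    congr 1
    ext u; simp only [Set.mem_union, Set.mem_insert_iff, Set.mem_singleton_iff]; tauto
  have h₁ : Nat.card A₁ ≤ p := by
    rw [hA₁, Nat.card_zpowers]; exact Nat.le_of_dvd hp'.pos (orderOf_dvd_of_pow_eq_one h.dp)
  have hd₁ : d ∈ A₁ := Subgroup.mem_zpowers d
  have hd₂ : d ∈ A₂ := Subgroup.mem_sup_left hd₁
  have ha₂ : a ∈ A₂ := Subgroup.mem_sup_right (Subgroup.mem_zpowers a)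
  have hx₃ : x ∈ A₃ := Subgroup.mem_sup_right (Subgroup.mem_zpowers x)
  have h₂ : Nat.card A₂ ≤ p * Nat.card A₁ :=
    card_sup_zpowers_le (mem_normalizer_of_gens (Subgroup.zpowers_eq_closure d) fun s hs => by
      rw [Set.mem_singleton_iff.mp hs, hcm h.ad]; exact hd₁) (h.ap ▸ one_mem _)
  have h₃ : Nat.card A₃ ≤ p * Nat.card A₂ :=
    card_sup_zpowers_le (mem_normalizer_of_gens e₂ fun s hs => by
      rcases hs with rfl | hs
      · rw [hcm h.xd]; exact hd₂
      · rw [Set.mem_singleton_iff.mp hs, hcm h.xa]; exact ha₂) (h.xp ▸ one_mem _)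
  have h₄ : Nat.card (A₃ ⊔ Subgroup.zpowers y : Subgroup G) ≤ p * Nat.card A₃ :=
    card_sup_zpowers_le (mem_normalizer_of_gens e₃ fun s hs => by
      rcases hs with rfl | rfl | hs
      · rw [hcm h.yd]; exact Subgroup.mem_sup_left hd₂
      · rw [h.ya, mul_inv_cancel_right]; exact mul_mem (Subgroup.mem_sup_left ha₂) (Subgroup.mem_sup_left hd₂)
      · rw [Set.mem_singleton_iff.mp hs, h.yx, mul_inv_cancel_right]
        exact mul_mem hx₃ (Subgroup.mem_sup_left ha₂)) (h.yp ▸ one_mem _)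
  have e₄ : A₃ ⊔ Subgroup.zpowers y = Subgroup.closure {x, a, d, y} := by
    rw [e₃, Subgroup.zpowers_eq_closure, ← Subgroup.closure_union]
    congr 1
    ext u; simp only [Set.mem_union, Set.mem_insert_iff, Set.mem_singleton_iff]; tauto
  rw [← e₄]
  calc _ ≤ p * Nat.card A₃ := h₄
    _ ≤ p * (p * Nat.card A₂) := Nat.mul_le_mul_left _ h₃
    _ ≤ p * (p * (p * Nat.card A₁)) := Nat.mul_le_mul_left _ (Nat.mul_le_mul_left _ h₂)
    _ ≤ p * (p * (p * p)) := Nat.mul_le_mul_left _ (Nat.mul_le_mul_left _ (Nat.mul_le_mul_left _ h₁))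
    _ = _ := by ring

theorem map_closure_four {G H : Type*} [Group G] [Group H] (f : G →* H) (x a d y : G) :
    (Subgroup.closure {x, a, d, y}).map f = Subgroup.closure {f x, f a, f d, f y} := by
  rw [MonoidHom.map_closure]
  congr 1
  simp [Set.image_insert_eq]

/-- A group of order `p⁴` with these relations embeds in any group containing a copy of them, provided
`d` generates every minimal normal subgroup. -/
theorem Rels.exists_equiv {G H : Type*} [Group G] [Group H] [Finite G] [Finite H] {x a d y : G}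
    (h : Rels p x a d y) (hc : Nat.card G = p ^ 4) (hgen : Subgroup.closure {x, a, d, y} = ⊤)
    (hmin : ∀ N : Subgroup G, N.Normal → N ≠ ⊥ → d ∈ N) {x' a' d' y' : H} (h' : Rels p x' a' d' y') (hd' : d' ≠ 1) :
    Nonempty (G ≃* (Subgroup.closure {x', a', d', y'} : Subgroup H)) := by
  set K : Subgroup (G × H) := Subgroup.closure {(x, x'), (a, a'), (d, d'), (y, y')} with hK
  have hR : Rels p (x, x') (a, a') (d, d') (y, y') := by
    constructor <;> refine Prod.ext ?_ ?_ <;>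
      first
        | exact h.xp | exact h'.xp | exact h.ap | exact h'.ap | exact h.dp | exact h'.dp | exact h.yp | exact h'.yp
        | exact h.xa | exact h'.xa | exact h.xd | exact h'.xd | exact h.ad | exact h'.ad | exact h.yd | exact h'.yd
        | exact h.yx | exact h'.yx | exact h.ya | exact h'.ya
  let f : K →* G := (MonoidHom.fst G H).comp K.subtype
  let g : K →* H := (MonoidHom.snd G H).comp K.subtype
  have hfr : f.range = ⊤ := by
    rw [MonoidHom.range_comp, Subgroup.range_subtype, hK, map_closure_four]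
    exact hgen
  have hgr : g.range = Subgroup.closure {x', a', d', y'} := by
    rw [MonoidHom.range_comp, Subgroup.range_subtype, hK, map_closure_four]
    rfl
  have hfs : Function.Surjective f := MonoidHom.range_eq_top.mp hfr
  have hfb : Function.Bijective f := (Nat.bijective_iff_surjective_and_card f).mpr
    ⟨hfs, le_antisymm (by rw [hc]; exact hR.card_le) (Nat.card_le_card_of_surjective f hfs)⟩
  have hdK : (d, d') ∈ K := Subgroup.subset_closure (by simp)
  have hgi : Function.Injective g := by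
    rw [← MonoidHom.ker_eq_bot_iff]
    by_contra hne
    have hN : (g.ker.map f).Normal := Subgroup.Normal.map inferInstance f hfs
    have hNne : g.ker.map f ≠ ⊥ := fun e =>
      hne ((Subgroup.map_eq_bot_iff_of_injective _ hfb.1).mp e)
    obtain ⟨k, hk, hkd⟩ := hmin _ hN hNne
    have hkk : k = ⟨(d, d'), hdK⟩ := hfb.1 hkd
    rw [hkk] at hk
    exact hd' hk
  exact ⟨(MulEquiv.ofBijective f hfb).symm.trans
    ((MonoidHom.ofInjective hgi).trans (MulEquiv.subgroupCongr hgr))⟩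

section symplectic

open Matrix

/-- The upper unitriangular block element. -/
noncomputable def upper (B : Matrix (Fin 2) (Fin 2) (ZMod p)) (hB : Bᵀ = B) :
    symplecticGroup (Fin 2) (ZMod p) :=
  ⟨fromBlocks 1 B 0 1, by
    rw [SymplecticGroup.mem_iff, J, fromBlocks_transpose, fromBlocks_multiply, fromBlocks_multiply]
    simp [hB]⟩

/-- The block diagonal element. -/
noncomputable def diag₂ : symplecticGroup (Fin 2) (ZMod p) :=
  ⟨fromBlocks !![1, 1; 0, 1] 0 0 !![1, 0; -1, 1], by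
    rw [SymplecticGroup.mem_iff, J, fromBlocks_transpose, fromBlocks_multiply, fromBlocks_multiply]
    congr 1 <;> ext i j <;> fin_cases i <;> fin_cases j <;>
      simp [Matrix.mul_apply, Fin.sum_univ_two, Matrix.vecMul, dotProduct]⟩

theorem upper_mul (B C : Matrix (Fin 2) (Fin 2) (ZMod p)) (hB : Bᵀ = B) (hC : Cᵀ = C) :
    upper B hB * upper C hC = upper (B + C) (by rw [transpose_add, hB, hC]) := by
  refine Subtype.ext ?_
  show fromBlocks 1 B 0 1 * fromBlocks 1 C 0 1 = fromBlocks 1 (B + C) 0 1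
  rw [fromBlocks_multiply]
  congr 1 <;> simp [add_comm]

theorem upper_pow_prime (B : Matrix (Fin 2) (Fin 2) (ZMod p)) (hB : Bᵀ = B) : upper B hB ^ p = 1 := by
  refine Subtype.ext ?_
  rw [SubmonoidClass.coe_pow]
  show (fromBlocks 1 B 0 1 : Matrix (Fin 2 ⊕ Fin 2) (Fin 2 ⊕ Fin 2) (ZMod p)) ^ p = _
  have key : ∀ n : ℕ, (fromBlocks 1 B 0 1 : Matrix (Fin 2 ⊕ Fin 2) (Fin 2 ⊕ Fin 2) (ZMod p)) ^ n =
      fromBlocks 1 (n • B) 0 1 := by
    intro n
    induction n with
    | zero => simp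
    | succ n ih => rw [pow_succ, ih, fromBlocks_multiply]; congr 1 <;> simp [succ_nsmul, add_comm, add_mul]
  rw [key, show (p • B : Matrix (Fin 2) (Fin 2) (ZMod p)) = 0 by ext i j; simp, fromBlocks_one]
  rfl

theorem diag₂_pow_prime : (diag₂ : symplecticGroup (Fin 2) (ZMod p)) ^ p = 1 := by
  refine Subtype.ext ?_
  rw [SubmonoidClass.coe_pow]
  show (fromBlocks !![1, 1; 0, 1] 0 0 !![1, 0; -1, 1] :
    Matrix (Fin 2 ⊕ Fin 2) (Fin 2 ⊕ Fin 2) (ZMod p)) ^ p = _
  have key : ∀ n : ℕ, (fromBlocks !![1, 1; 0, 1] 0 0 !![1, 0; -1, 1] :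
      Matrix (Fin 2 ⊕ Fin 2) (Fin 2 ⊕ Fin 2) (ZMod p)) ^ n =
      fromBlocks !![1, (n : ZMod p); 0, 1] 0 0 !![1, 0; -(n : ZMod p), 1] := by
    intro n
    induction n with
    | zero => rw [pow_zero, ← fromBlocks_one]; congr 1 <;> ext i j <;> fin_cases i <;> fin_cases j <;> simp
    | succ n ih =>
      rw [pow_succ, ih, fromBlocks_multiply]
      congr 1 <;> ext i j <;> fin_cases i <;> fin_cases j <;>
        simp [Matrix.mul_apply, Fin.sum_univ_two] <;> ring
  rw [key, ZMod.natCast_self, neg_zero]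
  show _ = (1 : Matrix (Fin 2 ⊕ Fin 2) (Fin 2 ⊕ Fin 2) (ZMod p))
  rw [← fromBlocks_one]
  congr 1 <;> ext i j <;> fin_cases i <;> fin_cases j <;> simp

theorem exists_rels_symplectic (hodd : Odd p) :
    ∃ x a d y : symplecticGroup (Fin 2) (ZMod p), Rels p x a d y ∧ d ≠ 1 := by
  let X : Matrix (Fin 2) (Fin 2) (ZMod p) := !![0, 0; 0, 1]
  let A : Matrix (Fin 2) (Fin 2) (ZMod p) := !![1, 1; 1, 0]
  let D : Matrix (Fin 2) (Fin 2) (ZMod p) := !![2, 0; 0, 0]
  have hX : Xᵀ = X := by ext i j; fin_cases i <;> fin_cases j <;> simp [X]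
  have hA : Aᵀ = A := by ext i j; fin_cases i <;> fin_cases j <;> simp [A]
  have hD : Dᵀ = D := by ext i j; fin_cases i <;> fin_cases j <;> simp [D]
  have hcomm : ∀ (B C : Matrix (Fin 2) (Fin 2) (ZMod p)) (hB : Bᵀ = B) (hC : Cᵀ = C),
      upper B hB * upper C hC = upper C hC * upper B hB := fun B C hB hC => by
    rw [upper_mul, upper_mul]; congr 1; exact add_comm B C
  have hconj : ∀ (B C : Matrix (Fin 2) (Fin 2) (ZMod p)) (hB : Bᵀ = B) (hC : Cᵀ = C),
      (!![1, 1; 0, 1] : Matrix (Fin 2) (Fin 2) (ZMod p)) * B = C * !![1, 0; -1, 1] →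
      diag₂ * upper B hB = upper C hC * diag₂ := fun B C hB hC he => by
    refine Subtype.ext ?_
    show fromBlocks !![1, 1; 0, 1] 0 0 !![1, 0; -1, 1] * fromBlocks 1 B 0 1 =
      fromBlocks 1 C 0 1 * fromBlocks !![1, 1; 0, 1] 0 0 !![1, 0; -1, 1]
    rw [fromBlocks_multiply, fromBlocks_multiply]
    congr 1 <;> simp [he]
  refine ⟨upper X hX, upper A hA, upper D hD, diag₂, ⟨upper_pow_prime _ _, upper_pow_prime _ _,
    upper_pow_prime _ _, diag₂_pow_prime, hcomm _ _ _ _, hcomm _ _ _ _, hcomm _ _ _ _, ?_, ?_, ?_⟩, ?_⟩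
  · refine hconj _ _ _ _ ?_
    ext i j; fin_cases i <;> fin_cases j <;> simp [D, Matrix.mul_apply, Fin.sum_univ_two]
  · rw [upper_mul]
    refine hconj _ _ _ _ ?_
    ext i j; fin_cases i <;> fin_cases j <;> simp [X, A, Matrix.mul_apply, Fin.sum_univ_two]
  · rw [upper_mul]
    refine hconj _ _ _ _ ?_
    ext i j; fin_cases i <;> fin_cases j <;> simp [A, D, Matrix.mul_apply, Fin.sum_univ_two] <;> ring
  · intro h
    have h1 : (fromBlocks 1 D 0 1 : Matrix (Fin 2 ⊕ Fin 2) (Fin 2 ⊕ Fin 2) (ZMod p)) = 1 := congrArg Subtype.val h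
    have h2 := congrFun (congrFun h1 (Sum.inl 0)) (Sum.inr 0)
    simp [D] at h2
    have h3 : p ∣ 2 := (ZMod.natCast_eq_zero_iff 2 p).mp (by exact_mod_cast h2)
    obtain ⟨k, hk⟩ := hodd
    have := Nat.le_of_dvd (by norm_num) h3
    have := hp.out.two_le
    omega

theorem pow_four_dvd_iff : p ^ 4 ∣ Nat.card (symplecticGroup (Fin 2) (ZMod p)) ∧
    ¬ p ^ 5 ∣ Nat.card (symplecticGroup (Fin 2) (ZMod p)) := by
  have hc := CfsgLib.Sp.card_symplecticGroup (F := ZMod p) (m := 2) (q := p) (ZMod.card p)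
  rw [hc, Finset.prod_range_succ, Finset.prod_range_succ, Finset.prod_range_zero, one_mul]
  norm_num
  intro h
  rw [pow_succ] at h
  have h' := (Nat.mul_dvd_mul_iff_left (pow_pos hp.out.pos 4)).mp h
  have hkey : ∀ k : ℕ, 0 < k → ¬ p ∣ p ^ k - 1 := fun k hk hdvd => by
    have h1 : 1 ≤ p ^ k := Nat.one_le_pow _ _ hp.out.pos
    have h2 := Nat.dvd_sub (dvd_pow_self p hk.ne') hdvd
    rw [Nat.sub_sub_self h1] at h2
    exact hp.out.not_dvd_one h2
  rcases hp.out.dvd_mul.mp h' with h'' | h''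
  · exact hkey 2 (by norm_num) h''
  · exact hkey 4 (by norm_num) h''

end symplectic

variable {P : Type*} [Group P] [Finite P] {E₁ E₂ : Subgroup P} [E₁.Normal] [E₂.Normal]
  {L₁ : Subgroup (MulAut E₁)} {L₂ : Subgroup (MulAut E₂)} {x y a d : P}

namespace DataB

/-- A group of this shape is a Sylow subgroup of `Sp(4,p)`. -/
theorem exists_sylow (h : DataB p (E₂ := E₂) L₁ x y a d) (hp' : Pair p E₁ E₂ L₁ L₂) (hP : IsPGroup p P)
    (hodd : Odd p) : ∃ Q : Sylow p ↥(Matrix.symplecticGroup (Fin 2) (ZMod p)),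
      Nonempty (P ≃* ↥(Q : Subgroup ↥(Matrix.symplecticGroup (Fin 2) (ZMod p)))) := by
  classical
  have hR : Rels p x a d y := ⟨h.exp₁ x h.xE, h.exp₁ a h.aD.1, h.exp₁ d h.dD.1, h.exp₂ y h.yE,
    h.comm₁ x h.xE a h.aD.1, h.comm₁ x h.xE d h.dD.1, h.comm₁ a h.aD.1 d h.dD.1, h.dZ y,
    mul_inv_eq_iff_eq_mul.mp h.yx, mul_inv_eq_iff_eq_mul.mp h.ya⟩
  have hgen : Subgroup.closure {x, a, d, y} = ⊤ := by
    set W := Subgroup.closure ({x, a, d, y} : Set P)
    have hm : ∀ u ∈ ({x, a, d, y} : Set P), u ∈ W := fun u hu => Subgroup.subset_closure hu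
    have hD : E₁ ⊓ E₂ ≤ W := (h.gen_inf hp').symm.le.trans
      (sup_le (Subgroup.zpowers_le.mpr (hm d (by simp))) (Subgroup.zpowers_le.mpr (hm a (by simp))))
    have hE : E₁ ≤ W := (sup_zpowers_eq inf_le_left hp'.card₁ h.xE fun hh => h.xE' hh.2).symm.le.trans
      (sup_le hD (Subgroup.zpowers_le.mpr (hm x (by simp))))
    refine eq_top_iff.mpr fun g _ => ?_
    obtain ⟨i, e, he, rfl⟩ := exists_pow_mul hp'.v₁.index h.yE' g
    exact mul_mem (pow_mem (hm y (by simp)) i) (hE he)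
  have hmin : ∀ N : Subgroup P, N.Normal → N ≠ ⊥ → d ∈ N := fun N hN hne => by
    obtain ⟨z, hzN, hz, hz1⟩ := exists_mem_omZ hP hne
    rw [h.omZ_eq hp' hP] at hz
    obtain ⟨k, hk⟩ := exists_zpow_eq h.card_d hz hz1 (Subgroup.mem_zpowers d)
    exact hk ▸ zpow_mem hzN k
  obtain ⟨x', a', d', y', hR', hd'⟩ := exists_rels_symplectic (p := p) hodd
  obtain ⟨e⟩ := hR.exists_equiv h.card hgen hmin hR' hd'
  set W := Subgroup.closure ({x', a', d', y'} : Set ↥(Matrix.symplecticGroup (Fin 2) (ZMod p)))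
  have hW : Nat.card W = p ^ 4 := by rw [← Nat.card_congr e.toEquiv, h.card]
  have hidx : ¬ p ∣ W.index := fun hdvd => (pow_four_dvd_iff (p := p)).2 (by
    rw [← Subgroup.card_mul_index W, hW, pow_succ]
    exact Nat.mul_dvd_mul_left _ hdvd)
  exact ⟨(IsPGroup.of_card hW).toSylow hidx, ⟨e⟩⟩

theorem elementary (h : DataB p (E₂ := E₂) L₁ x y a d) : IsMulCommutative E₁ ∧ ∀ u ∈ E₁, u ^ p = 1 :=
  ⟨⟨⟨fun u v => Subtype.ext (h.comm₁ u u.2 v v.2)⟩⟩, h.exp₁⟩

/-- The second vertex is extraspecial. -/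
theorem extraspecial (h : DataB p (E₂ := E₂) L₁ x y a d) (hp' : Pair p E₁ E₂ L₁ L₂) (hP : IsPGroup p P) :
    IsExtraspecial p E₂ := by
  classical
  have hpr : p.Prime := hp.out
  set C := Subgroup.center E₂ with hC
  have hCeq : C.map E₂.subtype = Subgroup.zpowers d := by
    rw [← h.omC_eq hp' hP]
    ext u
    constructor
    · rintro ⟨v, hv, rfl⟩
      exact ⟨v.2, fun w hw => congrArg Subtype.val (Subgroup.mem_center_iff.mp hv ⟨w, hw⟩), h.exp₂ v v.2⟩
    · rintro ⟨hu, hc, -⟩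
      exact ⟨⟨u, hu⟩, Subgroup.mem_center_iff.mpr fun w => Subtype.ext (hc w w.2), rfl⟩
  have hCc : Nat.card C = p := by
    rw [← Subgroup.card_map_of_injective E₂.subtype_injective, hCeq, h.card_d]
  have hcardq : Nat.card (E₂ ⧸ C) = p ^ 2 := by
    have h1 := Subgroup.card_mul_index C
    rw [hCc, h.card₂, Subgroup.index_eq_card, pow_succ'] at h1
    exact Nat.eq_of_mul_eq_mul_left hpr.pos h1
  have hle : commutator E₂ ≤ C := (Subgroup.Normal.quotient_commutative_iff_commutator_le (N := C)).mp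
    ⟨⟨IsPGroup.commutative_of_card_eq_prime_sq hcardq⟩⟩
  have hPE : IsPGroup p E₂ := hP.to_subgroup E₂
  have hcd : commutator E₂ = C := by
    refine Subgroup.eq_of_le_of_card_ge hle ?_
    have hdm : (⟨d, h.dD.2⟩ : E₂) ∈ commutator E₂ := by
      have h1 : ⁅(⟨a⁻¹, inv_mem h.aD.2⟩ : E₂), (⟨y, h.yE⟩ : E₂)⁆ = (⟨d, h.dD.2⟩ : E₂) := Subtype.ext (by
        show ⁅a⁻¹, y⁆ = d
        rw [commutatorElement_def, inv_inv, mul_assoc, mul_assoc, ← mul_assoc y a, h.ya, inv_mul_cancel_left])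
      rw [← h1]; exact Subgroup.commutator_mem_commutator (Subgroup.mem_top _) (Subgroup.mem_top _)
    have hne : commutator E₂ ≠ ⊥ := fun e => h.d1 (by
      rw [e, Subgroup.mem_bot] at hdm; exact congrArg Subtype.val hdm)
    obtain ⟨j, hj⟩ := IsPGroup.iff_card.mp (hPE.to_subgroup (commutator E₂))
    rw [hCc, hj]
    refine Nat.le_self_pow ?_ p
    rintro rfl
    exact hne (Subgroup.card_eq_one.mp (by rw [hj, pow_zero]))
  refine ⟨⟨hPE, le_antisymm ?_ (hcd.symm.le.trans (CfsgLib.PGroup.commutator_le_frattini hPE)), hcd⟩, hCc⟩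
  by_contra hnle
  obtain ⟨u, hu, huC⟩ := SetLike.not_le_iff_exists.mp hnle
  set M := C ⊔ Subgroup.zpowers u
  have hMΦ : M ≤ frattini E₂ :=
    sup_le (hcd ▸ CfsgLib.PGroup.commutator_le_frattini hPE) (Subgroup.zpowers_le.mpr hu)
  have hMc : p ^ 2 ≤ Nat.card M := by
    rw [pow_two]
    have := mul_card_le_of_lt hPE (lt_of_le_of_ne (le_sup_left : C ≤ M) fun e =>
      huC (e.ge (Subgroup.mem_sup_right (Subgroup.mem_zpowers u))))
    rwa [hCc] at this
  have htop : ∃ v : E₂, M ⊔ Subgroup.zpowers v = ⊤ := by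
    by_cases hM : M = ⊤
    · exact ⟨1, by rw [hM, top_sup_eq]⟩
    obtain ⟨v, -, hv⟩ := SetLike.exists_of_lt (lt_top_iff_ne_top.mpr hM)
    refine ⟨v, Subgroup.eq_top_of_le_card _ ?_⟩
    rw [h.card₂, pow_succ']
    have := mul_card_le_of_lt hPE (lt_of_le_of_ne (le_sup_left : M ≤ M ⊔ Subgroup.zpowers v) fun e =>
      hv (e.ge (Subgroup.mem_sup_right (Subgroup.mem_zpowers v))))
    exact (Nat.mul_le_mul_left p hMc).trans this
  obtain ⟨v, hv⟩ := htop
  have h1 : Subgroup.zpowers v = ⊤ := frattini_nongenerating (top_le_iff.mp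
    (hv.ge.trans (sup_le (hMΦ.trans le_sup_right) le_sup_left)))
  have h2 : Nat.card (Subgroup.zpowers v) ≤ p := by
    rw [Nat.card_zpowers]
    exact Nat.le_of_dvd hpr.pos (orderOf_dvd_of_pow_eq_one (Subtype.ext (h.exp₂ v v.2)))
  rw [h1, Subgroup.card_top, h.card₂] at h2
  exact absurd h2 (not_le.mpr (lt_self_pow₀ hpr.one_lt (by norm_num)))

end DataB

end CfsgLib.RankThreePair
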