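import Cfsg.Agent.Lib.Fusion.RankThreePair.OrbShape
import Cfsg.Agent.Lib.Fusion.RankThreePair.Exclude

/-!
A normal essential subgroup is invariant under every automorphism of the top group in the system, when no
subgroup is normal in the system and the sectional rank is three.
-/

set_option autoImplicit false
set_option maxHeartbeats 800000

namespace CfsgLib.RankThreePair

open Cfsg Cfsg.FusionSystem CfsgLib.Fusion

variable {p : ℕ} [hp : Fact p.Prime] {Ω : Type*} [Group Ω] {S : Subgroup Ω} [Finite S] {F : FusionSystem S}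

omit hp in
theorem isFullyNormalized_top : F.IsFullyNormalized S := by
  refine ⟨le_rfl, fun Q _ => ?_⟩
  have h : normalizerIn S S = S := le_antisymm inf_le_left (le_inf le_rfl Subgroup.le_normalizer)
  rw [h]
  exact Subgroup.card_le_of_le inf_le_left

/-- The `p`-elements among the automorphisms of the top group are inner. -/
theorem exists_conj_of_pow (hS : IsPGroup p S) (hF : F.IsSaturated p) {δ : MulAut S} (hδ : δ ∈ F.autGroup S)
    {k : ℕ} (hk : δ ^ p ^ k = 1) : ∃ g : S, δ = MulAut.conj g := by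
  obtain ⟨⟨-, R, hR⟩, -⟩ := fullyNormalized_good hS hF (isFullyNormalized_top (F := F))
  rw [autInducedBy_self] at hR
  have hn : ((Inn S).subgroupOf (F.autGroup S)).Normal := ⟨fun a ha b => by
    obtain ⟨z, hz⟩ := mem_inn.mp (Subgroup.mem_subgroupOf.mp ha)
    refine Subgroup.mem_subgroupOf.mpr (mem_inn.mpr ⟨(b : MulAut S) z, fun x => ?_⟩)
    show (b : MulAut S) ((a : MulAut S) ((b : MulAut S)⁻¹ x)) = _
    rw [hz, map_mul, map_mul, map_inv, MulAut.apply_inv_self]⟩
  have hRn : (R : Subgroup (F.autGroup S)).Normal := hR ▸ hn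
  let d : F.autGroup S := ⟨δ, hδ⟩
  have hd : IsPGroup p (Subgroup.zpowers d) := by
    rw [IsPGroup.iff_orderOf]
    rintro ⟨_, i, rfl⟩
    obtain ⟨j, -, hj⟩ := (Nat.dvd_prime_pow hp.out).mp
      (orderOf_dvd_of_pow_eq_one (show (⟨d ^ i, i, rfl⟩ : Subgroup.zpowers d) ^ p ^ k = 1 from Subtype.ext (by
        show (d ^ i) ^ p ^ k = 1
        rw [← zpow_natCast, ← zpow_mul, mul_comm, zpow_mul, zpow_natCast,
          show d ^ p ^ k = 1 from Subtype.ext (by rw [SubmonoidClass.coe_pow]; exact hk), one_zpow])))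
    exact ⟨j, hj⟩
  have hmem : d ∈ (R : Subgroup (F.autGroup S)) := by
    have h1 : IsPGroup p ((R : Subgroup (F.autGroup S)) ⊔ Subgroup.zpowers d : Subgroup (F.autGroup S)) :=
      R.isPGroup'.to_sup_of_normal_left hd
    rw [← R.is_maximal' h1 le_sup_left]
    exact Subgroup.mem_sup_right (Subgroup.mem_zpowers d)
  rw [hR, Subgroup.mem_subgroupOf] at hmem
  obtain ⟨z, hz⟩ := mem_inn.mp hmem
  exact ⟨z, MulEquiv.ext fun x => by rw [MulAut.conj_apply]; exact hz x⟩

/-- A normal essential subgroup is invariant. -/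
theorem invariant_of_essential (hS : IsPGroup p S) (hodd : Odd p)
    (hsr : SectionalPRankLE p 3 S ∧ ¬ SectionalPRankLE p 2 S)
    (hF : F.IsSaturated p) (hO : F.core = ⊥) {E : Subgroup Ω} (hE : F.IsEssential p E)
    [(E.subgroupOf S).Normal] :
    ∀ φ : MulAut S, φ ∈ F.autGroup S → (E.subgroupOf S).map φ.toMonoidHom = E.subgroupOf S := by
  have hES : E ≤ S := hE.1.1
  have hidx := index_of_essential hS hsr.1 hF hE (le_normalizer_of_normal hES)
  by_contra! hmv
  have horb : Orb p (F.autGroup S) (E.subgroupOf S) (loc F hES) := by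
    refine ⟨vertex_loc hS hF hE hidx, fun g => inn_le_autGroup le_rfl (mem_inn.mpr ⟨g, fun _ => rfl⟩),
      fun δ hδ k hk => exists_conj_of_pow hS hF hδ hk, fun n hn hU => exists_extend_top hS hF hE (loc_le_autS _ hn) hU,
      fun φ hφ he => (exists_loc_conj hES hφ he).2, ?_⟩
    obtain ⟨φ, hφ, hne⟩ := hmv
    exact ⟨φ, hφ, hne⟩
  obtain ⟨φ₀, T, z, hmapT, hA⟩ := horb.shapeA hS hodd hsr.1
  exact false_of_shapeA hS hodd hsr hF hO hE hidx hmapT hA

/-- If every essential subgroup is normal, two of them are invariant. -/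
theorem exists_two_invariant (hS : IsPGroup p S) (hodd : Odd p)
    (hsr : SectionalPRankLE p 3 S ∧ ¬ SectionalPRankLE p 2 S)
    (hF : F.IsSaturated p) (hO : F.core = ⊥)
    (hno : ∀ E, F.IsEssential p E → S ≤ Subgroup.normalizer (E : Set Ω)) :
    ∃ E₁ E₂ : Subgroup Ω, E₁ ≠ E₂ ∧ F.IsEssential p E₁ ∧ F.IsEssential p E₂ ∧
      (∀ φ : MulAut S, φ ∈ F.autGroup S → (E₁.subgroupOf S).map φ.toMonoidHom = E₁.subgroupOf S) ∧
      ∀ φ : MulAut S, φ ∈ F.autGroup S → (E₂.subgroupOf S).map φ.toMonoidHom = E₂.subgroupOf S := by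
  have hnone : ∀ Q : Subgroup Ω, F.IsNormal Q → Q = ⊥ := fun Q hQ => le_bot_iff.mp (hO ▸ le_sSup hQ)
  have hinv : ∀ {E : Subgroup Ω}, F.IsEssential p E →
      ∀ φ : MulAut S, φ ∈ F.autGroup S → (E.subgroupOf S).map φ.toMonoidHom = E.subgroupOf S := fun {E} hE => by
    have := (Subgroup.normal_subgroupOf_iff_le_normalizer hE.1.1).mpr (hno E hE)
    exact invariant_of_essential hS hodd hsr hF hO hE
  by_cases hex : ∃ E₁, F.IsEssential p E₁
  · obtain ⟨E₁, hE₁⟩ := hex
    by_cases hex2 : ∃ E₂, F.IsEssential p E₂ ∧ E₁ ≠ E₂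
    · obtain ⟨E₂, hE₂, hne⟩ := hex2
      exact ⟨E₁, E₂, hne, hE₁, hE₂, hinv hE₁, hinv hE₂⟩
    push Not at hex2
    exfalso
    have hn : F.IsNormal E₁ := by
      refine isNormal_of_essential hS hF fun P hP => ?_
      rcases hP with hP | hP
      · subst hP
        refine ⟨hE₁.1.1, fun α hα x hx => ?_⟩
        exact (hinv hE₁ α hα).le (Subgroup.mem_map_of_mem α.toMonoidHom (show x ∈ E₁.subgroupOf _ from hx))
      · obtain rfl := hex2 P hP
        exact ⟨le_rfl, fun α _ x _ => (α x).2⟩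
    have hE₁b := hnone E₁ hn
    have hidx := index_of_essential hS hsr.1 hF hE₁ (hno E₁ hE₁)
    have htop : E₁.subgroupOf S = ⊤ := eq_top_iff.mpr fun x _ => Subgroup.mem_subgroupOf.mpr
      (IsCentric.centralizerIn_le' hE₁.1 ⟨x.2, Subgroup.mem_centralizer_iff.mpr fun y hy => by
        rw [Subgroup.mem_bot.mp (hE₁b.le hy), one_mul, mul_one]⟩)
    rw [htop, Subgroup.index_top] at hidx
    exact hp.out.ne_one hidx.symm
  · push Not at hex
    exfalso
    have hn : F.IsNormal S := isNormal_of_essential hS hF fun P hP => by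
      rcases hP with hP | hP
      · subst hP
        exact ⟨le_rfl, fun α _ x _ => (α x).2⟩
      · exact absurd hP (hex P)
    have : Subsingleton S := ⟨fun a b => Subtype.ext
      ((Subgroup.mem_bot.mp ((hnone S hn).le a.2)).trans (Subgroup.mem_bot.mp ((hnone S hn).le b.2)).symm)⟩
    refine hsr.2 fun H N _ A _ _ => ?_
    rw [Nat.card_unique]
    exact Nat.one_le_pow _ _ hp.out.pos

end CfsgLib.RankThreePair
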