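import Cfsg.Agent.Lib.Fusion.RankThreePair.ShapeA

/-!
A vertex together with a group of automorphisms of `P` which moves it: the images are vertices, and each
of them forms a pair of distinct vertices with the first one.
-/

set_option autoImplicit false

namespace CfsgLib.RankThreePair

open Cfsg
open scoped commutatorElement

variable {P : Type*} [Group P] {E : Subgroup P}

instance map_aut_normal [E.Normal] (φ : MulAut P) : (E.map φ.toMonoidHom).Normal :=
  Subgroup.Normal.map inferInstance _ φ.surjective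

/-- An automorphism of `E`, moved to the image of `E`. -/
noncomputable def tw (φ : MulAut P) (E : Subgroup P) : MulAut E →* MulAut (E.map φ.toMonoidHom) :=
  (MulAut.congr (φ.subgroupMap E)).toMonoidHom

theorem tw_injective (φ : MulAut P) (E : Subgroup P) : Function.Injective (tw φ E) := MulEquiv.injective _

theorem tw_surjective (φ : MulAut P) (E : Subgroup P) : Function.Surjective (tw φ E) := MulEquiv.surjective _

theorem ap_tw (φ : MulAut P) (a : MulAut E) {x : P} (hx : x ∈ E) : ap (tw φ E a) (φ x) = φ (ap a x) := by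
  rw [ap_of_mem (tw φ E a) (x := φ x) (Subgroup.mem_map_of_mem φ.toMonoidHom hx), ap_of_mem a hx]
  show φ (a ((φ.subgroupMap E).symm ⟨φ x, _⟩) : P) = _
  rw [show (φ.subgroupMap E).symm ⟨φ x, Subgroup.mem_map_of_mem φ.toMonoidHom hx⟩ = ⟨x, hx⟩ from
    (φ.subgroupMap E).injective (by rw [MulEquiv.apply_symm_apply]; rfl)]

theorem tw_ext {φ : MulAut P} {a b : MulAut (E.map φ.toMonoidHom)}
    (h : ∀ x ∈ E, ap a (φ x) = ap b (φ x)) : a = b :=
  ap_ext fun q hq => by obtain ⟨x, hx, rfl⟩ := hq; exact h x hx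

theorem tw_conj [E.Normal] (φ : MulAut P) (g : P) :
    tw φ E (MulAut.conjNormal g) = MulAut.conjNormal (φ g) := by
  refine tw_ext fun x hx => ?_
  rw [ap_tw φ _ hx, ap_conj g hx, ap_conj _ (x := φ x) (Subgroup.mem_map_of_mem φ.toMonoidHom hx), map_mul, map_mul, map_inv]

theorem inv_tw {φ : MulAut P} {L : Subgroup (MulAut E)} {Q : Subgroup P} (hQE : Q ≤ E) (h : Inv L Q) :
    Inv (L.map (tw φ E)) (Q.map φ.toMonoidHom) := by
  rintro _ ⟨a, ha, rfl⟩ _ ⟨x, hx, rfl⟩
  exact ⟨ap a x, h a ha x hx, (ap_tw φ a (hQE hx)).symm⟩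

theorem mem_map_aut {φ : MulAut P} {x : P} : x ∈ E.map φ.toMonoidHom ↔ φ⁻¹ x ∈ E :=
  Subgroup.mem_map_equiv

theorem map_map_aut (φ ψ : MulAut P) (Q : Subgroup P) :
    (Q.map ψ.toMonoidHom).map φ.toMonoidHom = Q.map (φ * ψ).toMonoidHom :=
  Subgroup.map_map _ _ _

theorem card_map_aut (φ : MulAut P) (Q : Subgroup P) : Nat.card (Q.map φ.toMonoidHom) = Nat.card Q :=
  Subgroup.card_map_of_injective φ.injective

theorem map_aut_eq [Finite P] {φ : MulAut P} {Q : Subgroup P} (h : ∀ x ∈ Q, φ x ∈ Q) :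
    Q.map φ.toMonoidHom = Q :=
  Subgroup.eq_of_le_of_card_ge (by rintro _ ⟨x, hx, rfl⟩; exact h x hx) (card_map_aut φ Q).ge

theorem map_aut_center (φ : MulAut P) {z : P} (hz : z ∈ Subgroup.center P) : φ z ∈ Subgroup.center P :=
  Subgroup.mem_center_iff.mpr fun g => by
    have := congrArg φ (Subgroup.mem_center_iff.mp hz (φ⁻¹ g))
    rwa [map_mul, map_mul, MulAut.apply_inv_self] at this

theorem map_aut_omZ {p : ℕ} (φ : MulAut P) {z : P} (hz : z ∈ omZ p P) : φ z ∈ omZ p P :=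
  ⟨map_aut_center φ hz.1, by rw [← map_pow, hz.2, map_one]⟩

variable {p : ℕ}

/-- The image of a vertex is a vertex. -/
theorem Vertex.tw [E.Normal] {L : Subgroup (MulAut E)} (h : Vertex p E L) (φ : MulAut P) :
    Vertex p (E.map φ.toMonoidHom) (L.map (tw φ E)) := by
  have hinj := tw_injective φ E
  have hcj : ∀ q : P, MulAut.conjNormal q = RankThreePair.tw φ E (MulAut.conjNormal (φ⁻¹ q)) := fun q => by
    rw [tw_conj, MulAut.apply_inv_self]
  refine ⟨?_, fun g => hcj g ▸ Subgroup.mem_map_of_mem _ (h.le _), fun M hM hc hn => ?_, ?_, fun hp => ?_,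
    fun q hq => ?_⟩
  · rw [Subgroup.index_map_of_bijective φ.bijective]; exact h.index
  · have h1 : M.comap (RankThreePair.tw φ E) = L := by
      refine h.gen _ (fun a ha => (Subgroup.mem_map_iff_mem hinj).mp (hM ha)) (fun g => ?_) fun a ha b hb => ?_
      · rw [Subgroup.mem_comap, tw_conj]; exact hc _
      · rw [Subgroup.mem_comap, map_mul, map_mul, map_inv]
        exact hn _ (Subgroup.mem_map_of_mem _ ha) _ hb
    rw [← h1, Subgroup.map_comap_eq_self_of_surjective (tw_surjective φ E)]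
  · have hr : (MulAut.conjNormal : P →* MulAut (E.map φ.toMonoidHom)).range =
        (MulAut.conjNormal : P →* MulAut E).range.map (RankThreePair.tw φ E) := by
      ext b
      constructor
      · rintro ⟨q, rfl⟩; rw [hcj]; exact Subgroup.mem_map_of_mem _ ⟨_, rfl⟩
      · rintro ⟨_, ⟨g, rfl⟩, rfl⟩; exact ⟨φ g, (tw_conj φ g).symm⟩
    rw [hr]
    show ¬ p ∣ Subgroup.relIndex _ _
    rw [Subgroup.relIndex_map_map_of_injective _ _ hinj]
    exact h.sylow
  · exact h.np (hp.of_equiv (Subgroup.equivMapOfInjective L _ hinj).symm)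
  · refine mem_map_aut.mpr (h.centric (Subgroup.mem_centralizer_iff.mpr fun x hx => φ.injective ?_))
    rw [map_mul, map_mul, MulAut.apply_inv_self]
    exact Subgroup.mem_centralizer_iff.mp hq _ (Subgroup.mem_map_of_mem φ.toMonoidHom hx)

/-- A vertex with a group of automorphisms of the whole group moving it. -/
structure Orb (p : ℕ) (A : Subgroup (MulAut P)) (E : Subgroup P) [E.Normal] (L : Subgroup (MulAut E)) : Prop where
  v : Vertex p E L
  inner : ∀ g : P, MulAut.conj g ∈ A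
  pinn : ∀ δ ∈ A, ∀ k : ℕ, δ ^ p ^ k = 1 → ∃ g : P, δ = MulAut.conj g
  ext : ∀ n ∈ L, (∀ g : P, n * MulAut.conjNormal g * n⁻¹ ∈ (MulAut.conjNormal : P →* MulAut E).range) →
    ∃ φ ∈ A, ∀ x ∈ E, φ x = ap n x
  nrm : ∀ φ ∈ A, E.map φ.toMonoidHom = E → ∀ a ∈ L, ∃ b ∈ L, ∀ x ∈ E, φ (ap a x) = ap b (φ x)
  moved : ∃ φ ∈ A, E.map φ.toMonoidHom ≠ E

/-- A subgroup invariant under both groups. -/
def Com (A : Subgroup (MulAut P)) (L : Subgroup (MulAut E)) (Q : Subgroup P) : Prop :=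
  Q ≤ E ∧ Inv L Q ∧ ∀ φ ∈ A, ∀ x ∈ Q, φ x ∈ Q

variable {A : Subgroup (MulAut P)} {L : Subgroup (MulAut E)}

theorem Com.map_eq [Finite P] {Q : Subgroup P} (h : Com A L Q) {φ : MulAut P} (hφ : φ ∈ A) :
    Q.map φ.toMonoidHom = Q :=
  map_aut_eq (h.2.2 φ hφ)

theorem Com.common [Finite P] {Q : Subgroup P} (h : Com A L Q) {φ : MulAut P} (hφ : φ ∈ A) :
    Common L (L.map (tw φ E)) Q :=
  ⟨le_inf h.1 (by rw [← h.map_eq hφ]; exact Subgroup.map_mono h.1), h.2.1, by
    have := inv_tw (φ := φ) h.1 h.2.1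
    rwa [h.map_eq hφ] at this⟩

namespace Orb

variable [E.Normal] (h : Orb p A E L)
include h

theorem duo {φ : MulAut P} (hne : E.map φ.toMonoidHom ≠ E) :
    Duo p E (E.map φ.toMonoidHom) L (L.map (RankThreePair.tw φ E)) :=
  ⟨h.v, h.v.tw φ, Ne.symm hne⟩

/-- The extension property for an image. -/
theorem ext_tw {φ : MulAut P} (hφ : φ ∈ A) : ∀ n ∈ L.map (RankThreePair.tw φ E),
    (∀ g : P, n * MulAut.conjNormal g * n⁻¹ ∈ (MulAut.conjNormal : P →* MulAut (E.map φ.toMonoidHom)).range) →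
    ∃ ψ ∈ A, ∀ x ∈ E.map φ.toMonoidHom, ψ x = ap n x := by
  rintro _ ⟨n, hn, rfl⟩ hU
  obtain ⟨β, hβ, hβn⟩ := h.ext n hn fun g => by
    obtain ⟨q, hq⟩ := hU (φ g)
    refine ⟨φ⁻¹ q, tw_injective φ E ?_⟩
    rw [tw_conj, MulAut.apply_inv_self, map_mul, map_mul, map_inv, tw_conj, hq]
  refine ⟨φ * β * φ⁻¹, mul_mem (mul_mem hφ hβ) (inv_mem hφ), ?_⟩
  rintro _ ⟨x, hx, rfl⟩
  show φ (β (φ⁻¹ (φ x))) = ap (RankThreePair.tw φ E n) (φ x)
  rw [MulAut.inv_apply_self, hβn x hx, ap_tw φ n hx]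

/-- A shift by a fixed element of order `p` is trivial, as `p`-elements of `A` are inner. -/
theorem eq_one_of_shift [Finite P] [hp : Fact p.Prime] {Q : Type*} [Group Q] (π : P →* Q)
    {δ : MulAut P} (hδ : δ ∈ A) (hker : ∀ v, π v = 1 → π (δ v) = 1) {u w : P} (hu : π (δ u) = π u * π w)
    (hw : π (δ w) = π w) (hwp : π w ^ p = 1) (hc : ∀ g, π (g * u * g⁻¹) = π u) : π w = 1 := by
  have hfin : Finite (MulAut P) := Finite.of_injective (fun f : MulAut P => (f : P → P)) DFunLike.coe_injective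
  have key : ∀ n : ℕ, π ((δ ^ n) u) = π u * π w ^ n := by
    intro n
    induction n with
    | zero => simp
    | succ n ih =>
      have hk : π ((u * w ^ n)⁻¹ * (δ ^ n) u) = 1 := by rw [map_mul, map_inv, map_mul, map_pow, ih, inv_mul_cancel]
      have := hker _ hk
      rw [map_mul, map_mul, map_inv, map_inv, inv_mul_eq_one, map_mul, map_mul, map_pow, map_pow, hu, hw] at this
      rw [pow_succ', MulAut.mul_apply, ← this, pow_succ', mul_assoc]
  obtain ⟨k, m, hm, hkm⟩ := Nat.exists_eq_pow_mul_and_not_dvd (orderOf_pos δ).ne' p hp.out.ne_one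
  obtain ⟨g, hg⟩ := h.pinn (δ ^ m) (pow_mem hδ m) k (by rw [← pow_mul, mul_comm, ← hkm, pow_orderOf_eq_one])
  have h1 := key m
  rw [hg, MulAut.conj_apply, hc, left_eq_mul] at h1
  by_contra hne
  exact hm (by rw [← orderOf_eq_prime hwp hne]; exact orderOf_dvd_of_pow_eq_one h1)

end Orb

end CfsgLib.RankThreePair
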