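import Cfsg.Agent.Lib.Fusion.RankThreePair.Orb

/-!
A moved vertex with no nontrivial subgroup invariant under both groups is elementary abelian of order `p²`.
-/

set_option autoImplicit false
set_option maxHeartbeats 1600000

namespace CfsgLib.RankThreePair

open Cfsg
open scoped commutatorElement

variable {P : Type*} [Group P] [Finite P] {p : ℕ} [hp : Fact p.Prime] {A : Subgroup (MulAut P)} {E : Subgroup P}
  [E.Normal] {L : Subgroup (MulAut E)}

omit [Finite P] hp in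
theorem comm_central_right {G : Type*} [Group G] {d d' c c' : G} (h1 : Commute c d') (h2 : Commute c c')
    (h3 : Commute c' d) : ⁅d * c, d' * c'⁆ = ⁅d, d'⁆ := by
  have c1 : Commute c (d' * c') := h1.mul_right h2
  simp only [commutatorElement_def]
  calc d * c * (d' * c') * (d * c)⁻¹ * (d' * c')⁻¹
      = d * (c * (d' * c')) * c⁻¹ * d⁻¹ * c'⁻¹ * d'⁻¹ := by group
    _ = d * d' * (c' * d⁻¹) * c'⁻¹ * d'⁻¹ := by rw [c1.eq]; group
    _ = _ := by rw [h3.inv_right.eq]; group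

omit hp in
/-- In the free case some image does not contain the orbit of `Ω₁ Z(P)`. -/
theorem Orb.exists_not_le [Fact p.Prime] (h : Orb p A E L) (hP : IsPGroup p P) (hr : SectionalPRankLE p 3 P)
    (hF : ∀ Q, Com A L Q → Q = ⊥) :
    omZ p P ≠ ⊥ ∧ ¬ Inv L (omZ p P) ∧ Orbit p L (orb L (omZ p P)) ∧
      (∀ φ ∈ A, E.map φ.toMonoidHom ≠ E → orb L (omZ p P) ≤ E.map φ.toMonoidHom →
        (orb L (omZ p P)).map φ.toMonoidHom = orb L (omZ p P)) ∧
      ∃ φ ∈ A, E.map φ.toMonoidHom ≠ E ∧ ¬ orb L (omZ p P) ≤ E.map φ.toMonoidHom := by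
  obtain ⟨φ₁, -, hne₁⟩ := h.moved
  have hdu := h.duo hne₁
  have hZE : omZ p P ≤ E := hdu.omZ_le.trans inf_le_left
  have hZ : omZ p P ≠ ⊥ := by
    have hne : (⊤ : Subgroup P) ≠ ⊥ := fun e => hdu.ne (le_antisymm
      (fun x _ => by rw [Subgroup.mem_bot.mp (e.le (Subgroup.mem_top x))]; exact one_mem _)
      (fun x _ => by rw [Subgroup.mem_bot.mp (e.le (Subgroup.mem_top x))]; exact one_mem _))
    obtain ⟨z, -, hz, hz1⟩ := exists_mem_omZ hP hne
    exact fun e => hz1 (Subgroup.mem_bot.mp (e.le hz))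
  have hm : ¬ Inv L (omZ p P) := fun hI => hZ (hF _ ⟨hZE, hI, fun φ _ x hx => map_aut_omZ φ hx⟩)
  set V := orb L (omZ p P) with hVdef
  have hO : Orbit p L V := hdu.orbit hr hm
  have hA : ∀ φ ∈ A, E.map φ.toMonoidHom ≠ E → V ≤ E.map φ.toMonoidHom → V.map φ.toMonoidHom = V := by
    intro φ _ hne hle
    have hd := h.duo hne
    have hZfix : ∀ z ∈ omZ p P, φ⁻¹ z ∈ omZ p P := fun z hz => map_aut_omZ φ⁻¹ hz
    have hm₂ : ¬ Inv (L.map (RankThreePair.tw φ E)) (omZ p P) := fun hI => hm fun a ha z hz => by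
      have := hI _ (Subgroup.mem_map_of_mem _ ha) _ (map_aut_omZ φ hz)
      rw [ap_tw φ a (hZE hz)] at this
      simpa using map_aut_omZ φ⁻¹ this
    by_cases hmv : orb (L.map (RankThreePair.tw φ E)) V = V
    · have hI := inv_orb (L.map (RankThreePair.tw φ E)) hle
      rw [hmv] at hI
      refine map_aut_eq fun x hx => ?_
      have hsub : V ≤ V.comap φ.toMonoidHom := orb_le fun a ha z hz => by
        show φ (ap a z) ∈ V
        rw [← ap_tw φ a (hZE hz)]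
        exact hI _ (Subgroup.mem_map_of_mem _ ha) _ (hO.omle (map_aut_omZ φ hz))
      exact hsub hx
    · exact absurd (fun a ha z hz => by
        rw [orbit_fixed_of_moved hP hr hd hZ hmv (fun hI => absurd hI hm₂) hO hle a ha z hz]
        exact hz) hm₂
  refine ⟨hZ, hm, hO, hA, ?_⟩
  by_contra! hh
  have hcom : Com A L V := by
    refine ⟨hO.leE, hO.inv, fun φ hφ x hx => ?_⟩
    by_cases hE : E.map φ.toMonoidHom = E
    · have hsub : V ≤ V.comap φ.toMonoidHom := orb_le fun a ha z hz => by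
        obtain ⟨b, hb, hab⟩ := h.nrm φ hφ hE a ha
        show φ (ap a z) ∈ V
        rw [hab z (hZE hz)]
        exact hO.inv b hb _ (hO.omle (map_aut_omZ φ hz))
      exact hsub hx
    · rw [← hA φ hφ hE (hh φ hφ hE)]
      exact Subgroup.mem_map_of_mem φ.toMonoidHom hx
  exact not_lt_bot (hF V hcom ▸ hO.omlt)

/-- A free moved vertex is elementary abelian of order `p²`. -/
theorem Orb.free (h : Orb p A E L) (hP : IsPGroup p P) (hodd : Odd p) (hr : SectionalPRankLE p 3 P)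
    (hF : ∀ Q, Com A L Q → Q = ⊥) :
    Nat.card E = p ^ 2 ∧ (∀ u ∈ E, ∀ v ∈ E, u * v = v * u) ∧ ∀ u ∈ E, u ^ p = 1 := by
  have hp' : p.Prime := hp.out
  obtain ⟨hZne, hm, hO, hA, φ₀, hφ₀, hne₀, hV₀⟩ := h.exists_not_le hP hr hF
  set V := orb L (omZ p P) with hVdef
  -- the derived subgroup of `E`
  have hder : ∀ ψ ∈ A, E.map ψ.toMonoidHom ≠ E → ¬ V ≤ E.map ψ.toMonoidHom → ⁅E, E⁆.map ψ.toMonoidHom = ⁅E, E⁆ := by
    intro ψ _ hne hV
    have hd := h.duo hne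
    obtain ⟨x, hxV, hx⟩ := SetLike.not_le_iff_exists.mp hV
    have hgen := sup_zpowers_eq inf_le_left hd.card₁ (hO.leE hxV) fun hh => hx hh.2
    have hxc : ∀ (i : ℤ), ∀ e ∈ E, Commute (x ^ i) e := fun i e he =>
      ((show Commute e x from hO.comm x hxV e he).symm).zpow_left i
    refine (Subgroup.eq_of_le_of_card_ge ?_ (card_map_aut ψ _).le).symm
    refine Subgroup.commutator_le.mpr fun u hu v hv => ?_
    obtain ⟨d, hd', _, ⟨i, rfl⟩, rfl⟩ := Subgroup.mem_sup_of_normal_left.mp (hgen.ge hu)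
    obtain ⟨d', hd'', _, ⟨j, rfl⟩, rfl⟩ := Subgroup.mem_sup_of_normal_left.mp (hgen.ge hv)
    rw [comm_central_right (hxc i _ hd''.1) (hxc i _ (E.zpow_mem (hO.leE hxV) j)) (hxc j _ hd'.1),
      Subgroup.map_commutator]
    exact Subgroup.commutator_mem_commutator hd'.2 hd''.2
  have hder' : ∀ φ ∈ A, ⁅E, E⁆.map φ.toMonoidHom = ⁅E, E⁆ := by
    intro φ hφ
    by_cases hE : E.map φ.toMonoidHom = E
    · rw [Subgroup.map_commutator, hE]
    by_cases hV : V ≤ E.map φ.toMonoidHom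
    swap
    · exact hder φ hφ hE hV
    have hVφ : ∀ x ∈ V, φ⁻¹ x ∈ V := fun x hx => by
      rw [← hA φ hφ hE hV] at hx
      exact mem_map_aut.mp hx
    have hnV : ¬ V ≤ E.map (φ * φ₀).toMonoidHom := fun hle => hV₀ fun x hx => by
      have hx' : φ x ∈ V := by rw [← hA φ hφ hE hV]; exact Subgroup.mem_map_of_mem φ.toMonoidHom hx
      obtain ⟨e, he, hex⟩ := hle hx'
      exact ⟨e, he, φ.injective hex⟩
    have hne : E.map (φ * φ₀).toMonoidHom ≠ E := fun e => hnV (e.symm ▸ hO.leE)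
    have h2 := hder _ (mul_mem hφ hφ₀) hne hnV
    rwa [← map_map_aut, hder φ₀ hφ₀ hne₀ hV₀] at h2
  have hab : ∀ u ∈ E, ∀ v ∈ E, u * v = v * u := by
    have hb : ⁅E, E⁆ = ⊥ := hF _ ⟨(Subgroup.commutator_le).mpr fun u hu v hv => by
        rw [commutatorElement_def]; exact mul_mem (mul_mem (mul_mem hu hv) (inv_mem hu)) (inv_mem hv),
      (inv_self L).commutator (inv_self L) le_rfl le_rfl, fun φ hφ x hx => by
        rw [← hder' φ hφ]; exact Subgroup.mem_map_of_mem φ.toMonoidHom hx⟩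
    exact fun u hu v hv => commutatorElement_eq_one_iff_mul_comm.mp
      (Subgroup.mem_bot.mp (hb.le (Subgroup.commutator_mem_commutator hu hv)))
  -- the intersection is the centre
  have hd := h.duo hne₀
  set E₂ := E.map φ₀.toMonoidHom with hE₂
  have hab₂ : ∀ u ∈ E₂, ∀ v ∈ E₂, u * v = v * u := by
    rintro _ ⟨u, hu, rfl⟩ _ ⟨v, hv, rfl⟩
    show φ₀ u * φ₀ v = φ₀ v * φ₀ u
    rw [← map_mul, ← map_mul, hab u hu v hv]
  set Z := Subgroup.center P with hZdef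
  have hD₀ : E ⊓ E₂ = Z := le_antisymm
    (fun d hd' => hd.central_of_commute (fun u hu => hab u hu d hd'.1) fun u hu => hab₂ u hu d hd'.2)
    fun d hd' => ⟨hd.v₁.centric (Subgroup.mem_centralizer_iff.mpr fun v _ => Subgroup.mem_center_iff.mp hd' v),
      hd.v₂.centric (Subgroup.mem_centralizer_iff.mpr fun v _ => Subgroup.mem_center_iff.mp hd' v)⟩
  have hZE : Z ≤ E := hD₀ ▸ inf_le_left
  have hcardE : Nat.card E = p * Nat.card Z := hD₀ ▸ hd.card₁
  obtain ⟨x, hxV, hx₂⟩ := SetLike.not_le_iff_exists.mp hV₀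
  have hxE : x ∈ E := hO.leE hxV
  have hxZ : x ∉ Z := fun hh => hx₂ (hD₀.ge hh).2
  have hgen : Z ⊔ Subgroup.zpowers x = E := sup_zpowers_eq hZE hcardE hxE hxZ
  have hdec : ∀ e ∈ E, ∃ c ∈ Z, c ^ p = e ^ p := fun e he => by
    obtain ⟨c, hc, _, ⟨i, rfl⟩, rfl⟩ := Subgroup.mem_sup_of_normal_left.mp (hgen.ge he)
    refine ⟨c, hc, ?_⟩
    rw [(show Commute c (x ^ i) from hab c (hZE hc) _ (E.zpow_mem hxE i)).mul_pow, ← zpow_natCast (x ^ i) p,
      ← zpow_mul, mul_comm, zpow_mul, zpow_natCast, hO.exp x hxV, one_zpow, mul_one]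
  let Zp : Subgroup P :=
    { carrier := {u | ∃ c ∈ Z, c ^ p = u}
      one_mem' := ⟨1, one_mem _, one_pow p⟩
      mul_mem' := fun {u v} ⟨a, ha, hu⟩ ⟨b, hb, hv⟩ => ⟨a * b, mul_mem ha hb, by
        rw [(show Commute a b from Subgroup.mem_center_iff.mp hb a).mul_pow, hu, hv]⟩
      inv_mem' := fun {u} ⟨a, ha, hu⟩ => ⟨a⁻¹, inv_mem ha, by rw [inv_pow, hu]⟩ }
  have hZp : Zp = ⊥ := hF _ ⟨by rintro _ ⟨c, hc, rfl⟩; exact pow_mem (hZE hc) p, by
      rintro a - _ ⟨c, hc, rfl⟩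
      rw [ap_map_pow a (hZE hc)]
      exact hdec _ (ap_mem a (hZE hc)), by
      rintro φ - _ ⟨c, hc, rfl⟩
      exact ⟨φ c, map_aut_center φ hc, (map_pow φ c p).symm⟩⟩
  have hexp : ∀ e ∈ E, e ^ p = 1 := fun e he => Subgroup.mem_bot.mp (hZp.le (hdec e he))
  refine ⟨?_, hab, hexp⟩
  have hZom : omZ p P = Z := le_antisymm (fun z hz => hz.1) fun z hz => ⟨hz, hexp z (hZE hz)⟩
  have hE3 := card_le_of_elementary hr E hab hexp
  obtain ⟨j, hj⟩ := IsPGroup.iff_card.mp (hP.to_subgroup Z)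
  have hj1 : 1 ≤ j := by
    by_contra hh
    exact hZne (hZom.trans (Subgroup.card_eq_one.mp (by rw [hj, show j = 0 by omega, pow_zero])))
  rw [hcardE, hj, ← pow_succ'] at hE3 ⊢
  have hj2 : j + 1 ≤ 3 := (Nat.pow_le_pow_iff_right hp'.one_lt).mp hE3
  rcases (show j = 1 ∨ j = 2 by omega) with rfl | rfl
  · rfl
  exfalso
  -- `E` has order `p³`
  obtain ⟨g₀, hg₀, hg₀'⟩ := SetLike.not_le_iff_exists.mp hd.symm.not_le₁
  have hcen : ∀ u ∈ E, (u ∈ Z ↔ u⁻¹ * (g₀ * u * g₀⁻¹) ∈ (⊥ : Subgroup P)) := fun u hu => by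
    rw [Subgroup.mem_bot, inv_mul_eq_one, eq_comm, mul_inv_eq_iff_eq_mul]
    refine ⟨fun hz => Subgroup.mem_center_iff.mp hz g₀, fun hg => Subgroup.mem_center_iff.mpr fun g => ?_⟩
    obtain ⟨i, w, hw, rfl⟩ := exists_pow_mul h.v.index hg₀' g
    exact ((show Commute g₀ u from hg).pow_left i |>.mul_left (hab w hw u hu)).eq
  obtain ⟨a₁, ha₁, z₁, hz₁, hz₁'⟩ : ∃ a ∈ L, ∃ z ∈ Z, ap a z ∉ Z := by
    by_contra! hh
    exact hm (hZom ▸ hh)
  obtain ⟨D, Pl, s, n, hS⟩ := exists_split_section hP h.v hg₀' E ⊥ Z bot_le le_rfl (inv_self L) (inv_bot L)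
    (fun u hu v hv => Subgroup.mem_bot.mpr (commutatorElement_eq_one_iff_mul_comm.mpr (hab u hu v hv)))
    (fun u hu => Subgroup.mem_bot.mpr (hexp u hu))
    (fun u hu v hv => by rw [Subgroup.mem_bot, hab u hu v hv, mul_inv_cancel_right, inv_mul_cancel])
    hZE hcen hcardE ⟨a₁, ha₁, z₁, hz₁, hz₁'⟩
  set R := Subgroup.zpowers s with hR
  have hsZ : s ∈ Z := hS.sH
  have hRn : R.Normal := ⟨fun u hu g => by
    obtain ⟨i, rfl⟩ := Subgroup.mem_zpowers_iff.mp hu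
    rw [Subgroup.mem_center_iff.mp (zpow_mem hsZ i) g, mul_inv_cancel_right]; exact hu⟩
  let π := QuotientGroup.mk' R
  have hg₀c : ∀ e ∈ E, Commute (π g₀) (π e) := fun e he => by
    have h1 := hS.centre e he
    rw [bot_sup_eq] at h1
    have h2 : π e = π (g₀ * e * g₀⁻¹) := proj_eq_iff.mpr h1
    rw [map_mul, map_mul, map_inv] at h2
    exact (eq_mul_inv_iff_mul_eq.mp h2).symm
  have hcomm : ∀ u v : P, ⁅u, v⁆ ∈ R := by
    intro u v
    obtain ⟨i, e, he, rfl⟩ := exists_pow_mul h.v.index hg₀' u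
    obtain ⟨j, e', he', rfl⟩ := exists_pow_mul h.v.index hg₀' v
    refine (QuotientGroup.eq_one_iff _).mp ?_
    show π ⁅g₀ ^ i * e, g₀ ^ j * e'⁆ = 1
    rw [map_commutatorElement, commutatorElement_eq_one_iff_mul_comm, map_mul π, map_mul π, map_pow, map_pow]
    have hee : Commute (π e) (π e') := by
      show π e * π e' = π e' * π e
      rw [← map_mul, ← map_mul, hab e he e' he']
    exact ((((Commute.refl (π g₀)).pow_pow i j).mul_right ((hg₀c e' he').pow_left i)).mul_left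
      (((hg₀c e he).pow_left j).symm.mul_right hee)).eq
  have hs1 : s ≠ 1 := fun e => hS.sD (e ▸ one_mem D)
  have hRc : Nat.card R = p := by rw [hR, Nat.card_zpowers, orderOf_eq_prime (hexp s (hZE hsZ)) hs1]
  have hc1 : ⁅g₀, x⁆ ≠ 1 := fun e => hxZ ((hcen x hxE).mpr (by
    rw [Subgroup.mem_bot, (commutatorElement_eq_one_iff_mul_comm.mp e : g₀ * x = x * g₀), mul_inv_cancel_right,
      inv_mul_cancel]))
  have hRA : ∀ φ : MulAut P, φ s ∈ R := fun φ => by
    obtain ⟨k, hk⟩ := exists_zpow_eq hRc (hcomm g₀ x) hc1 (Subgroup.mem_zpowers s)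
    rw [← hk, map_zpow, map_commutatorElement φ]
    exact zpow_mem (hcomm _ _) k
  obtain ⟨β, hβ, hβn⟩ := h.ext n hS.nL hS.nU
  have hβD : ∀ d ∈ D, β d = d := fun d hd' => by
    rw [hβn d (hZE (hS.DH hd'))]
    exact (inv_mul_eq_one.mp (Subgroup.mem_bot.mp (hS.nD d hd'))).symm
  have hβs : β s = s⁻¹ := by
    rw [hβn s (hZE hsZ)]; exact eq_inv_of_mul_eq_one_right (Subgroup.mem_bot.mp hS.ns)
  have hgenZ : D ⊔ R = Z := sup_zpowers_eq hS.DH hS.cardD hsZ hS.sD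
  have hDn : D.Normal := ⟨fun u hu g => by
    rw [Subgroup.mem_center_iff.mp (hS.DH hu) g, mul_inv_cancel_right]; exact hu⟩
  have hDcom : Com A L D := by
    refine ⟨hS.DH.trans hZE, hS.invD, fun φ hφ d₀ hd₀ => ?_⟩
    obtain ⟨d₁, hd₁, r, hr', hdr⟩ :=
      Subgroup.mem_sup_of_normal_left.mp (hgenZ.ge (map_aut_center φ (hS.DH hd₀)))
    obtain ⟨i, rfl⟩ := Subgroup.mem_zpowers_iff.mp hr'
    set β' := φ * β * φ⁻¹ with hβ'
    have h1 : β' (φ d₀) = φ d₀ := by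
      show φ (β (φ⁻¹ (φ d₀))) = _
      rw [MulAut.inv_apply_self, hβD d₀ hd₀]
    have h2 : β' s = s⁻¹ := by
      obtain ⟨k, hk⟩ := Subgroup.mem_zpowers_iff.mp (hRA φ⁻¹)
      show φ (β (φ⁻¹ s)) = _
      rw [← hk, map_zpow, hβs, inv_zpow, hk, map_inv, MulAut.apply_inv_self]
    have hu : (β' * β) d₁ = d₁ * s ^ (i + i) := by
      rw [MulAut.mul_apply, hβD d₁ hd₁, show d₁ = φ d₀ * (s ^ i)⁻¹ from eq_mul_inv_of_mul_eq hdr, map_mul, h1,
        map_inv, map_zpow, h2, inv_zpow, inv_inv, zpow_add]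
      group
    have hw : (β' * β) (s ^ (i + i)) = s ^ (i + i) := by
      rw [MulAut.mul_apply, map_zpow, hβs, inv_zpow, map_inv, map_zpow, h2, inv_zpow, inv_inv]
    have hone := h.eq_one_of_shift (MonoidHom.id P) (mul_mem (mul_mem (mul_mem hφ hβ) (inv_mem hφ)) hβ)
      (fun v (hv : v = 1) => show (β' * β) v = 1 by rw [hv, map_one]) hu hw
      (hexp _ (E.zpow_mem (hZE hsZ) _))
      (fun g => by
        show g * d₁ * g⁻¹ = d₁
        rw [Subgroup.mem_center_iff.mp (hS.DH hd₁) g, mul_inv_cancel_right])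
    have hsi : s ^ i = 1 := eq_one_of_sq hP hodd (by rw [pow_two, ← zpow_add]; exact hone)
    rw [← hdr, hsi, mul_one]
    exact hd₁
  have hcD := hS.cardD
  rw [hF D hDcom, Subgroup.card_bot, mul_one, hj] at hcD
  exact absurd (Nat.pow_right_injective hp'.two_le (hcD.trans (pow_one p).symm)) (by norm_num)

end CfsgLib.RankThreePair
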