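import Cfsg.Agent.Lib.Fusion.RankThreePair.OrbFree

/-!
A moved vertex has the shape with abelian vertices, over a subgroup invariant under both groups.
-/

set_option autoImplicit false
set_option maxHeartbeats 1600000

namespace CfsgLib.RankThreePair

open Cfsg
open scoped commutatorElement

variable {P : Type*} [Group P] {p : ℕ} {A : Subgroup (MulAut P)} {E : Subgroup P} {L : Subgroup (MulAut E)}

/-- The largest subgroup invariant under both groups. -/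
def maxCom (A : Subgroup (MulAut P)) (L : Subgroup (MulAut E)) : Subgroup P :=
  Subgroup.closure {x | ∃ Q, Com A L Q ∧ x ∈ Q}

theorem le_maxCom {Q : Subgroup P} (hQ : Com A L Q) : Q ≤ maxCom A L := fun _ hx =>
  Subgroup.subset_closure ⟨Q, hQ, hx⟩

theorem maxCom_com : Com A L (maxCom A L) := by
  have hle : maxCom A L ≤ E := by
    rw [maxCom, Subgroup.closure_le]
    rintro x ⟨Q, hQ, hx⟩
    exact hQ.1 hx
  refine ⟨hle, fun a ha y hy => ?_, fun φ hφ y hy => ?_⟩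
  · have h : y ∈ E ∧ ap a y ∈ maxCom A L := by
      refine Subgroup.closure_induction (p := fun y _ => y ∈ E ∧ ap a y ∈ maxCom A L) ?_ ?_ ?_ ?_ hy
      · rintro x ⟨Q, hQ, hx⟩
        exact ⟨hQ.1 hx, le_maxCom hQ (hQ.2.1 a ha x hx)⟩
      · exact ⟨one_mem _, by rw [ap_map_one]; exact one_mem _⟩
      · rintro x z - - ⟨hx, hx'⟩ ⟨hz, hz'⟩
        exact ⟨mul_mem hx hz, by rw [ap_map_mul a hx hz]; exact mul_mem hx' hz'⟩
      · rintro x - ⟨hx, hx'⟩
        exact ⟨inv_mem hx, by rw [ap_map_inv a hx]; exact inv_mem hx'⟩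
    exact h.2
  · have h : maxCom A L ≤ (maxCom A L).comap φ.toMonoidHom := by
      refine (Subgroup.closure_le _).mpr ?_
      rintro x ⟨Q, hQ, hx⟩
      exact le_maxCom hQ (hQ.2.2 φ hφ x hx)
    exact h hy

/-- Irreducibility passes to images. -/
theorem Irr.tw {T : Subgroup P} (h : Irr E L T) {φ : MulAut P} (hT : T.map φ.toMonoidHom = T) :
    Irr (E.map φ.toMonoidHom) (L.map (tw φ E)) T := by
  intro Q hTQ hQE hQ
  have hQ' : ∀ x, x ∈ Q.comap φ.toMonoidHom ↔ φ x ∈ Q := fun x => Iff.rfl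
  have hle : Q.comap φ.toMonoidHom ≤ E := fun x hx => by
    have := mem_map_aut.mp (hQE hx)
    rwa [show φ⁻¹ (φ.toMonoidHom x) = x from φ.symm_apply_apply x] at this
  have hsur : (Q.comap φ.toMonoidHom).map φ.toMonoidHom = Q :=
    Subgroup.map_comap_eq_self_of_surjective φ.surjective Q
  rcases h (Q.comap φ.toMonoidHom) (Subgroup.map_le_iff_le_comap.mp (hT.le.trans hTQ)) hle
    (fun a ha x hx => by
      rw [hQ', ← ap_tw φ a (hle hx)]
      exact hQ _ (Subgroup.mem_map_of_mem _ ha) _ hx) with e | e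
  · exact Or.inl (by rw [← hsur, e, hT])
  · exact Or.inr (by rw [← hsur, e])

variable [Finite P] [hp : Fact p.Prime] [E.Normal]

namespace Orb

variable (h : Orb p A E L)
include h

omit hp in
theorem normal_of_com [Fact p.Prime] {T : Subgroup P} (hT : Com A L T) : T.Normal :=
  h.v.normal_of_inv hT.1 hT.2.1

/-- The quotient by the largest invariant subgroup is free. -/
theorem image (hP : IsPGroup p P) (hr : SectionalPRankLE p 3 P) {T : Subgroup P} [T.Normal] (hT : Com A L T)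
    (hmax : ∀ Q, Com A L Q → Q ≤ T) :
    ∃ A' : Subgroup (MulAut (P ⧸ T)), Orb p A' (E.map (QuotientGroup.mk' T)) (push hT.1 hT.2.1).range ∧
      ∀ Q, Com A' (push hT.1 hT.2.1).range Q → Q = ⊥ := by
  let π := QuotientGroup.mk' T
  let ρ : A →* MulAut (P ⧸ T) :=
    { toFun := fun φ => QuotientGroup.congr T T (φ : MulAut P) (hT.map_eq φ.2)
      map_one' := MulEquiv.ext fun q => by
        obtain ⟨x, rfl⟩ := QuotientGroup.mk'_surjective T q; rfl
      map_mul' := fun a b => MulEquiv.ext fun q => by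
        obtain ⟨x, rfl⟩ := QuotientGroup.mk'_surjective T q; rfl }
  have hρ : ∀ (φ : A) (x : P), ρ φ (π x) = π ((φ : MulAut P) x) := fun φ x => rfl
  have hfix : ∀ φ : A, (E.map π).map (ρ φ).toMonoidHom = E.map π → E.map (φ : MulAut P).toMonoidHom = E := fun φ e => by
    refine map_aut_eq fun x hx => (mem_map_mk_iff hT.1).mp ?_
    rw [← hρ]
    exact e.le (Subgroup.mem_map_of_mem (ρ φ).toMonoidHom (Subgroup.mem_map_of_mem π hx))
  obtain ⟨φ₁, hφ₁, hne₁⟩ := h.moved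
  have hV : Vertex p (E.map π) (push hT.1 hT.2.1).range :=
    h.v.image hP hT.1 hT.2.1 ((h.duo hne₁).not_actsInner hP hr (hT.common hφ₁))
  have hconj : ∀ g : P, ρ ⟨_, h.inner g⟩ = MulAut.conj (π g) := fun g => MulEquiv.ext fun q => by
    obtain ⟨x, rfl⟩ := QuotientGroup.mk'_surjective T q
    rw [hρ, MulAut.conj_apply, MulAut.conj_apply, map_mul, map_mul, map_inv]
  refine ⟨ρ.range, ⟨hV, fun q => ?_, ?_, ?_, ?_, ⟨_, ⟨⟨φ₁, hφ₁⟩, rfl⟩, fun e => hne₁ (hfix ⟨φ₁, hφ₁⟩ e)⟩⟩, ?_⟩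
  · obtain ⟨g, rfl⟩ := QuotientGroup.mk'_surjective T q
    exact ⟨_, hconj g⟩
  · rintro _ ⟨δ, rfl⟩ k hk
    have hfin : Finite (MulAut P) := Finite.of_injective (fun f : MulAut P => (f : P → P)) DFunLike.coe_injective
    obtain ⟨a, m, hm, ham⟩ := Nat.exists_eq_pow_mul_and_not_dvd (orderOf_pos (δ : MulAut P)).ne' p hp.out.ne_one
    obtain ⟨g, hg⟩ := h.pinn ((δ : MulAut P) ^ m) (pow_mem δ.2 m) a
      (by rw [← pow_mul, mul_comm, ← ham, pow_orderOf_eq_one])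
    have hco : m.Coprime (orderOf (ρ δ)) := by
      refine Nat.Coprime.coprime_dvd_right (orderOf_dvd_of_pow_eq_one hk) (Nat.Coprime.pow_right k ?_)
      exact (hp.out.coprime_iff_not_dvd.mpr hm).symm
    obtain ⟨u, hu⟩ := exists_pow_eq_self_of_coprime hco
    refine ⟨π g ^ u, ?_⟩
    rw [map_pow MulAut.conj, ← hconj, show (⟨_, h.inner g⟩ : A) = δ ^ m from Subtype.ext hg.symm, map_pow, hu]
  · rintro _ ⟨n₀, rfl⟩ hnU
    let cj : P →* MulAut E := MulAut.conjNormal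
    have hUp : IsPGroup p (cj.range.subgroupOf L) := by
      refine IsPGroup.of_equiv (hP.of_surjective cj.rangeRestrict cj.rangeRestrict_surjective)
        (Subgroup.subgroupOfEquivOfLe (H := cj.range) (K := L) ?_).symm
      rintro _ ⟨g, rfl⟩; exact h.v.le g
    obtain ⟨m, hm, hmU⟩ := exists_normalizing_lift (push hT.1 hT.2.1) hUp h.v.sylow (n := n₀) fun u hu => by
      obtain ⟨g, hg⟩ := hu
      obtain ⟨q, hq⟩ := hnU (π g)
      obtain ⟨k, rfl⟩ := QuotientGroup.mk'_surjective T q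
      refine ⟨⟨_, h.v.le k⟩, ⟨k, rfl⟩, ?_⟩
      rw [push_conj, hq, map_mul, map_mul, map_inv, show u = ⟨_, h.v.le g⟩ from Subtype.ext hg.symm, push_conj]
    obtain ⟨φ, hφ, hφn⟩ := h.ext (m : MulAut E) m.2 fun g => hmU ⟨cj g, h.v.le g⟩ ⟨g, rfl⟩
    refine ⟨_, ⟨⟨φ, hφ⟩, rfl⟩, ?_⟩
    rintro _ ⟨x, hx, rfl⟩
    rw [← hm, push_apply _ _ _ hx, ← hφn x hx, hρ]
  · rintro _ ⟨φ, rfl⟩ he _ ⟨a, rfl⟩
    obtain ⟨b, hb, hab⟩ := h.nrm φ φ.2 (hfix φ he) a a.2
    refine ⟨_, ⟨⟨b, hb⟩, rfl⟩, ?_⟩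
    rintro _ ⟨x, hx, rfl⟩
    rw [push_apply _ _ _ hx, hρ, hab x hx, hρ, push_apply _ _ _ (x := (φ : MulAut P) x) ((hfix φ he).le (Subgroup.mem_map_of_mem _ hx))]
  · intro Q hQ
    have hC : Com A L (Q.comap π) := by
      refine ⟨fun x hx => (mem_map_mk_iff hT.1).mp (hQ.1 hx), fun a ha x hx => ?_, fun φ hφ x hx => ?_⟩
      · have := hQ.2.1 _ ⟨⟨a, ha⟩, rfl⟩ _ hx
        rwa [push_apply _ _ _ ((mem_map_mk_iff hT.1).mp (hQ.1 hx))] at this
      · have := hQ.2.2 _ ⟨⟨φ, hφ⟩, rfl⟩ _ hx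
        rwa [hρ] at this
    rw [eq_bot_iff]
    intro q hq
    obtain ⟨x, rfl⟩ := QuotientGroup.mk'_surjective T q
    exact Subgroup.mem_bot.mpr ((QuotientGroup.eq_one_iff x).mpr (hmax _ hC hq))

/-- A moved vertex gives the shape with abelian vertices. -/
theorem shapeA (hP : IsPGroup p P) (hodd : Odd p) (hr : SectionalPRankLE p 3 P) :
    ∃ (φ₀ : MulAut P) (T : Subgroup P) (z : P), (∀ φ ∈ A, ∀ t ∈ T, φ t ∈ T) ∧
      ShapeA p L (L.map (RankThreePair.tw φ₀ E)) T z := by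
  have hp' : p.Prime := hp.out
  set T := maxCom A L with hTdef
  have hT : Com A L T := maxCom_com
  have : T.Normal := h.normal_of_com hT
  obtain ⟨A', hh', hF'⟩ := h.image hP hr hT fun Q hQ => le_maxCom hQ
  obtain ⟨hcE, hcomE, hexpE⟩ := hh'.free (hP.to_quotient T) hodd (rank_quotient hr T) hF'
  let π := QuotientGroup.mk' T
  obtain ⟨φ₀, hφ₀, hne₀⟩ := h.moved
  have hd := h.duo hne₀
  set E₂ := E.map φ₀.toMonoidHom with hE₂
  set L₂ := L.map (RankThreePair.tw φ₀ E) with hL₂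
  have hTc : Common L L₂ T := hT.common hφ₀
  have hcT : ∀ u ∈ E, ∀ v ∈ E, ⁅u, v⁆ ∈ T := fun u hu v hv => (QuotientGroup.eq_one_iff _).mp (by
    show π ⁅u, v⁆ = 1
    rw [map_commutatorElement, commutatorElement_eq_one_iff_mul_comm]
    exact hcomE _ (Subgroup.mem_map_of_mem π hu) _ (Subgroup.mem_map_of_mem π hv))
  have hpT : ∀ u ∈ E, u ^ p ∈ T := fun u hu => (QuotientGroup.eq_one_iff _).mp (by
    show π (u ^ p) = 1
    rw [map_pow]; exact hexpE _ (Subgroup.mem_map_of_mem π hu))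
  have hirr₁ : Irr E L T := irr_of_map hT.1 hT.2.1 (hh'.v.irr_of_card (hP.to_quotient T) hcE)
  have hirr₂ : Irr E₂ L₂ T := hirr₁.tw (hT.map_eq hφ₀)
  have hc0 : Nat.card (E ⊓ E₂ : Subgroup P) = p * Nat.card T := by
    refine Nat.eq_of_mul_eq_mul_left hp'.pos ?_
    rw [← hd.card₁, card_map_mk hT.1, hcE, pow_two, mul_assoc]
  obtain ⟨x, hx, hx'⟩ := SetLike.not_le_iff_exists.mp hd.not_le₁
  obtain ⟨y, hy, hy'⟩ := SetLike.not_le_iff_exists.mp hd.symm.not_le₁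
  have hSQ : SmallQuot p E E₂ L L₂ T := by
    refine ⟨hd, hTc, hirr₁, hirr₂, hc0, hcT, ?_, hpT, ?_, fun hc => ?_⟩
    · rintro _ ⟨u, hu, rfl⟩ _ ⟨v, hv, rfl⟩
      show ⁅φ₀ u, φ₀ v⁆ ∈ T
      rw [← map_commutatorElement φ₀]
      exact hT.2.2 φ₀ hφ₀ _ (hcT u hu v hv)
    · rintro _ ⟨u, hu, rfl⟩
      show φ₀ u ^ p ∈ T
      rw [← map_pow]
      exact hT.2.2 φ₀ hφ₀ _ (hpT u hu)
    · refine hy' ((mem_map_mk_iff hT.1).mp (hh'.v.centric (Subgroup.mem_centralizer_iff.mpr ?_)))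
      rintro _ ⟨v, -, rfl⟩
      rw [← commutatorElement_eq_one_iff_mul_comm, ← map_commutatorElement]
      exact (QuotientGroup.eq_one_iff _).mpr (hc v y)
  have hD₀ : ¬ Inv L₂ (E ⊓ E₂) := fun hI => by
    rcases hirr₂ (E ⊓ E₂) hTc.1 inf_le_right hI with h1 | h1
    · have := congrArg (fun S : Subgroup P => Nat.card S) h1
      simp only [hc0] at this
      exact absurd ((Nat.mul_eq_right Nat.card_pos.ne').mp this) hp'.ne_one
    · exact hd.symm.not_le₁ fun u hu => (h1.ge hu).1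
  have hTC : T ≤ Subgroup.center P := by
    obtain ⟨φ', -, hne'⟩ := hh'.moved
    exact le_center_of_trivial hP hr hd hTc hirr₁ hD₀ hcT hpT (by rw [hd.card₁, hc0, mul_assoc])
      (frConj_trivial hP hd hTc hirr₁ hD₀ (hSQ.ker_ne hP hodd hr) ((hh'.duo hne').omZ_le.trans inf_le_left))
  have hzT := hSQ.comm_not_mem hP hr hx hx' hy hy'
  set z := ⁅y, x⁆ with hz
  have hzD : z ∈ E ⊓ E₂ := ⟨h.v.commutator_mem y x, hd.v₂.commutator_mem y x⟩
  obtain ⟨β, hβ, hβT, hβx, hβy, hβz⟩ := hSQ.inverter_of_extend hP hr hTC (K := A) (h.ext) hx hx' hy hy'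
  obtain ⟨β', hβ', hβ'T, hβ'y, hβ'x, hβ'z⟩ :=
    hSQ.symm.inverter_of_extend hP hr hTC (K := A) (h.ext_tw hφ₀) hy hy' hx hx'
  replace hβ'z : z * β' z ∈ T := by
    rw [← commutatorElement_inv y x, map_inv] at hβ'z
    have h1 := inv_mem hβ'z
    rw [mul_inv_rev, inv_inv, inv_inv] at h1
    have h2 : z * β' z = z * (β' z * z) * z⁻¹ := by group
    rw [h2]
    exact (inferInstance : T.Normal).conj_mem _ h1 z
  rw [inf_comm] at hβ'y
  set D₀ := E ⊓ E₂ with hD₀def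
  have hgen : T ⊔ Subgroup.zpowers z = D₀ := sup_zpowers_eq hTc.1 hc0 hzD hzT
  have hDfix : ∀ {γ : MulAut P}, (∀ t ∈ T, γ t = t) → z * γ z ∈ T → D₀ ≤ D₀.comap γ.toMonoidHom := fun {γ} hγ hγz => by
    refine hgen.symm.le.trans (sup_le (fun t ht => ?_) (Subgroup.zpowers_le.mpr ?_))
    · show γ t ∈ D₀
      rw [hγ t ht]; exact hTc.1 ht
    · show γ z ∈ D₀
      have := mul_mem (inv_mem hzD) (hTc.1 hγz)
      rwa [inv_mul_cancel_left] at this
  -- the commutator with `z`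
  have hfT : ∀ g : P, ⁅g, z⁆ ∈ T := fun g => (QuotientGroup.eq_one_iff _).mp (by
    show π ⁅g, z⁆ = 1
    rw [map_commutatorElement, commutatorElement_eq_one_iff_mul_comm]
    exact Subgroup.mem_center_iff.mp (hSQ.central_inf hzD) _)
  have hfc : ∀ g k : P, k * ⁅g, z⁆ = ⁅g, z⁆ * k := fun g k => Subgroup.mem_center_iff.mp (hTC (hfT g)) k
  let f : P →* P := MonoidHom.mk' (fun g => ⁅g, z⁆) fun a b => by
    show ⁅a * b, z⁆ = ⁅a, z⁆ * ⁅b, z⁆
    rw [show ⁅a * b, z⁆ = a * ⁅b, z⁆ * a⁻¹ * ⁅a, z⁆ by simp only [commutatorElement_def]; group, hfc b a,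
      mul_inv_cancel_right, hfc a]
  have hfD : D₀ ≤ f.ker := hgen.symm.le.trans (sup_le (fun t ht => by
    show ⁅t, z⁆ = 1
    exact commutatorElement_eq_one_iff_mul_comm.mpr (Subgroup.mem_center_iff.mp (hTC ht) z).symm)
    (Subgroup.zpowers_le.mpr (show ⁅z, z⁆ = 1 from commutatorElement_self z)))
  let fQ : P ⧸ D₀ →* P := QuotientGroup.lift D₀ f hfD
  let ν := QuotientGroup.mk' D₀
  have hfν : ∀ g, fQ (ν g) = ⁅g, z⁆ := fun g => rfl
  let _ : CommGroup (P ⧸ D₀) :=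
    { (inferInstance : Group (P ⧸ D₀)) with
      mul_comm := fun a b => by
        obtain ⟨u, rfl⟩ := QuotientGroup.mk'_surjective D₀ a
        obtain ⟨v, rfl⟩ := QuotientGroup.mk'_surjective D₀ b
        rw [← commutatorElement_eq_one_iff_mul_comm, ← map_commutatorElement]
        exact (QuotientGroup.eq_one_iff _).mpr ⟨h.v.commutator_mem u v, hd.v₂.commutator_mem u v⟩ }
  have hQp : ∀ q : P ⧸ D₀, q ^ p = 1 := fun q => by
    obtain ⟨u, rfl⟩ := QuotientGroup.mk'_surjective D₀ q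
    rw [← map_pow]
    exact (QuotientGroup.eq_one_iff _).mpr ⟨h.v.conj_pow_mem u, hd.v₂.conj_pow_mem u⟩
  let B := QuotientGroup.map D₀ D₀ β.toMonoidHom (hDfix hβT hβz)
  let B' := QuotientGroup.map D₀ D₀ β'.toMonoidHom (hDfix hβ'T hβ'z)
  have hBν : ∀ g, B (ν g) = ν (β g) := fun g => rfl
  have hB'ν : ∀ g, B' (ν g) = ν (β' g) := fun g => rfl
  have hinvert : ∀ {γ : MulAut P}, (∀ t ∈ T, γ t = t) → z * γ z ∈ T → ∀ g,
      fQ (ν (γ g)) = (fQ (ν g))⁻¹ := fun {γ} hγ hγz g => by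
    rw [hfν, hfν]
    have h1 : γ ⁅g, z⁆ = ⁅g, z⁆ := hγ _ (hfT g)
    rw [map_commutatorElement γ, show γ z = z⁻¹ * (z * γ z) by rw [inv_mul_cancel_left],
      show ⁅γ g, z⁻¹ * (z * γ z)⁆ = ⁅γ g, z⁻¹⁆ by
        simpa only [one_mul] using comm_shift (a := γ g) (b := z⁻¹) (one_mem _) (hTC hγz)] at h1
    rw [← h1, show ⁅γ g, z⁻¹⁆ = z⁻¹ * ⁅γ g, z⁆⁻¹ * z by simp only [commutatorElement_def]; group,
      show z⁻¹ * ⁅γ g, z⁆⁻¹ = ⁅γ g, z⁆⁻¹ * z⁻¹ from
        (Commute.inv_inv (show Commute z ⁅γ g, z⁆ from hfc _ z)).eq, inv_mul_cancel_right, inv_inv]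
  set X := ν x with hX
  set Y := ν y with hY
  have hBX : B X = X⁻¹ := by
    rw [hBν]; refine eq_inv_of_mul_eq_one_right ?_
    rw [← map_mul]; exact (QuotientGroup.eq_one_iff _).mpr hβx
  have hB'Y : B' Y = Y⁻¹ := by
    rw [hB'ν]; refine eq_inv_of_mul_eq_one_right ?_
    rw [← map_mul]; exact (QuotientGroup.eq_one_iff _).mpr hβ'y
  have hgen₁ : D₀ ⊔ Subgroup.zpowers x = E := sup_zpowers_eq inf_le_left hd.card₁ hx fun hh => hx' hh.2
  have hgen₂ : D₀ ⊔ Subgroup.zpowers y = E₂ := sup_zpowers_eq inf_le_right hd.card₂ hy fun hh => hy' hh.1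
  have hline : ∀ {w u : P}, u ∈ D₀ ⊔ Subgroup.zpowers w → ∃ i : ℤ, ν u = ν w ^ i := fun {w u} hu => by
    obtain ⟨d, hd', _, ⟨i, rfl⟩, rfl⟩ := Subgroup.mem_sup_of_normal_left.mp hu
    exact ⟨i, by rw [map_mul, show ν d = 1 from (QuotientGroup.eq_one_iff d).mpr hd', one_mul, map_zpow]⟩
  obtain ⟨j, hj⟩ := hline (hgen₁.ge hβy)
  obtain ⟨i, hi⟩ := hline (hgen₂.ge hβ'x)
  have hBY : B Y = Y * X ^ j := by rw [hBν, ← hj, ← map_mul, mul_inv_cancel_left]
  have hB'X : B' X = X * Y ^ i := by rw [hB'ν, ← hi, ← map_mul, mul_inv_cancel_left]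
  have ha : fQ Y * fQ X ^ j = (fQ Y)⁻¹ := by
    rw [← map_zpow, ← map_mul, ← hBY, hBν]; exact hinvert hβT hβz y
  have hb : fQ X * fQ Y ^ i = (fQ X)⁻¹ := by
    rw [← map_zpow, ← map_mul, ← hB'X, hB'ν]; exact hinvert hβ'T hβ'z x
  have hfx : fQ X = 1 ∧ fQ Y = 1 := by
    have hX4 : fQ X ^ (i * j - 4) = 1 := by
      have e1 : fQ X ^ j = fQ Y ^ (-2 : ℤ) := by
        rw [eq_inv_mul_of_mul_eq ha]; group
      have e2 : fQ Y ^ i = fQ X ^ (-2 : ℤ) := by
        rw [eq_inv_mul_of_mul_eq hb]; group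
      rw [zpow_sub, mul_comm i j, zpow_mul, e1, ← zpow_mul, mul_comm (-2 : ℤ) i, zpow_mul, e2, ← zpow_mul]
      exact mul_inv_cancel _
    by_cases hdvd : (p : ℤ) ∣ i * j - 4
    · exfalso
      have hpow : ∀ q : P ⧸ D₀, q ^ (i * j) = q ^ (4 : ℤ) := fun q => by
        obtain ⟨m, hm⟩ := hdvd
        rw [show i * j = 4 + (p : ℤ) * m by omega, zpow_add, zpow_mul, zpow_natCast, hQp, one_zpow, mul_one]
      have hW : X ^ (-2 : ℤ) * Y ^ (-i) = 1 := by
        refine Eq.trans ?_ (h.eq_one_of_shift ν (mul_mem hβ' hβ) (u := x) (w := x ^ (-2 : ℤ) * y ^ (-i))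
          (fun v hv => ?_) ?_ ?_ (hQp _) fun g => ?_)
        · rw [map_mul, map_zpow, map_zpow]
        · show B' (B (ν v)) = 1
          rw [hv, map_one, map_one]
        · show B' (B X) = X * ν _
          rw [hBX, map_inv, hB'X, map_mul, map_zpow, map_zpow, ← hX, ← hY, mul_inv, ← zpow_neg, ← mul_assoc,
            show X * X ^ (-2 : ℤ) = X⁻¹ by group]
        · show B' (B (ν _)) = ν _
          simp only [map_mul, map_zpow, map_inv, ← hX, ← hY, hBX, hBY, hB'X, hB'Y, mul_zpow, inv_zpow, ← zpow_neg,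
            ← zpow_mul]
          rw [show j * -i = -(i * j) by ring, show i * -(i * j) = (i * j) * (-i) by ring, zpow_neg X (i * j), hpow,
            zpow_mul Y (i * j), hpow, ← zpow_mul, ← zpow_neg]
          calc X ^ (-(-2 : ℤ)) * Y ^ (i * -(-2)) * (Y ^ (- -i) * (X ^ (-4 : ℤ) * Y ^ (4 * -i)))
              = X ^ (-(-2 : ℤ)) * X ^ (-4 : ℤ) * (Y ^ (i * -(-2)) * Y ^ (- -i) * Y ^ (4 * -i)) := by ac_rfl
            _ = _ := by rw [← zpow_add, ← zpow_add, ← zpow_add]; ring_nf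
        · rw [map_mul, map_mul, map_inv, mul_comm (ν g), mul_inv_cancel_right]
      refine hx' (mem_of_zpow_mem (i := (2 : ℤ)) ?_ (hTc.1.trans inf_le_right (hpT x hx)) ?_)
      · intro hd2
        have h2 : p ∣ 2 := by exact_mod_cast hd2
        exact absurd ((Nat.prime_dvd_prime_iff_eq hp' Nat.prime_two).mp h2) (fun e => by subst e; norm_num at hodd)
      · have hm : ν (x ^ (2 : ℤ) * y ^ i) = 1 := by
          rw [map_mul, map_zpow, map_zpow, ← hX, ← hY, ← inv_eq_one, mul_inv, ← zpow_neg, ← zpow_neg]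
          exact hW
        have := E₂.mul_mem ((QuotientGroup.eq_one_iff _).mp hm).2 (E₂.inv_mem (E₂.zpow_mem hy i))
        rwa [mul_inv_cancel_right] at this
    · have hX1 : fQ X = 1 := by
        by_contra hne
        refine hdvd ?_
        have hord := orderOf_eq_prime (show fQ X ^ p = 1 by rw [← map_pow, hQp, map_one]) hne
        rw [← hord]
        exact orderOf_dvd_iff_zpow_eq_one.mpr hX4
      refine ⟨hX1, eq_one_of_sq hP hodd ?_⟩
      rw [hX1, one_zpow, mul_one] at ha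
      rw [pow_two]
      exact mul_eq_one_iff_eq_inv.mpr ha
  have hzC : z ∈ Subgroup.center P := Subgroup.mem_center_iff.mpr fun g => by
    obtain ⟨k, e, he, rfl⟩ := exists_pow_mul h.v.index hy' g
    have hE : E ≤ f.ker := hgen₁.symm.le.trans (sup_le hfD (Subgroup.zpowers_le.mpr hfx.1))
    have hY' : y ∈ f.ker := hfx.2
    exact commutatorElement_eq_one_iff_mul_comm.mp (MonoidHom.mem_ker.mp (mul_mem (pow_mem hY' k) (hE he)))
  have hDc : D₀ ≤ Subgroup.center P := hgen.symm.le.trans (sup_le hTC (Subgroup.zpowers_le.mpr hzC))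
  have hab : ∀ u ∈ E, ∀ v ∈ E, u * v = v * u := by
    intro u hu v hv
    obtain ⟨d, hd', _, ⟨k, rfl⟩, rfl⟩ := Subgroup.mem_sup_of_normal_left.mp (hgen₁.ge hu)
    obtain ⟨d', hd'', _, ⟨l, rfl⟩, rfl⟩ := Subgroup.mem_sup_of_normal_left.mp (hgen₁.ge hv)
    have c1 : ∀ {c : P}, c ∈ D₀ → ∀ w, Commute c w := fun {c} hc w => (Subgroup.mem_center_iff.mp (hDc hc) w).symm
    exact ((c1 hd' _).mul_left ((c1 hd'' _).symm.mul_right ((Commute.refl x).zpow_zpow k l))).eq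
  have hab₂ : ∀ u ∈ E₂, ∀ v ∈ E₂, u * v = v * u := by
    rintro _ ⟨u, hu, rfl⟩ _ ⟨v, hv, rfl⟩
    show φ₀ u * φ₀ v = φ₀ v * φ₀ u
    rw [← map_mul, ← map_mul, hab u hu v hv]
  obtain ⟨z', hA⟩ := hSQ.shapeA_of hP hodd hr hTC hab hab₂ hx hx' hy hy' hβT hβx hβ'T hβ'y
  exact ⟨φ₀, T, z', hT.2.2, hA⟩

end Orb

end CfsgLib.RankThreePair
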