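import Cfsg.Agent.Lib.Fusion.RankThreePair.Setting

/-!
A free pair in which the orbit `V` of `Ω₁ Z(P)` stays in both vertices: `V` has order `p²`, and
`Ω₁ Z(P)` has order `p` and is fixed by the second group.
-/

set_option autoImplicit false
set_option maxHeartbeats 1600000

namespace CfsgLib.RankThreePair

open Cfsg
open scoped commutatorElement

variable {P : Type*} [Group P] [Finite P] {p : ℕ} [hp : Fact p.Prime] {E₁ E₂ : Subgroup P} [E₁.Normal] [E₂.Normal]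
  {L₁ : Subgroup (MulAut E₁)} {L₂ : Subgroup (MulAut E₂)} {V : Subgroup P}

omit hp [Finite P] in
theorem Orbit.comm' (hO : Orbit p L₁ V) : ∀ u ∈ V, ∀ v ∈ V, u * v = v * u :=
  fun u hu v hv => hO.comm v hv u (hO.leE hu)

omit hp in
theorem Duo.orb_ne (h : Duo p E₁ E₂ L₁ L₂) (hF : Free L₁ L₂) (hO : Orbit p L₁ V) (hV : V ≤ E₂) :
    orb L₂ V ≠ V := fun e => by
  have hb := hF V ⟨le_inf hO.leE hV, hO.inv, e ▸ inv_orb L₂ hV⟩
  exact not_lt_bot (hb ▸ hO.omlt)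

omit hp in
theorem ap_comm {E : Subgroup P} (a : MulAut E) {u v : P} (hu : u ∈ E) (hv : v ∈ E) (h : u * v = v * u) :
    ap a u * ap a v = ap a v * ap a u := by
  rw [← ap_map_mul a hu hv, ← ap_map_mul a hv hu, h]

/-- The orbit has order `p²`, when it is moved. -/
theorem orbit_card_of_moved (hP : IsPGroup p P) (hr : SectionalPRankLE p 3 P)
    (h : Duo p E₁ E₂ L₁ L₂) (hZ : omZ p P ≠ ⊥) (hne : orb L₂ V ≠ V)
    (hfix : Inv L₂ (omZ p P) → ∀ D ≤ omZ p P, Inv L₁ D → D = ⊥) (hO : Orbit p L₁ V) (hV : V ≤ E₂) :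
    Nat.card V = p ^ 2 ∧ Nat.card (omZ p P) = p := by
  have hp' : p.Prime := hp.out
  set Z := omZ p P with hZdef
  obtain ⟨z₁, hz₁, hz₁'⟩ := (Subgroup.bot_or_exists_ne_one Z).resolve_left hZ
  obtain ⟨i, hi⟩ := IsPGroup.iff_card.mp (hP.to_subgroup Z)
  obtain ⟨j, hj⟩ := IsPGroup.iff_card.mp (hP.to_subgroup V)
  have hi1 : 1 ≤ i := by
    by_contra hh
    have hc : Nat.card Z = 1 := by rw [hi, show i = 0 by omega, pow_zero]
    exact hz₁' (Subgroup.mem_bot.mp ((Subgroup.card_eq_one.mp hc).le hz₁))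
  have hij := mul_card_le_of_lt hP hO.omlt
  rw [hi, hj, ← pow_succ'] at hij
  replace hij := (Nat.pow_le_pow_iff_right hp'.one_lt).mp hij
  have hj3 : j ≤ 3 := (Nat.pow_le_pow_iff_right hp'.one_lt).mp (hj ▸ hO.card_le)
  rcases (show (i = 1 ∧ j = 2) ∨ j = 3 by omega) with ⟨rfl, rfl⟩ | rfl
  · exact ⟨hj, by rw [hi, pow_one]⟩
  exfalso
  -- an image of `V` not commuting with `V`
  have hVimg : ∀ b : MulAut E₂, (∀ u ∈ img b V, u ∈ E₂ ∧ u ^ p = 1) ∧
      ∀ u ∈ img b V, ∀ v ∈ img b V, u * v = v * u := by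
    intro b
    refine ⟨fun u hu => ?_, fun u hu v hv => ?_⟩
    · obtain ⟨u, hu', rfl⟩ := (mem_img hV).mp hu
      exact ⟨ap_mem b (hV hu'), by rw [← ap_map_pow b (hV hu'), hO.exp u hu', ap_map_one]⟩
    · obtain ⟨u, hu', rfl⟩ := (mem_img hV).mp hu
      obtain ⟨v, hv', rfl⟩ := (mem_img hV).mp hv
      exact ap_comm b (hV hu') (hV hv') (hO.comm' u hu' v hv')
  have heq : ∀ b : MulAut E₂, img b V ≤ E₁ → img b V = V := by
    intro b hb
    obtain ⟨hc, he⟩ := elem_sup hO.comm' (hVimg b).2 (fun u hu v hv => (hO.comm u hu v (hb hv)).symm) hO.exp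
      (fun u hu => ((hVimg b).1 u hu).2)
    have hle : V ⊔ img b V = V := (Subgroup.eq_of_le_of_card_ge le_sup_left
      ((card_le_of_elementary hr _ hc he).trans hj.ge)).symm
    exact Subgroup.eq_of_le_of_card_ge (le_sup_right.trans hle.le) (card_img b hV).ge
  have hmeet : ∀ b : MulAut E₂, ¬ img b V ≤ E₁ → img b V ⊓ E₁ = Z ∧ Nat.card Z = p ^ 2 := by
    intro b hb
    have hc2 : Nat.card (img b V ⊓ E₁ : Subgroup P) = p ^ 2 := by
      have h1 := card_inf_index h.v₁.index hb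
      rw [card_img b hV, hj, pow_succ'] at h1
      exact (Nat.eq_of_mul_eq_mul_left hp'.pos h1).symm
    obtain ⟨y, hy, hy'⟩ := SetLike.not_le_iff_exists.mp hb
    have hleV : img b V ⊓ E₁ ≤ V := by
      obtain ⟨hc, he⟩ := elem_sup hO.comm' (B := img b V ⊓ E₁) (fun u hu v hv => (hVimg b).2 u hu.1 v hv.1)
        (fun u hu v hv => (hO.comm u hu v hv.2).symm) hO.exp (fun u hu => ((hVimg b).1 u hu.1).2)
      exact le_sup_right.trans (Subgroup.eq_of_le_of_card_ge (le_sup_left : V ≤ V ⊔ (img b V ⊓ E₁))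
        ((card_le_of_elementary hr _ hc he).trans hj.ge)).ge
    have hle : img b V ⊓ E₁ ≤ Z := fun u hu => hO.fixed u (hleV hu) y hy' ((hVimg b).2 y hy u hu.1)
    have hi2 : i ≤ 2 := by omega
    have hc := Subgroup.card_le_of_le hle
    rw [hc2] at hc
    have he := Subgroup.eq_of_le_of_card_ge hle (by
      rw [hc2, hi]; exact Nat.pow_le_pow_right hp'.pos hi2)
    exact ⟨he, by rw [← he]; exact hc2⟩
  obtain ⟨b₀, hb₀, hb₀'⟩ : ∃ b ∈ L₂, ¬ img b V ≤ E₁ := by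
    by_contra! hh
    refine hne (le_antisymm (orb_le fun a ha v hv => ?_) (le_orb _ _))
    exact (heq a (hh a ha)).le ((mem_img hV).mpr ⟨v, hv, rfl⟩)
  obtain ⟨-, hZc⟩ := hmeet b₀ hb₀'
  have hall : ∀ b : MulAut E₂, Z ≤ img b V := fun b => by
    by_cases hb : img b V ≤ E₁
    · rw [heq b hb]; exact hO.omle
    · rw [← (hmeet b hb).1]; exact inf_le_left
  have hZinv : Inv L₂ Z := by
    intro a ha z hz
    have hmem : ∀ b : MulAut E₂, ap a z ∈ img b V := fun b => by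
      obtain ⟨v, hv, hvz⟩ := (mem_img hV).mp (hall (a⁻¹ * b) hz)
      exact (mem_img hV).mpr ⟨v, hv, by rw [← hvz, ap_mul, ap_self_inv]⟩
    have hzV : ap a z ∈ V := by
      obtain ⟨v, hv, hvz⟩ := (mem_img hV).mp (hmem 1)
      rw [ap_one] at hvz
      exact hvz ▸ hv
    rw [← (hmeet b₀ hb₀').1]
    exact ⟨hmem b₀, hO.leE hzV⟩
  obtain ⟨g₀, -, hg₀⟩ := SetLike.not_le_iff_exists.mp h.symm.not_le₁
  have hH : ∀ v ∈ V, (v ∈ Z ↔ v⁻¹ * (g₀ * v * g₀⁻¹) ∈ (⊥ : Subgroup P)) := fun v hv => by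
    rw [Subgroup.mem_bot, inv_mul_eq_one, eq_comm, mul_inv_eq_iff_eq_mul]
    exact ⟨fun hz => Subgroup.mem_center_iff.mp hz.1 g₀, fun hg => hO.fixed v hv g₀ hg₀ hg⟩
  obtain ⟨a₁, ha₁, z, hz, hz'⟩ : ∃ a ∈ L₁, ∃ z ∈ Z, ap a z ∉ Z := by
    by_contra! hh
    exact hO.omlt.ne (le_antisymm hO.omle (by rw [hO.eq]; exact orb_le hh))
  obtain ⟨D, Pl, s, n, hS⟩ := exists_split_section hP h.v₁ hg₀ V ⊥ Z bot_le hO.leE hO.inv (inv_bot L₁)
    (fun u hu v hv => by rw [Subgroup.mem_bot, commutatorElement_eq_one_iff_mul_comm]; exact hO.comm' u hu v hv)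
    (fun u hu => by rw [Subgroup.mem_bot]; exact hO.exp u hu)
    (fun e he u hu => by rw [Subgroup.mem_bot, hO.comm u hu e he, mul_inv_cancel_right, inv_mul_cancel])
    hO.omle hH (by rw [hj, hZc]; ring) ⟨a₁, ha₁, z, hz, hz'⟩
  have hD := hfix hZinv D hS.DH hS.invD
  have hcD := hS.cardD
  rw [hD, Subgroup.card_bot, mul_one, hZc, pow_two] at hcD
  exact hp'.one_lt.ne' (Nat.eq_of_mul_eq_mul_left hp'.pos (hcD.trans (mul_one p).symm))

omit hp in
theorem Duo.omZ_ne_bot [Fact p.Prime] (h : Duo p E₁ E₂ L₁ L₂) (hP : IsPGroup p P) (hF : Free L₁ L₂) :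
    omZ p P ≠ ⊥ := fun e => by
  rcases h.not_inv_omZ hP hF with hh | hh
  · exact hh (by rw [e]; exact inv_bot L₁)
  · exact hh (by rw [e]; exact inv_bot L₂)

/-- In a free pair the orbit has order `p²`. -/
theorem orbit_card (hP : IsPGroup p P) (hr : SectionalPRankLE p 3 P)
    (h : Duo p E₁ E₂ L₁ L₂) (hF : Free L₁ L₂) (hO : Orbit p L₁ V) (hV : V ≤ E₂) :
    Nat.card V = p ^ 2 ∧ Nat.card (omZ p P) = p :=
  orbit_card_of_moved hP hr h (h.omZ_ne_bot hP hF) (h.orb_ne hF hO hV)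
    (fun hI D hD hD₁ => hF D ⟨hD.trans h.omZ_le, hD₁, fun a ha u hu => by
      rw [h.v₂.fix_of (h.omZ_le.trans inf_le_right) hI
        (fun g z hz => by rw [Subgroup.mem_center_iff.mp hz.1 g, mul_inv_cancel_right]) a ha u (hD hu)]
      exact hu⟩) hO hV

omit [Finite P] in
theorem eq_or_bot_of_prime {Z A : Subgroup P} (hZ : Nat.card Z = p) (hA : A ≤ Z) : A = ⊥ ∨ A = Z := by
  have : Finite Z := Nat.finite_of_card_ne_zero (hZ ▸ hp.out.ne_zero)
  have : Finite A := Finite.of_injective _ (Subgroup.inclusion_injective hA)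
  rcases (Nat.dvd_prime hp.out).mp (hZ ▸ Subgroup.card_dvd_of_le hA) with h1 | h1
  · exact Or.inl (Subgroup.card_eq_one.mp h1)
  · exact Or.inr (Subgroup.eq_of_le_of_card_ge hA (by rw [h1, hZ]))

/-- The second group fixes `Ω₁ Z(P)` when it moves the orbit. -/
theorem orbit_fixed_of_moved (hP : IsPGroup p P) (hr : SectionalPRankLE p 3 P)
    (h : Duo p E₁ E₂ L₁ L₂) (hZ : omZ p P ≠ ⊥) (hne : orb L₂ V ≠ V)
    (hfix : Inv L₂ (omZ p P) → ∀ D ≤ omZ p P, Inv L₁ D → D = ⊥) (hO : Orbit p L₁ V) (hV : V ≤ E₂) :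
    ∀ a ∈ L₂, ∀ z ∈ omZ p P, ap a z = z := by
  have hp' : p.Prime := hp.out
  obtain ⟨hVc, hZc⟩ := orbit_card_of_moved hP hr h hZ hne hfix hO hV
  set Z := omZ p P with hZdef
  have hZE : Z ≤ E₂ := h.omZ_le.trans inf_le_right
  suffices hinv : Inv L₂ Z by
    exact h.v₂.fix_of hZE hinv fun g z hz => by
      rw [Subgroup.mem_center_iff.mp hz.1 g, mul_inv_cancel_right]
  by_contra hinv
  obtain ⟨b, hb, z₀, hz₀, hbz⟩ : ∃ a ∈ L₂, ∃ z ∈ Z, ap a z ∉ Z := by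
    by_contra! hh
    exact hinv hh
  set Y := orb L₂ Z with hY
  have hYO : Y ≤ omC p E₂ := orb_le fun a ha z hz =>
    inv_omC L₂ a ha z ⟨hZE hz, fun y _ => Subgroup.mem_center_iff.mp hz.1 y, hz.2⟩
  have hYinv : Inv L₂ Y := inv_orb L₂ hZE
  have hYn : Y.Normal := h.v₂.normal_of_inv (orb_le_self hZE) hYinv
  have hVn : V.Normal := h.v₁.normal_of_inv hO.leE hO.inv
  have hZn : Z.Normal := ⟨fun z hz g => by rw [Subgroup.mem_center_iff.mp hz.1 g, mul_inv_cancel_right]; exact hz⟩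
  have hVZ : ∀ g : P, ∀ v ∈ V, v⁻¹ * (g * v * g⁻¹) ∈ Z := fun g v hv =>
    conj_mem_step hP hO.omle (by rw [hVc, hZc]; ring) g hv
  set U := img b V with hU
  set T := img b Z with hT
  have hTZ : T ⊓ Z = ⊥ := by
    rcases eq_or_bot_of_prime hZc (inf_le_right : T ⊓ Z ≤ Z) with hh | hh
    · exact hh
    · exfalso
      have : Z = T := Subgroup.eq_of_le_of_card_ge (inf_eq_right.mp hh) (card_img b hZE).le
      exact hbz (this.ge ((mem_img hZE).mpr ⟨z₀, hz₀, rfl⟩))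
  have hUE : U ≤ E₂ := img_le b V
  have hUT : ∀ u ∈ U, ∀ e ∈ E₂, u⁻¹ * (e * u * e⁻¹) ∈ T := by
    intro u hu e he
    obtain ⟨v, hv, rfl⟩ := (mem_img hV).mp hu
    have he' : ap b⁻¹ e ∈ E₂ := ap_mem _ he
    refine (mem_img hZE).mpr ⟨_, hVZ (ap b⁻¹ e) v hv, ?_⟩
    rw [ap_map_mul b (inv_mem (hV hv)) (mul_mem (mul_mem he' (hV hv)) (inv_mem he')),
      ap_map_mul b (mul_mem he' (hV hv)) (inv_mem he'), ap_map_mul b he' (hV hv), ap_map_inv b (hV hv),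
      ap_map_inv b he', ap_self_inv]
  have hUV : ∀ u ∈ U, ∀ v ∈ V, u * v = v * u := by
    intro u hu v hv
    have h1 : v⁻¹ * (u * v * u⁻¹) ∈ T := by
      have h2 := hUT u hu v⁻¹ (inv_mem (hV hv))
      rw [inv_inv] at h2
      have hTc : ∀ t ∈ T, u * t = t * u := fun t ht => by
        obtain ⟨z, hz, rfl⟩ := (mem_img hZE).mp ht
        have hu' : ap b⁻¹ u ∈ E₂ := ap_mem _ (hUE hu)
        have := ap_comm b hu' (hZE hz) (Subgroup.mem_center_iff.mp hz.1 _)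
        rwa [ap_self_inv] at this
      have e : v⁻¹ * (u * v * u⁻¹) = u * (u⁻¹ * (v⁻¹ * u * v)) * u⁻¹ := by group
      rw [e]
      rw [hTc _ h2, mul_inv_cancel_right]
      exact h2
    have h4 : v⁻¹ * (u * v * u⁻¹) = 1 := Subgroup.mem_bot.mp (hTZ.le ⟨h1, hVZ u v hv⟩)
    rw [inv_mul_eq_one, eq_mul_inv_iff_mul_eq] at h4
    exact h4.symm
  have hUexp : ∀ u ∈ U, u ^ p = 1 := fun u hu => by
    obtain ⟨v, hv, rfl⟩ := (mem_img hV).mp hu
    rw [← ap_map_pow b (hV hv), hO.exp v hv, ap_map_one]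
  have hUcomm : ∀ u ∈ U, ∀ w ∈ U, u * w = w * u := fun u hu w hw => by
    obtain ⟨u', hu', rfl⟩ := (mem_img hV).mp hu
    obtain ⟨w', hw', rfl⟩ := (mem_img hV).mp hw
    exact ap_comm b (hV hu') (hV hw') (hO.comm' u' hu' w' hw')
  obtain ⟨hc1, he1⟩ := elem_sup (p := p) (A := U) (B := Y) hUcomm (fun u hu w hw => (hYO hw).2.1 u (hYO hu).1)
    (fun u hu w hw => (hYO hw).2.1 u (hUE hu)) hUexp fun u hu => (hYO hu).2.2
  have hUYE : U ⊔ Y ≤ E₂ := sup_le hUE (orb_le_self hZE)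
  obtain ⟨hc2, he2⟩ := elem_sup (p := p) (A := U ⊔ Y) (B := V) hc1 hO.comm' (fun u hu v hv => by
      have hle : U ⊔ Y ≤ Subgroup.centralizer {v} := sup_le
        (fun w hw => Subgroup.mem_centralizer_singleton_iff.mpr (hUV w hw v hv))
        (fun w hw => Subgroup.mem_centralizer_singleton_iff.mpr ((hYO hw).2.1 v (hV hv)).symm)
      exact Subgroup.mem_centralizer_singleton_iff.mp (hle hu)) he1 hO.exp
  have hUnY : ¬ U ≤ Y := fun hle => hO.omlt.not_ge fun v hv => by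
    refine ⟨h.central_of_commute (fun u hu => hO.comm v hv u hu) (fun u hu => ?_), hO.exp v hv⟩
    have := congrArg (ap b⁻¹) ((hYO (hle ((mem_img hV).mpr ⟨v, hv, rfl⟩))).2.1 (ap b u) (ap_mem b hu))
    rwa [ap_map_mul _ (ap_mem b hu) (ap_mem b (hV hv)), ap_map_mul _ (ap_mem b (hV hv)) (ap_mem b hu), ap_inv_self,
      ap_inv_self] at this
  have hYc : p * p ≤ Nat.card Y := by
    have hlt : Z < Y := lt_of_le_of_ne (le_orb _ _) fun e => hinv (e ▸ hYinv)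
    have := mul_card_le_of_lt hP hlt
    rwa [hZc] at this
  have h3 : p ^ 3 ≤ Nat.card (U ⊔ Y : Subgroup P) := by
    refine le_trans ?_ (mul_card_le_of_lt hP (lt_of_le_of_ne le_sup_right fun e => hUnY (e ▸ le_sup_left)))
    calc p ^ 3 = p * (p * p) := by ring
      _ ≤ _ := Nat.mul_le_mul_left p hYc
  have hVle : V ≤ U ⊔ Y := by
    exact le_sup_right.trans (Subgroup.eq_of_le_of_card_ge (le_sup_left : U ⊔ Y ≤ U ⊔ Y ⊔ V)
      ((card_le_of_elementary hr _ hc2 he2).trans h3)).ge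
  refine hO.omlt.not_ge fun v hv =>
    ⟨h.central_of_commute (fun u hu => hO.comm v hv u hu) (fun e he => ?_), hO.exp v hv⟩
  obtain ⟨u, hu, w, hw, huw⟩ := Subgroup.mem_sup_of_normal_right.mp (hVle hv)
  have e1 : v⁻¹ * (e * v * e⁻¹) = u⁻¹ * (e * u * e⁻¹) := by
    rw [← huw]
    have c1 : Commute e w := (hYO hw).2.1 e he
    have c2 : Commute (u⁻¹ * (e * u * e⁻¹)) w :=
      (hYO hw).2.1 _ (mul_mem (inv_mem (hUE hu)) (mul_mem (mul_mem he (hUE hu)) (inv_mem he)))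
    calc (u * w)⁻¹ * (e * (u * w) * e⁻¹) = w⁻¹ * u⁻¹ * e * u * (w * e⁻¹) := by group
      _ = w⁻¹ * u⁻¹ * e * u * (e⁻¹ * w) := by rw [c1.inv_left.eq]
      _ = w⁻¹ * ((u⁻¹ * (e * u * e⁻¹)) * w) := by group
      _ = _ := by rw [c2.eq, inv_mul_cancel_left]
  have e2 : v⁻¹ * (e * v * e⁻¹) = 1 := Subgroup.mem_bot.mp (hTZ.le ⟨e1 ▸ hUT u hu e he, hVZ e v hv⟩)
  rw [inv_mul_eq_one, eq_mul_inv_iff_mul_eq] at e2
  exact e2.symm

/-- In a free pair the second group fixes `Ω₁ Z(P)`. -/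
theorem orbit_fixed (hP : IsPGroup p P) (hr : SectionalPRankLE p 3 P)
    (h : Duo p E₁ E₂ L₁ L₂) (hF : Free L₁ L₂) (hO : Orbit p L₁ V) (hV : V ≤ E₂) :
    ∀ a ∈ L₂, ∀ z ∈ omZ p P, ap a z = z :=
  orbit_fixed_of_moved hP hr h (h.omZ_ne_bot hP hF) (h.orb_ne hF hO hV)
    (fun hI D hD hD₁ => hF D ⟨hD.trans h.omZ_le, hD₁, fun a ha u hu => by
      rw [h.v₂.fix_of (h.omZ_le.trans inf_le_right) hI
        (fun g z hz => by rw [Subgroup.mem_center_iff.mp hz.1 g, mul_inv_cancel_right]) a ha u (hD hu)]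
      exact hu⟩) hO hV

end CfsgLib.RankThreePair
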