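import Cfsg.Agent.Lib.Fusion.RankThreePair.OrbitCentre

/-!
A free pair in which the orbit of `Ω₁ Z(P)` stays in both vertices: the common part of the three cases.
-/

set_option autoImplicit false
set_option maxHeartbeats 800000

namespace CfsgLib.RankThreePair

open Cfsg
open scoped commutatorElement

variable {P : Type*} [Group P] {p : ℕ} [hp : Fact p.Prime]

omit hp in
theorem comm_mul_right {a b c : P} (h : Commute b ⁅a, c⁆) : ⁅a, b * c⁆ = ⁅a, b⁆ * ⁅a, c⁆ := by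
  have e : ⁅a, b * c⁆ = ⁅a, b⁆ * (b * ⁅a, c⁆ * b⁻¹) := by
    simp only [commutatorElement_def]; group
  rw [e, h.eq, mul_inv_cancel_right]

/-- Commutation with `β` as a homomorphism, when the commutators commute with the subgroup. -/
def commHom (β : P) (X : Subgroup P) (h : ∀ g ∈ X, ∀ k ∈ X, Commute g ⁅β, k⁆) : X →* P where
  toFun g := ⁅β, (g : P)⁆
  map_one' := commutatorElement_one_right β
  map_mul' g k := comm_mul_right (h g g.2 k k.2)

omit hp in
theorem comm_zpow_right {a b : P} (h : Commute b ⁅a, b⁆) (i : ℤ) : ⁅a, b ^ i⁆ = ⁅a, b⁆ ^ i := by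
  have hX : ∀ g ∈ Subgroup.zpowers b, ∀ k ∈ Subgroup.zpowers b, Commute g ⁅a, k⁆ := by
    rintro _ ⟨m, rfl⟩ _ ⟨n, rfl⟩
    have : Commute b ⁅a, b ^ n⁆ := by
      induction n using Int.induction_on with
      | zero => simp
      | succ n ih =>
        rw [zpow_add_one]
        rw [comm_mul_right ((h.zpow_left _))]
        exact ih.mul_right h
      | pred n ih =>
        have e : ⁅a, b ^ (-(n : ℤ) - 1) * b⁆ = ⁅a, b ^ (-(n : ℤ) - 1)⁆ * ⁅a, b⁆ := comm_mul_right (h.zpow_left _)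
        rw [zpow_sub_one, inv_mul_cancel_right, ← zpow_sub_one] at e
        rw [show ⁅a, b ^ (-(n : ℤ) - 1)⁆ = ⁅a, b ^ (-(n : ℤ))⁆ * ⁅a, b⁆⁻¹ by rw [e, mul_inv_cancel_right]]
        exact ih.mul_right h.inv_right
    exact this.zpow_left m
  exact map_zpow (commHom a (Subgroup.zpowers b) hX) ⟨b, Subgroup.mem_zpowers b⟩ i

theorem exists_zpow_eq {Z : Subgroup P} (hZ : Nat.card Z = p) {t u : P} (ht : t ∈ Z) (ht1 : t ≠ 1) (hu : u ∈ Z) :
    ∃ k : ℤ, t ^ k = u := by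
  obtain ⟨k, hk⟩ := mem_zpowers_of_prime_card (G := Z) (p := p) hZ (g := ⟨t, ht⟩) (g' := ⟨u, hu⟩)
    fun e => ht1 (congrArg Subtype.val e)
  exact ⟨k, congrArg Subtype.val hk⟩

/-- The centraliser of `β` in `X` has index `p` when the commutators fill a group of order `p`. -/
theorem card_centralizer_inf [Finite P] {β : P} {X Z : Subgroup P} (hZ : Nat.card Z = p)
    (hc : ∀ g ∈ X, ∀ k ∈ X, Commute g ⁅β, k⁆) (hmem : ∀ g ∈ X, ⁅β, g⁆ ∈ Z) (hne : ∃ g ∈ X, ⁅β, g⁆ ≠ 1) :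
    Nat.card X = p * Nat.card (X ⊓ Subgroup.centralizer {β} : Subgroup P) := by
  let f : X →* Z := (commHom β X hc).codRestrict Z fun g => hmem g g.2
  have hk : Nat.card f.ker = Nat.card (X ⊓ Subgroup.centralizer {β} : Subgroup P) := by
    refine Nat.card_congr
      { toFun := fun g => ⟨(g.1 : P), g.1.2, Subgroup.mem_centralizer_singleton_iff.mpr
          (commutatorElement_eq_one_iff_mul_comm.mp (congrArg Subtype.val g.2)).symm⟩
        invFun := fun g => ⟨⟨g.1, g.2.1⟩, Subtype.ext (commutatorElement_eq_one_iff_mul_comm.mpr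
          (Subgroup.mem_centralizer_singleton_iff.mp g.2.2).symm)⟩
        left_inv := fun _ => rfl
        right_inv := fun _ => rfl }
  have hr : f.range = ⊤ := by
    have : Fact (Nat.card Z).Prime := ⟨hZ ▸ hp.out⟩
    refine f.range.eq_bot_or_eq_top_of_prime_card.resolve_left fun e => ?_
    obtain ⟨g, hg, hg1⟩ := hne
    exact hg1 (congrArg Subtype.val (Subgroup.mem_bot.mp (e.le ⟨⟨g, hg⟩, rfl⟩)))
  rw [← Subgroup.card_mul_index f.ker, Subgroup.index_ker, hr, Subgroup.card_top, hZ, hk, mul_comm]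

/-- Elements moving `W` trivially modulo `Z`. -/
def fixer (W Z : Subgroup P) [hW : W.Normal] : Submonoid P where
  carrier := {g | ∀ w ∈ W, w⁻¹ * (g * w * g⁻¹) ∈ Z}
  one_mem' := fun w _ => by simp
  mul_mem' := fun {g k} hg hk w hw => by
    have := mul_mem (hk w hw) (hg _ (hW.conj_mem w hw k))
    convert this using 1
    simp [mul_assoc]

variable [Finite P] {E₁ E₂ : Subgroup P} [E₁.Normal] [E₂.Normal]
  {L₁ : Subgroup (MulAut E₁)} {L₂ : Subgroup (MulAut E₂)} {V : Subgroup P}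

/-- The standing facts when `V` is in both vertices. -/
structure Inner (p : ℕ) (h : Pair p E₁ E₂ L₁ L₂) (V : Subgroup P) : Prop where
  free : Free L₁ L₂
  orbit : Orbit p L₁ V
  le : V ≤ E₂
  cardV : Nat.card V = p ^ 2
  cardZ : Nat.card (omZ p P) = p
  fixZ : ∀ a ∈ L₂, ∀ z ∈ omZ p P, ap a z = z
  wz : ∀ w ∈ orb L₂ V, ∀ e ∈ E₂, ⁅w, e⁆ ∈ omZ p P
  wexp : ∀ w ∈ orb L₂ V, w ^ p = 1
  wne : orb L₂ V ≠ V
  wcard : Nat.card (orb L₂ V) ≤ p ^ 4

theorem inner_of_le (hP : IsPGroup p P) (hodd : Odd p) (hr : SectionalPRankLE p 3 P)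
    (h : Pair p E₁ E₂ L₁ L₂) (hF : Free L₁ L₂) (hO : Orbit p L₁ V) (hV : V ≤ E₂) : Inner p h V := by
  obtain ⟨hVc, hZc⟩ := orbit_card hP hr h.toDuo hF hO hV
  have hfix := orbit_fixed hP hr h.toDuo hF hO hV
  set Z := omZ p P with hZdef
  have hZn : Z.Normal := ⟨fun z hz g => by rw [Subgroup.mem_center_iff.mp hz.1 g, mul_inv_cancel_right]; exact hz⟩
  have hVn : V.Normal := h.v₁.normal_of_inv hO.leE hO.inv
  let π := QuotientGroup.mk' Z
  have hwz : ∀ w ∈ orb L₂ V, ∀ e ∈ E₂, ⁅w, e⁆ ∈ Z := by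
    intro w hw e he
    have hle : orb L₂ V ≤ (Subgroup.centralizer ((E₂.map π : Subgroup (P ⧸ Z)) : Set (P ⧸ Z))).comap π := by
      refine orb_le fun a ha v hv => Subgroup.mem_centralizer_iff.mpr ?_
      rintro _ ⟨k, hk, rfl⟩
      refine (commutatorElement_eq_one_iff_mul_comm.mp ?_)
      rw [← map_commutatorElement]
      refine (QuotientGroup.eq_one_iff _).mpr ?_
      have hk' : ap a⁻¹ k ∈ E₂ := ap_mem _ hk
      have hz : ⁅ap a⁻¹ k, v⁆ ∈ Z := by
        have h1 := conj_mem_step hP hO.omle (by rw [hVc, hZc]; ring) (ap a⁻¹ k) (inv_mem hv)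
        have h2 := hZn.conj_mem _ h1 (v⁻¹)
        have h3 := hZn.conj_mem _ h1 1
        rw [commutatorElement_def]
        have e1 : ap a⁻¹ k * v * (ap a⁻¹ k)⁻¹ * v⁻¹ = (v⁻¹⁻¹ * (ap a⁻¹ k * v⁻¹ * (ap a⁻¹ k)⁻¹))⁻¹ := by group
        rw [e1]
        exact inv_mem h1
      have e2 : ap a ⁅ap a⁻¹ k, v⁆ = ⁅k, ap a v⁆ := by
        simp only [commutatorElement_def]
        rw [ap_map_mul a (mul_mem (mul_mem hk' (hV hv)) (inv_mem hk')) (inv_mem (hV hv)),
          ap_map_mul a (mul_mem hk' (hV hv)) (inv_mem hk'), ap_map_mul a hk' (hV hv), ap_map_inv a hk',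
          ap_map_inv a (hV hv), ap_self_inv]
      rw [← e2, hfix a ha _ hz]
      exact hz
    have h1 := Subgroup.mem_centralizer_iff.mp (hle hw) (π e) (Subgroup.mem_map_of_mem π he)
    refine (QuotientGroup.eq_one_iff _).mp ?_
    show π ⁅w, e⁆ = 1
    rw [map_commutatorElement, commutatorElement_eq_one_iff_mul_comm]
    exact h1.symm
  have hwexp : ∀ w ∈ orb L₂ V, w ^ p = 1 := by
    refine exp_of_class_two hodd (S := {y | ∃ a ∈ L₂, ∃ v ∈ V, ap a v = y}) le_rfl Subgroup.subset_closure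
      (fun u hu v hv w hw => Subgroup.mem_center_iff.mp (hwz u hu v (orb_le_self hV hv)).1 w) ?_
    rintro _ ⟨a, ha, v, hv, rfl⟩
    rw [← ap_map_pow a (hV hv), hO.exp v hv, ap_map_one]
  refine ⟨hF, hO, hV, hVc, hZc, hfix, hwz, hwexp, h.orb_ne hF hO hV, ?_⟩
  refine (card_section_le hr (orb L₂ V) Z (hO.omle.trans (le_orb _ _)) (fun w _ k hk => hZn.conj_mem k hk w)
    (fun u hu v hv => hwz u hu v (orb_le_self hV hv)) (fun u hu => by rw [hwexp u hu]; exact one_mem _)).trans ?_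
  rw [hZc]; exact (pow_succ p 3).ge

variable {h : Pair p E₁ E₂ L₁ L₂}

namespace Inner

variable (hI : Inner p h V)
include hI

omit hp in
theorem normalW : (orb L₂ V).Normal := h.v₂.normal_of_inv (orb_le_self hI.le) (inv_orb L₂ hI.le)

omit hp in
theorem normalV : V.Normal := h.v₁.normal_of_inv hI.orbit.leE hI.orbit.inv

omit hp in
theorem normalZ : (omZ p P).Normal :=
  ⟨fun z hz g => by rw [Subgroup.mem_center_iff.mp hz.1 g, mul_inv_cancel_right]; exact hz⟩

omit hp in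
theorem commW : ∀ w ∈ orb L₂ V, ∀ e ∈ E₂, ∀ g : P, Commute g ⁅w, e⁆ := fun w hw e he g =>
  Subgroup.mem_center_iff.mp (hI.wz w hw e he).1 g

theorem exists_a : ∃ a ∈ V, a ∉ omZ p P ∧ omZ p P ⊔ Subgroup.zpowers a = V := by
  obtain ⟨a, ha, ha'⟩ := SetLike.exists_of_lt hI.orbit.omlt
  exact ⟨a, ha, ha', sup_zpowers_eq hI.orbit.omle (by rw [hI.cardV, hI.cardZ]; ring) ha ha'⟩

/-- `c` does not centralise `W` modulo `Z`. -/
theorem not_fix {x : P} (hx : x ∉ E₂) (hfix : ∀ w ∈ orb L₂ V, w⁻¹ * (x * w * x⁻¹) ∈ omZ p P) : False := by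
  have hWn := hI.normalW
  have hZn := hI.normalZ
  have hZW : omZ p P ≤ orb L₂ V := hI.orbit.omle.trans (le_orb _ _)
  have htriv : ∀ g : P, ∀ w ∈ orb L₂ V, w⁻¹ * (g * w * g⁻¹) ∈ omZ p P := by
    intro g
    obtain ⟨i, e, he, rfl⟩ := exists_pow_mul h.v₂.index hx g
    have hxf : x ∈ fixer (orb L₂ V) (omZ p P) := hfix
    have hef : e ∈ fixer (orb L₂ V) (omZ p P) := fun w hw => by
      have := hI.wz w⁻¹ (inv_mem hw) e he
      rwa [commutatorElement_def, inv_inv, mul_assoc, mul_assoc, ← mul_assoc e] at this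
    exact mul_mem (pow_mem hxf i) hef
  have ht := h.v₂.trivial_of hZW (orb_le_self hI.le) (inv_orb L₂ hI.le) (fun a ha z hz => by
    rw [hI.fixZ a ha z hz]; exact hz) htriv
  refine hI.wne (le_antisymm (orb_le fun a ha v hv => ?_) (le_orb _ _))
  have := mul_mem hv (hI.orbit.omle (ht a ha v (le_orb _ _ hv)))
  rwa [mul_inv_cancel_left] at this

omit hp in
theorem exists_x [Fact p.Prime] : ∃ x ∈ E₁, x ∉ E₂ := SetLike.not_le_iff_exists.mp h.not_le₁

end Inner

end CfsgLib.RankThreePair
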