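import Cfsg.Agent.Lib.Fusion.RankThreePair.Setting

/-!
A free pair in which the orbit of `Ω₁ Z(P)` leaves the other vertex: the two possible shapes.
-/

set_option autoImplicit false
set_option maxHeartbeats 1600000

namespace CfsgLib.RankThreePair

open Cfsg
open scoped commutatorElement

variable {P : Type*} [Group P] [Finite P] {p : ℕ} [hp : Fact p.Prime] {E₁ E₂ : Subgroup P} [E₁.Normal] [E₂.Normal]
  {L₁ : Subgroup (MulAut E₁)} {L₂ : Subgroup (MulAut E₂)} {V : Subgroup P}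

/-- If the orbit of `Ω₁ Z(P)` is not in `E₂`, then `P` has order `p³` or `p⁴` and known shape. -/
theorem outcome_of_not_le (hP : IsPGroup p P) (hodd : Odd p) (hr : SectionalPRankLE p 3 P)
    (h : Pair p E₁ E₂ L₁ L₂) (hF : Free L₁ L₂) (hO : Orbit p L₁ V) (hV : ¬ V ≤ E₂) :
    DataA p E₁ E₂ ∨ ∃ x y a d, DataB p (E₂ := E₂) L₁ x y a d := by
  have hp' : p.Prime := hp.out
  obtain ⟨x, hxV, hx2⟩ := SetLike.not_le_iff_exists.mp hV
  have hxE : x ∈ E₁ := hO.leE hxV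
  set D₀ := E₁ ⊓ E₂ with hD₀def
  have hD₀1 : D₀ ≤ E₁ := inf_le_left
  have hD₀2 : D₀ ≤ E₂ := inf_le_right
  have hxfix : ∀ q ∈ D₀, x * q * x⁻¹ = q := fun q hq => by
    rw [← hO.comm x hxV q (hD₀1 hq), mul_inv_cancel_right]
  -- `D₀` is moved
  have hD₀inv : ¬ Inv L₂ D₀ := fun hI => h.v₂.false_of_inner_on hP hD₀2 hI (fun g q _ => h.quot_mem g q)
    fun g => by
      obtain ⟨i, e, he, rfl⟩ := exists_pow_mul h.v₂.index hx2 g
      refine ⟨e, he, fun q hq => ?_⟩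
      have hq' : e * q * e⁻¹ ∈ D₀ := (inferInstance : D₀.Normal).conj_mem q hq e
      have hc : Commute x (e * q * e⁻¹) := mul_inv_eq_iff_eq_mul.mp (hxfix _ hq')
      calc x ^ i * e * q * (x ^ i * e)⁻¹ = x ^ i * (e * q * e⁻¹) * (x ^ i)⁻¹ := by group
        _ = _ := by rw [(hc.pow_left i).eq, mul_inv_cancel_right]
  have hirr : ¬ Inv L₁ D₀ := fun hI => hV (by
    rw [hO.eq]
    exact (orb_le fun a ha q hq => hI a ha q (h.omZ_le hq)).trans hD₀2)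
  -- the splitting on the Frattini quotient
  set Φ := (frattini E₂).map E₂.subtype with hΦdef
  have hΦE : Φ ≤ E₂ := Subgroup.map_subtype_le _
  have hPE₂ : IsPGroup p E₂ := hP.to_subgroup E₂
  have hΦinv : Inv L₂ Φ := by
    rintro a - _ ⟨q, hq, rfl⟩
    exact ⟨a q, ((inferInstance : (frattini E₂).Characteristic).fixed a).ge hq, (ap_coe a q).symm⟩
  have hΦcomm : ∀ u ∈ E₂, ∀ v ∈ E₂, ⁅u, v⁆ ∈ Φ := fun u hu v hv =>
    ⟨⁅⟨u, hu⟩, ⟨v, hv⟩⁆, CfsgLib.PGroup.commutator_le_frattini hPE₂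
      (Subgroup.commutator_mem_commutator (Subgroup.mem_top _) (Subgroup.mem_top _)), rfl⟩
  have hΦpow : ∀ u ∈ E₂, u ^ p ∈ Φ := fun u hu =>
    ⟨⟨u, hu⟩ ^ p, CfsgLib.PGroup.pow_mem_frattini hPE₂ _, rfl⟩
  have hΦD : Φ ≤ D₀ := by
    refine Subgroup.map_le_iff_le_comap.mpr (CfsgLib.PGroup.frattini_le_of (p := p) _ ?_ fun u => ?_)
    · rw [commutator_def, Subgroup.commutator_le]
      rintro u - v -
      exact ⟨h.v₁.commutator_mem (u : P) v, (⁅u, v⁆ : E₂).2⟩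
    · exact ⟨h.v₁.conj_pow_mem (u : P), (u ^ p : E₂).2⟩
  have hΦfix : ∀ e ∈ E₂, ∀ u ∈ E₂, u⁻¹ * (e * u * e⁻¹) ∈ Φ := fun e he u hu => by
    have := hΦcomm u⁻¹ (inv_mem hu) e he
    rwa [commutatorElement_def, inv_inv, mul_assoc, mul_assoc, ← mul_assoc e] at this
  have hH : ∀ u ∈ E₂, (u ∈ D₀ ↔ u⁻¹ * (x * u * x⁻¹) ∈ Φ) := by
    intro u hu
    refine ⟨fun hq => by rw [hxfix u hq, inv_mul_cancel]; exact one_mem _, fun hu' => ?_⟩
    by_contra hq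
    refine h.v₂.false_of_frattini hP fun g v hv => ?_
    have hfix : ∀ w ∈ E₂, w⁻¹ * (x * w * x⁻¹) ∈ Φ := by
      have hΦn : Φ.Normal := h.v₂.normal_of_inv hΦE hΦinv
      let π := QuotientGroup.mk' Φ
      let T : Subgroup P :=
        { carrier := {w | π (x * w * x⁻¹) = π w}
          one_mem' := by simp
          mul_mem' := fun {a b} ha hb => by
            show π (x * (a * b) * x⁻¹) = π (a * b)
            rw [show x * (a * b) * x⁻¹ = x * a * x⁻¹ * (x * b * x⁻¹) by group, map_mul, ha, hb, map_mul]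
          inv_mem' := fun {a} ha => by
            show π (x * a⁻¹ * x⁻¹) = π a⁻¹
            rw [show x * a⁻¹ * x⁻¹ = (x * a * x⁻¹)⁻¹ by group, map_inv, ha, map_inv] }
      have hT : ∀ w, w ∈ T ↔ w⁻¹ * (x * w * x⁻¹) ∈ Φ := fun w =>
        eq_comm.trans ((inv_mul_eq_one (a := π w) (b := π (x * w * x⁻¹))).symm.trans (by
          rw [← map_inv, ← map_mul]; exact QuotientGroup.eq_one_iff _))
      have hD₀T : D₀ ≤ T := fun w hw => (hT w).mpr (by rw [hxfix w hw, inv_mul_cancel]; exact one_mem _)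
      have hE₂T : E₂ ≤ T := by
        rw [← sup_zpowers_eq hD₀2 h.card₂ hu hq]
        exact sup_le hD₀T (Subgroup.zpowers_le.mpr ((hT u).mpr hu'))
      exact fun w hw => (hT w).mp (hE₂T hw)
    obtain ⟨i, e, he, rfl⟩ := exists_pow_mul h.v₂.index hx2 g
    clear hu hu' hq u
    have hΦn : Φ.Normal := h.v₂.normal_of_inv hΦE hΦinv
    induction i generalizing v with
    | zero => rw [pow_zero, one_mul]; exact hΦfix e he v hv
    | succ i ih =>
      have hw : x ^ i * e * v * (x ^ i * e)⁻¹ ∈ E₂ := (inferInstance : E₂.Normal).conj_mem v hv _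
      have := mul_mem (ih v hv) (hfix _ hw)
      convert this using 1
      simp only [pow_succ', mul_inv_rev, mul_assoc, mul_inv_cancel_left]
  obtain ⟨a₁, ha₁, q₁, hq₁, hq₁'⟩ : ∃ a ∈ L₂, ∃ q ∈ D₀, ap a q ∉ D₀ := by
    by_contra! hh
    exact hD₀inv hh
  obtain ⟨D, Pl, s, n, hS⟩ := exists_split_section hP h.v₂ hx2 E₂ Φ D₀ hΦE le_rfl (inv_self L₂) hΦinv
    hΦcomm hΦpow hΦfix hD₀2 hH h.card₂ ⟨a₁, ha₁, q₁, hq₁, hq₁'⟩
  have hDn : D.Normal := h.v₂.normal_of_inv (hS.DH.trans hD₀2) hS.invD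
  have hΦn : Φ.Normal := h.v₂.normal_of_inv hΦE hΦinv
  -- the elements `a'` and `a''`
  obtain ⟨b₀, hb₀, hb₀'⟩ := SetLike.exists_of_lt (lt_of_le_of_ne hD₀2 fun e => h.symm.not_le₁ (e.ge.trans hD₀1))
  set a' := b₀⁻¹ * (x * b₀ * x⁻¹) with ha'def
  have hVn : V.Normal := h.v₁.normal_of_inv hO.leE hO.inv
  have ha'V : a' ∈ V := by
    rw [ha'def, show b₀⁻¹ * (x * b₀ * x⁻¹) = b₀⁻¹ * x * b₀⁻¹⁻¹ * x⁻¹ by group]
    exact mul_mem (hVn.conj_mem x hxV _) (inv_mem hxV)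
  have ha'2 : a' ∈ E₂ := mul_mem (inv_mem hb₀) ((inferInstance : E₂.Normal).conj_mem b₀ hb₀ x)
  have ha'D₀ : a' ∈ D₀ := ⟨hO.leE ha'V, ha'2⟩
  have ha'Φ : a' ∉ Φ := fun hh => hb₀' ((hH b₀ hb₀).mpr hh)
  have hsup : ∀ {u : P}, u ∈ Φ ⊔ Subgroup.zpowers s → ∃ f ∈ Φ, ∃ i : ℤ, u = f * s ^ i := fun {u} hu => by
    obtain ⟨f, hf, _, ⟨i, rfl⟩, hfs⟩ := Subgroup.mem_sup_of_normal_left.mp hu
    exact ⟨f, hf, i, hfs.symm⟩
  obtain ⟨f, hf, i, ha's⟩ : ∃ f ∈ Φ, ∃ i : ℤ, a' = f * s ^ i := hsup (hS.centre b₀ hb₀)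
  have hsE : s ∈ E₂ := hD₀2 hS.sH
  have hi : ¬ (p : ℤ) ∣ i := by
    rintro ⟨j, rfl⟩
    refine ha'Φ ?_
    rw [ha's, zpow_mul, zpow_natCast]
    exact mul_mem hf (zpow_mem (hΦpow s hsE) j)
  have hsD₀ : ∀ {A : Subgroup P}, Φ ≤ A → a' ∈ A → s ∈ A := fun {A} hΦA hA => by
    refine mem_of_zpow_mem hi (hΦA (hΦpow s hsE)) ?_
    rw [show s ^ i = f⁻¹ * a' by rw [ha's, inv_mul_cancel_left]]
    exact mul_mem (inv_mem (hΦA hf)) hA
  have ha'D : a' ∉ D := fun hh => hS.sD (hsD₀ hS.KD hh)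
  obtain ⟨a₀, ha₀, has⟩ := hS.moveS
  set a'' := ap a₀ a' with ha''def
  have ha''2 : a'' ∈ E₂ := ap_mem a₀ ha'2
  have hDcomm' : ∀ u ∈ D, a' * u = u * a' := fun u hu => (hO.comm a' ha'V u (hD₀1 (hS.DH hu))).symm
  have hDcomm'' : ∀ u ∈ D, a'' * u = u * a'' := fun u hu => by
    have hu' : ap a₀⁻¹ u ∈ D := hS.invD _ (inv_mem ha₀) u hu
    have := congrArg (ap a₀) (hDcomm' _ hu')
    rwa [ap_map_mul a₀ ha'2 (hD₀2 (hS.DH hu')), ap_map_mul a₀ (hD₀2 (hS.DH hu')) ha'2, ap_self_inv] at this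
  have ha''D : a'' ∉ D₀ := fun hh => by
    refine has ?_
    have hpow : ap a₀ s ^ p ∈ D₀ := hΦD (hΦpow _ (ap_mem a₀ hsE))
    refine mem_of_zpow_mem hi hpow ?_
    have hf' : ap a₀ f ∈ Φ := hΦinv a₀ ha₀ f hf
    have e1 : a'' = ap a₀ f * ap a₀ s ^ i := by
      rw [ha''def, ha's, ap_map_mul a₀ (hΦE hf) (zpow_mem hsE i), ap_map_zpow a₀ hsE]
    rw [show ap a₀ s ^ i = (ap a₀ f)⁻¹ * a'' by rw [e1, inv_mul_cancel_left]]
    exact mul_mem (inv_mem (hΦD hf')) hh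
  have ha''1 : a'' ∉ E₁ := fun hh => ha''D ⟨hh, ha''2⟩
  have hgen₀ : D ⊔ Subgroup.zpowers a' = D₀ := sup_zpowers_eq hS.DH hS.cardD ha'D₀ ha'D
  have hgen₂ : D₀ ⊔ Subgroup.zpowers a'' = E₂ := sup_zpowers_eq hD₀2 h.card₂ ha''2 ha''D
  have hgen₁ : D₀ ⊔ Subgroup.zpowers x = E₁ := sup_zpowers_eq hD₀1 h.card₁ hxE fun hh => hx2 hh.2
  -- `E₁` is elementary
  have hDV : E₁ = D ⊔ V := by
    refine le_antisymm ?_ (sup_le (hS.DH.trans hD₀1) hO.leE)
    rw [← hgen₁, ← hgen₀]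
    exact sup_le (sup_le le_sup_left (Subgroup.zpowers_le.mpr (Subgroup.mem_sup_right ha'V)))
      (Subgroup.zpowers_le.mpr (Subgroup.mem_sup_right hxV))
  have hdec : ∀ u ∈ E₁, ∃ q ∈ D, ∃ v ∈ V, u = q * v := fun u hu => by
    rw [hDV] at hu
    obtain ⟨q, hq, v, hv, hqv⟩ := Subgroup.mem_sup_of_normal_left.mp hu
    exact ⟨q, hq, v, hv, hqv.symm⟩
  have hDE : D ≤ E₁ := hS.DH.trans hD₀1
  have hcommEq : ⁅E₁, E₁⁆ = ⁅D, D⁆ := by
    refine le_antisymm ((Subgroup.commutator_le).mpr fun u hu w hw => ?_) (Subgroup.commutator_mono hDE hDE)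
    obtain ⟨q, hq, v, hv, rfl⟩ := hdec u hu
    obtain ⟨q', hq', v', hv', rfl⟩ := hdec w hw
    have c1 : Commute v (q' * v') := (hO.comm v hv _ hw).symm
    have c2 : Commute v' q := (hO.comm v' hv' q (hDE hq)).symm
    have e : ⁅q * v, q' * v'⁆ = ⁅q, q'⁆ := by
      rw [commutatorElement_def, commutatorElement_def]
      calc q * v * (q' * v') * (q * v)⁻¹ * (q' * v')⁻¹
          = q * (v * (q' * v')) * v⁻¹ * q⁻¹ * v'⁻¹ * q'⁻¹ := by group
        _ = q * q' * (v' * q⁻¹) * v'⁻¹ * q'⁻¹ := by rw [c1.eq]; group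
        _ = _ := by rw [c2.inv_right.eq]; group
    rw [e]
    exact Subgroup.commutator_mem_commutator hq hq'
  have hDab : ⁅D, D⁆ = ⊥ := hF _ ⟨(Subgroup.commutator_le).mpr fun u hu v hv => by
      rw [commutatorElement_def]
      exact hS.DH (mul_mem (mul_mem (mul_mem hu hv) (inv_mem hu)) (inv_mem hv)),
    hcommEq ▸ (inv_self L₁).commutator (inv_self L₁) le_rfl le_rfl,
    hS.invD.commutator hS.invD (hS.DH.trans hD₀2) (hS.DH.trans hD₀2)⟩
  have hcomm₁ : ∀ u ∈ E₁, ∀ v ∈ E₁, u * v = v * u := fun u hu v hv => by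
    have hmem := Subgroup.commutator_mem_commutator (H₁ := E₁) (H₂ := E₁) hu hv
    rwa [hcommEq, hDab, Subgroup.mem_bot, commutatorElement_eq_one_iff_mul_comm] at hmem
  have hDcen : D ≤ Subgroup.center P := fun q hq => by
    refine h.central_of_commute (fun u hu => hcomm₁ u hu q (hDE hq)) fun u hu => ?_
    rw [← hgen₂] at hu
    have hle : D₀ ⊔ Subgroup.zpowers a'' ≤ Subgroup.centralizer {q} := by
      refine sup_le (fun w hw => ?_) (Subgroup.zpowers_le.mpr ?_)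
      · rw [Subgroup.mem_centralizer_singleton_iff]; exact hcomm₁ w (hD₀1 hw) q (hDE hq)
      · rw [Subgroup.mem_centralizer_singleton_iff]; exact hDcomm'' q hq
    exact Subgroup.mem_centralizer_singleton_iff.mp (hle hu)
  let Dp : Subgroup P :=
    { carrier := {u | ∃ q ∈ D, q ^ p = u}
      one_mem' := ⟨1, one_mem _, one_pow p⟩
      mul_mem' := fun {a b} ⟨q, hq, ha⟩ ⟨r, hr', hb⟩ => ⟨q * r, mul_mem hq hr', by
        rw [(show Commute q r from hcomm₁ q (hDE hq) r (hDE hr')).mul_pow, ha, hb]⟩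
      inv_mem' := fun {a} ⟨q, hq, ha⟩ => ⟨q⁻¹, inv_mem hq, by rw [inv_pow, ha]⟩ }
  have hpowD : ∀ u ∈ E₁, u ^ p ∈ Dp := fun u hu => by
    obtain ⟨q, hq, v, hv, rfl⟩ := hdec u hu
    exact ⟨q, hq, by rw [(show Commute q v from hO.comm v hv q (hDE hq)).mul_pow, hO.exp v hv, mul_one]⟩
  have hDp : Dp = ⊥ := by
    refine hF _ ⟨?_, ?_, ?_⟩
    · rintro _ ⟨q, hq, rfl⟩; exact hS.DH (pow_mem hq p)
    · rintro a ha _ ⟨q, hq, rfl⟩
      rw [ap_map_pow a (hDE hq)]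
      exact hpowD _ (ap_mem a (hDE hq))
    · rintro a ha _ ⟨q, hq, rfl⟩
      exact ⟨ap a q, hS.invD a ha q hq, (ap_map_pow a (hD₀2 (hS.DH hq)) p).symm⟩
  have hexp₁ : ∀ u ∈ E₁, u ^ p = 1 := fun u hu => Subgroup.mem_bot.mp (hDp ▸ hpowD u hu)
  have hE₁le : Nat.card E₁ ≤ p ^ 3 := card_le_of_elementary hr E₁ hcomm₁ hexp₁
  have hcardE₁ : Nat.card E₁ = p * (p * Nat.card D) := by rw [h.card₁, ← hS.cardD]
  have hcardE₂ : Nat.card E₂ = p * (p * Nat.card D) := by rw [← h.card_eq, hcardE₁]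
  have hcardP : Nat.card P = p * p * (p * Nat.card D) := by rw [h.card_P, ← hS.cardD]
  obtain ⟨k, hk⟩ := IsPGroup.iff_card.mp (hP.to_subgroup D)
  have hk1 : k ≤ 1 := by
    rw [hcardE₁, hk, show p * (p * p ^ k) = p ^ (k + 2) by ring] at hE₁le
    have := (Nat.pow_le_pow_iff_right hp'.one_lt).mp hE₁le
    omega
  have ha''p : a'' ^ p = 1 := by rw [ha''def, ← ap_map_pow a₀ ha'2, hO.exp a' ha'V, ap_map_one]
  have hE₂gen : E₂ ≤ D₀ ⊔ Subgroup.zpowers a'' := hgen₂.ge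
  rcases (show k = 0 ∨ k = 1 by omega) with rfl | rfl
  · left
    have hc2 : Nat.card E₂ = p ^ 2 := by rw [hcardE₂, hk]; ring
    have hcomm₂ : ∀ u ∈ E₂, ∀ v ∈ E₂, u * v = v * u := fun u hu v hv => by
      have := IsPGroup.isMulCommutative_of_card_eq_prime_sq (G := E₂) hc2
      exact congrArg Subtype.val (mul_comm' (⟨u, hu⟩ : E₂) ⟨v, hv⟩)
    refine ⟨by rw [hcardP, hk]; ring, by rw [hcardE₁, hk]; ring, hc2, hcomm₁, hcomm₂, hexp₁, fun u hu => ?_⟩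
    exact (elem_sup (fun q hq r hr' => hcomm₁ q (hD₀1 hq) r (hD₀1 hr')) (elem_zpowers ha''p).1
      (fun q hq r hr' => hcomm₂ q (hD₀2 hq) r ((Subgroup.zpowers_le.mpr ha''2) hr'))
      (fun q hq => hexp₁ q (hD₀1 hq)) (elem_zpowers ha''p).2).2 u (hE₂gen hu)
  right
  have hDcard : Nat.card D = p := by rw [hk, pow_one]
  by_cases hne : a'' * a' = a' * a''
  · -- `E₂` elementary: impossible
    exfalso
    have hcD₀ : ∀ q ∈ D₀, a'' * q = q * a'' := fun q hq => by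
      have hle : D₀ ≤ Subgroup.centralizer {a''} := by
        rw [← hgen₀]
        refine sup_le (fun w hw => ?_) (Subgroup.zpowers_le.mpr ?_)
        · rw [Subgroup.mem_centralizer_singleton_iff]; exact (hDcomm'' w hw).symm
        · rw [Subgroup.mem_centralizer_singleton_iff]; exact hne.symm
      exact (Subgroup.mem_centralizer_singleton_iff.mp (hle hq)).symm
    obtain ⟨hcomm₂, hexp₂⟩ : (∀ u ∈ E₂, ∀ v ∈ E₂, u * v = v * u) ∧ ∀ u ∈ E₂, u ^ p = 1 := by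
      rw [← hgen₂]
      exact elem_sup (fun q hq r hr' => hcomm₁ q (hD₀1 hq) r (hD₀1 hr')) (elem_zpowers ha''p).1
        (fun q hq r hr' => by
          obtain ⟨j, rfl⟩ := Subgroup.mem_zpowers_iff.mp hr'
          exact ((show Commute a'' q from hcD₀ q hq).zpow_left j).eq.symm)
        (fun q hq => hexp₁ q (hD₀1 hq)) (elem_zpowers ha''p).2
    have hΦbot : Φ = ⊥ := by
      rw [hΦdef, show frattini E₂ = ⊥ from eq_bot_iff.mpr (CfsgLib.PGroup.frattini_le_of (p := p) _ ?_ fun u => ?_),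
        Subgroup.map_bot]
      · rw [commutator_def, Subgroup.commutator_le]
        rintro u - v -
        rw [Subgroup.mem_bot, commutatorElement_eq_one_iff_mul_comm]
        exact Subtype.ext (hcomm₂ _ u.2 _ v.2)
      · rw [Subgroup.mem_bot]; exact Subtype.ext (hexp₂ _ u.2)
    have hD₀Z : ∀ q ∈ D₀, q ∈ omZ p P := fun q hq =>
      ⟨h.central_of_commute (fun u hu => hcomm₁ u hu q (hD₀1 hq)) (fun u hu => hcomm₂ u hu q (hD₀2 hq)),
        hexp₁ q (hD₀1 hq)⟩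
    obtain ⟨a₂, ha₂, q₂, hq₂, hq₂'⟩ : ∃ a ∈ L₁, ∃ q ∈ D₀, ap a q ∉ D₀ := by
      by_contra! hh
      exact hirr hh
    have hH₁ : ∀ u ∈ E₁, (u ∈ D₀ ↔ u⁻¹ * (a'' * u * a''⁻¹) ∈ (⊥ : Subgroup P)) := fun u hu => by
      rw [Subgroup.mem_bot, inv_mul_eq_one, eq_comm, mul_inv_eq_iff_eq_mul]
      refine ⟨fun hq => hcD₀ u hq, fun hq => h.omZ_le ⟨h.central_of_commute (fun w hw => hcomm₁ w hw u hu)
        (fun w hw => ?_), hexp₁ u hu⟩⟩
      rw [← hgen₂] at hw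
      have hle : D₀ ⊔ Subgroup.zpowers a'' ≤ Subgroup.centralizer {u} := by
        refine sup_le (fun r hr' => ?_) (Subgroup.zpowers_le.mpr ?_)
        · rw [Subgroup.mem_centralizer_singleton_iff]; exact hcomm₁ r (hD₀1 hr') u hu
        · rw [Subgroup.mem_centralizer_singleton_iff]; exact hq
      exact Subgroup.mem_centralizer_singleton_iff.mp (hle hw)
    obtain ⟨D₁, Pl₁, s₁, n₁, hS₁⟩ := exists_split_section hP h.v₁ ha''1 E₁ ⊥ D₀ bot_le le_rfl (inv_self L₁)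
      (inv_bot L₁) (fun u hu v hv => by
        rw [Subgroup.mem_bot, commutatorElement_eq_one_iff_mul_comm]; exact hcomm₁ u hu v hv)
      (fun u hu => by rw [Subgroup.mem_bot]; exact hexp₁ u hu)
      (fun e he u hu => by rw [Subgroup.mem_bot, hcomm₁ e he u hu, mul_inv_cancel_right, inv_mul_cancel])
      hD₀1 hH₁ h.card₁ ⟨a₂, ha₂, q₂, hq₂, hq₂'⟩
    have hfix₁ : ∀ a ∈ L₁, ∀ u ∈ D₁, ap a u = u := fun a ha u hu =>
      (inv_mul_eq_one.mp (Subgroup.mem_bot.mp (hS₁.fixD a ha u hu))).symm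
    have hD₁card : Nat.card D₁ = p := Nat.eq_of_mul_eq_mul_left hp'.pos (by rw [← hS₁.cardD, hS.cardD, hDcard])
    have hD₁ne : D₁ ≠ D := by
      intro he
      have hDbot := hF D ⟨hS.DH, he ▸ hS₁.invD, hS.invD⟩
      rw [hDbot, Subgroup.card_bot] at hDcard
      exact hp'.ne_one hDcard.symm
    obtain ⟨φ, hφE, -, hφL⟩ := h.t₂ n hS.nL hS.nU
    have hn' : ∀ u ∈ D, ap n u = u := fun u hu => by
      have := hS.nD u hu
      rw [hΦbot, Subgroup.mem_bot, inv_mul_eq_one] at this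
      exact this.symm
    have hfs : f = 1 := Subgroup.mem_bot.mp (hΦbot ▸ hf)
    have hns : ap n a' = a'⁻¹ := by
      have hsn : s * ap n s = 1 := Subgroup.mem_bot.mp (hΦbot ▸ hS.ns)
      rw [ha's, hfs, one_mul, ap_map_zpow n hsE, eq_inv_of_mul_eq_one_right hsn, inv_zpow]
    obtain ⟨d₁, hd₁, hd₁'⟩ := (Subgroup.bot_or_exists_ne_one D₁).resolve_left fun e => by
      rw [e, Subgroup.card_bot] at hD₁card; exact hp'.ne_one hD₁card.symm
    obtain ⟨δ, hδ, _, ⟨j, rfl⟩, hdj⟩ := Subgroup.mem_sup_of_normal_left.mp (hgen₀.ge (hS₁.DH hd₁))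
    dsimp only at hdj
    have hφd : φ d₁ ∈ D₁ := by
      have hmem : φ d₁ ∈ E₁ := by
        obtain ⟨φ', -, hφ1, -⟩ : ∃ φ' : MulAut P, φ' = φ ∧ (∀ u ∈ E₂, φ' u = ap n u) ∧ True :=
          ⟨φ, rfl, hφE, trivial⟩
        have hq := hD₀2 (hS₁.DH hd₁)
        rw [hφE d₁ hq, ← hdj, ap_map_mul n (hD₀2 (hS.DH hδ)) (zpow_mem ha'2 j), hn' δ hδ, ap_map_zpow n ha'2, hns]
        exact mul_mem (hDE hδ) (zpow_mem (inv_mem (hD₀1 ha'D₀)) j)
      refine hS₁.maxD _ hmem fun a ha => ?_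
      obtain ⟨b, hb, hab⟩ := Torus.exists_pre hφL a ha
      rw [Subgroup.mem_bot, inv_mul_eq_one, ← hab d₁ (hD₀1 (hS₁.DH hd₁)), hfix₁ b hb d₁ hd₁]
    have hφd' : φ d₁ = δ * (a' ^ j)⁻¹ := by
      rw [hφE d₁ (hD₀2 (hS₁.DH hd₁)), ← hdj, ap_map_mul n (hD₀2 (hS.DH hδ)) (zpow_mem ha'2 j), hn' δ hδ,
        ap_map_zpow n ha'2, hns, inv_zpow]
    have hδ2 : δ ^ 2 ∈ D₁ := by
      have hc : Commute (a' ^ j) δ := (show Commute a' δ from hDcomm' δ hδ).zpow_left j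
      have e : d₁ * φ d₁ = δ ^ 2 := by
        rw [hφd', ← hdj, mul_assoc, ← mul_assoc (a' ^ j), hc.eq, mul_assoc δ (a' ^ j), mul_inv_cancel, mul_one,
          pow_two]
      exact e ▸ mul_mem hd₁ hφd
    have hδ1 : δ ∈ D₁ := mem_of_zpow_mem (i := 2) (fun hd => by
        have h2 : p ∣ 2 := by exact_mod_cast hd
        have := (Nat.prime_dvd_prime_iff_eq hp' Nat.prime_two).mp h2
        subst this
        exact absurd hodd (by decide))
      (by rw [hexp₁ δ (hDE hδ)]; exact one_mem _) (by exact_mod_cast hδ2)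
    have hδone : δ = 1 := by
      by_contra hd
      refine hD₁ne ?_
      have hle : Subgroup.zpowers δ ≤ D₁ ⊓ D := Subgroup.zpowers_le.mpr ⟨hδ1, hδ⟩
      have ho : orderOf δ = p := orderOf_eq_prime (hexp₁ δ (hDE hδ)) hd
      have h1 := Subgroup.card_le_of_le hle
      rw [Nat.card_zpowers, ho] at h1
      rw [← Subgroup.eq_of_le_of_card_ge (inf_le_left : D₁ ⊓ D ≤ D₁) (hD₁card.le.trans h1),
        Subgroup.eq_of_le_of_card_ge (inf_le_right : D₁ ⊓ D ≤ D) (hDcard.le.trans h1)]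
    have ha'D₁ : a' ∈ D₁ := by
      rw [hδone, one_mul] at hdj
      refine mem_of_zpow_mem (i := j) (fun hd => hd₁' ?_) (by rw [hexp₁ a' (hD₀1 ha'D₀)]; exact one_mem _)
        (hdj ▸ hd₁)
      obtain ⟨m, rfl⟩ := hd
      rw [← hdj, zpow_mul, zpow_natCast, hexp₁ a' (hD₀1 ha'D₀), one_zpow]
    have hsD₁ : s ∈ D₁ := hsD₀ (hΦbot ▸ bot_le) ha'D₁
    set e := a''⁻¹ * (x * a'' * x⁻¹) with hedef
    have he_s : e ∈ Subgroup.zpowers s := by
      have := hS.centre a'' ha''2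
      rwa [hΦbot, bot_sup_eq] at this
    have heD₁ : e ∈ D₁ := (Subgroup.zpowers_le.mpr hsD₁) he_s
    have he1 : e ≠ 1 := fun he => ha''D ((hH a'' ha''2).mpr (by rw [← hedef, he]; exact one_mem _))
    have hec : e ∈ Subgroup.center P := (hD₀Z e (hS₁.DH heD₁)).1
    have hr₁ : x⁻¹ * (a'' * x * a''⁻¹) ∈ Subgroup.zpowers s₁ := by
      have := hS₁.centre x hxE
      rwa [bot_sup_eq] at this
    have her : x⁻¹ * (a'' * x * a''⁻¹) = e⁻¹ := by
      have e1 : x * a'' * x⁻¹ = a'' * e := by rw [hedef, mul_inv_cancel_left]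
      have e2 : a'' * x * a''⁻¹ = e⁻¹ * x := by
        have e3 : x * a'' = a'' * e * x := mul_inv_eq_iff_eq_mul.mp e1
        calc a'' * x * a''⁻¹ = a'' * e * e⁻¹ * x * a''⁻¹ := by rw [mul_inv_cancel_right]
          _ = e⁻¹ * (a'' * e) * x * a''⁻¹ := by
            rw [← Subgroup.mem_center_iff.mp (inv_mem hec) (a'' * e)]
          _ = e⁻¹ * (x * a'') * a''⁻¹ := by rw [e3]; group
          _ = e⁻¹ * x := by rw [mul_assoc, mul_inv_cancel_right]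
      rw [e2, ← mul_assoc, Subgroup.mem_center_iff.mp (inv_mem hec) x⁻¹, mul_assoc, inv_mul_cancel, mul_one]
    rw [her] at hr₁
    obtain ⟨m, hm⟩ := Subgroup.mem_zpowers_iff.mp hr₁
    have hs₁p : s₁ ^ p = 1 := hexp₁ s₁ (hD₀1 hS₁.sH)
    refine hS₁.sD (mem_of_zpow_mem (i := m) ?_ (by rw [hs₁p]; exact one_mem _) (hm ▸ inv_mem heD₁))
    rintro ⟨t, rfl⟩
    rw [zpow_mul, zpow_natCast, hs₁p, one_zpow, eq_comm, inv_eq_one] at hm
    exact he1 hm
  -- the shape `p^4`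
  have hΦne : Φ ≠ ⊥ := fun he => hne (by
    have := hΦcomm a'' ha''2 a' ha'2
    rwa [he, Subgroup.mem_bot, commutatorElement_eq_one_iff_mul_comm] at this)
  have hΦD' : Φ = D := by
    refine Subgroup.eq_of_le_of_card_ge hS.KD ?_
    rw [hDcard]
    have := mul_card_le_of_lt hP (bot_lt_iff_ne_bot.mpr hΦne)
    rwa [Subgroup.card_bot, mul_one] at this
  set a := x⁻¹ * (a'' * x * a''⁻¹) with hadef
  have haD₀ : a ∈ D₀ := h.quot_mem a'' x
  have haD : a ∉ D := fun hh => ha''D ((hH a'' ha''2).mpr (by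
    rw [hΦD', show a''⁻¹ * (x * a'' * x⁻¹) = a''⁻¹ * (x * a⁻¹ * x⁻¹) * a''⁻¹⁻¹ by rw [hadef]; group]
    exact hDn.conj_mem _ (hDn.conj_mem _ (inv_mem hh) x) _))
  have hne' : a'' * a ≠ a * a'' := fun hh => hne (by
    have hle : D₀ ≤ Subgroup.centralizer {a''} := by
      rw [← sup_zpowers_eq hS.DH hS.cardD haD₀ haD]
      refine sup_le (fun w hw => ?_) (Subgroup.zpowers_le.mpr ?_)
      · rw [Subgroup.mem_centralizer_singleton_iff]; exact (hDcomm'' w hw).symm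
      · rw [Subgroup.mem_centralizer_singleton_iff]; exact hh.symm
    exact (Subgroup.mem_centralizer_singleton_iff.mp (hle ha'D₀)).symm)
  set d := a⁻¹ * (a'' * a * a''⁻¹) with hddef
  have hdD : d ∈ D := hΦD' ▸ hΦfix a'' ha''2 a (hD₀2 haD₀)
  refine ⟨x, a'', a, d, ?_, ?_, ?_, hxE, hx2, ha''2, ha''1, haD₀, hS.DH hdD, hcomm₁, hexp₁, ?_, ?_, ?_, ?_, ?_,
    hirr⟩
  · rw [hcardP, hDcard]; ring
  · rw [hcardE₁, hDcard]; ring
  · rw [hcardE₂, hDcard]; ring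
  · refine exp_of_class_two hodd (X := E₂) (S := (D₀ : Set P) ∪ {a''}) ?_ ?_ ?_ ?_
    · rw [← hgen₂]
      refine sup_le (fun w hw => Subgroup.subset_closure (Or.inl hw))
        (Subgroup.zpowers_le.mpr (Subgroup.subset_closure (Or.inr rfl)))
    · rintro w (hw | rfl)
      · exact hD₀2 hw
      · exact ha''2
    · intro u hu v hv w hw
      exact Subgroup.mem_center_iff.mp (hDcen (hΦD' ▸ hΦcomm u hu v hv)) w
    · rintro w (hw | rfl)
      · exact hexp₁ w (hD₀1 hw)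
      · exact ha''p
  · rw [hadef, mul_inv_cancel_left]
  · rw [hddef, mul_inv_cancel_left]
  · intro hd
    rw [hddef, inv_mul_eq_one, eq_mul_inv_iff_mul_eq] at hd
    exact hne' hd.symm
  · exact fun g => Subgroup.mem_center_iff.mp (hDcen hdD) g

end CfsgLib.RankThreePair
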