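import Cfsg.Agent.Lib.Fusion.RankThreePair.Action

/-!
A vertex modulo an invariant subgroup: it cannot become degenerate when the subgroup is common to a pair.
-/

set_option autoImplicit false
set_option maxHeartbeats 400000

namespace CfsgLib.RankThreePair

open Cfsg CfsgLib.FusionRankThree
open scoped commutatorElement

variable {P : Type*} [Group P] [Finite P] {p : ℕ} [hp : Fact p.Prime]

omit [Finite P] hp in
theorem proj_eq_iff {T : Subgroup P} [T.Normal] {x y : P} :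
    QuotientGroup.mk' T x = QuotientGroup.mk' T y ↔ x⁻¹ * y ∈ T := QuotientGroup.eq

omit [Finite P] hp in
theorem ap_proj_congr {E : Subgroup P} {L : Subgroup (MulAut E)} {T : Subgroup P} [T.Normal] (hTE : T ≤ E)
    (hT : Inv L T) {a : MulAut E} (ha : a ∈ L) {x y : P} (hx : x ∈ E) (hy : y ∈ E)
    (h : QuotientGroup.mk' T x = QuotientGroup.mk' T y) :
    QuotientGroup.mk' T (ap a x) = QuotientGroup.mk' T (ap a y) := by
  rw [proj_eq_iff] at h ⊢
  have := hT a ha _ h
  rwa [ap_map_mul a (inv_mem hx) hy, ap_map_inv a hx] at this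

/-- The function induced on the image of `E`. -/
noncomputable def pushFun {E : Subgroup P} {T : Subgroup P} [T.Normal] (a : MulAut E)
    (q : E.map (QuotientGroup.mk' T)) : E.map (QuotientGroup.mk' T) :=
  ⟨QuotientGroup.mk' T (ap a (Classical.choose q.2)),
    Subgroup.mem_map_of_mem _ (ap_mem _ (Classical.choose_spec q.2).1)⟩

omit [Finite P] hp in
theorem pushFun_mk {E : Subgroup P} {L : Subgroup (MulAut E)} {T : Subgroup P} [T.Normal] (hTE : T ≤ E)
    (hT : Inv L T) {a : MulAut E} (ha : a ∈ L) {x : P} (hx : x ∈ E) :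
    pushFun a ⟨QuotientGroup.mk' T x, Subgroup.mem_map_of_mem _ hx⟩ =
      ⟨QuotientGroup.mk' T (ap a x), Subgroup.mem_map_of_mem _ (ap_mem a hx)⟩ := by
  refine Subtype.ext ?_
  have hm : QuotientGroup.mk' T x ∈ E.map (QuotientGroup.mk' T) := Subgroup.mem_map_of_mem _ hx
  exact ap_proj_congr hTE hT ha (Classical.choose_spec hm).1 hx (Classical.choose_spec hm).2

/-- The automorphism induced on the image of `E`. -/
noncomputable def pushEquiv {E : Subgroup P} {L : Subgroup (MulAut E)} {T : Subgroup P} [T.Normal] (hTE : T ≤ E)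
    (hT : Inv L T) (a : L) : MulAut (E.map (QuotientGroup.mk' T)) where
  toFun := pushFun (a : MulAut E)
  invFun := pushFun (a : MulAut E)⁻¹
  left_inv := by
    rintro ⟨_, x, hx, rfl⟩
    rw [pushFun_mk hTE hT a.2 hx, pushFun_mk hTE hT (inv_mem a.2) (ap_mem _ hx)]
    exact Subtype.ext (congrArg (QuotientGroup.mk' T) (ap_inv_self (a : MulAut E) x))
  right_inv := by
    rintro ⟨_, x, hx, rfl⟩
    rw [pushFun_mk hTE hT (inv_mem a.2) hx, pushFun_mk hTE hT a.2 (ap_mem _ hx)]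
    exact Subtype.ext (congrArg (QuotientGroup.mk' T) (ap_self_inv (a : MulAut E) x))
  map_mul' := by
    rintro ⟨_, x, hx, rfl⟩ ⟨_, y, hy, rfl⟩
    rw [show ((⟨QuotientGroup.mk' T x, Subgroup.mem_map_of_mem _ hx⟩ : E.map (QuotientGroup.mk' T)) *
      ⟨QuotientGroup.mk' T y, Subgroup.mem_map_of_mem _ hy⟩) =
      ⟨QuotientGroup.mk' T (x * y), Subgroup.mem_map_of_mem _ (mul_mem hx hy)⟩ from Subtype.ext (map_mul _ x y).symm,
      pushFun_mk hTE hT a.2 (mul_mem hx hy), pushFun_mk hTE hT a.2 hx, pushFun_mk hTE hT a.2 hy]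
    exact Subtype.ext ((congrArg (QuotientGroup.mk' T) (ap_map_mul (a : MulAut E) hx hy)).trans (map_mul _ _ _))

omit [Finite P] hp in
theorem pushEquiv_apply {E : Subgroup P} {L : Subgroup (MulAut E)} {T : Subgroup P} [T.Normal] (hTE : T ≤ E)
    (hT : Inv L T) (a : L) {x : P} (hx : x ∈ E) :
    ap (pushEquiv hTE hT a) (QuotientGroup.mk' T x) = QuotientGroup.mk' T (ap (a : MulAut E) x) := by
  rw [ap_of_mem _ (Subgroup.mem_map_of_mem _ hx)]
  exact congrArg Subtype.val (pushFun_mk hTE hT a.2 hx)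

omit [Finite P] hp in
theorem ext_map {E : Subgroup P} {T : Subgroup P} [T.Normal] {b c : MulAut (E.map (QuotientGroup.mk' T))}
    (h : ∀ x ∈ E, ap b (QuotientGroup.mk' T x) = ap c (QuotientGroup.mk' T x)) : b = c :=
  ap_ext fun q hq => by obtain ⟨x, hx, rfl⟩ := hq; exact h x hx

/-- The homomorphism to the automorphisms of the image. -/
noncomputable def push {E : Subgroup P} {L : Subgroup (MulAut E)} {T : Subgroup P} [T.Normal] (hTE : T ≤ E)
    (hT : Inv L T) : L →* MulAut (E.map (QuotientGroup.mk' T)) where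
  toFun := pushEquiv hTE hT
  map_one' := ext_map fun x hx => by rw [pushEquiv_apply hTE hT 1 hx, ap_one, Subgroup.coe_one, ap_one]
  map_mul' a b := ext_map fun x hx => by
    rw [pushEquiv_apply hTE hT _ hx, ap_mul, pushEquiv_apply hTE hT b hx, pushEquiv_apply hTE hT a (ap_mem _ hx),
      Subgroup.coe_mul, ap_mul]

omit [Finite P] hp in
theorem push_apply {E : Subgroup P} {L : Subgroup (MulAut E)} {T : Subgroup P} [T.Normal] (hTE : T ≤ E)
    (hT : Inv L T) (a : L) {x : P} (hx : x ∈ E) :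
    ap (push hTE hT a) (QuotientGroup.mk' T x) = QuotientGroup.mk' T (ap (a : MulAut E) x) :=
  pushEquiv_apply hTE hT a hx

/-- Each member of `L` acts on `E/T` as some conjugation. -/
def ActsInner {E : Subgroup P} (L : Subgroup (MulAut E)) (T : Subgroup P) : Prop :=
  ∀ a ∈ L, ∃ g : P, ∀ x ∈ E, (ap a x)⁻¹ * (g * x * g⁻¹) ∈ T

theorem ActsInner.hquot {E : Subgroup P} [E.Normal] {L : Subgroup (MulAut E)} (_hV : Vertex p E L)
    (hP : IsPGroup p P) {T : Subgroup P} [T.Normal] (hTE : T ≤ E) (hT : Inv L T) (h : ActsInner L T) :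
    ∀ a ∈ L, ∃ k, ∀ x ∈ E, x⁻¹ * ap (a ^ p ^ k) x ∈ T := by
  intro a ha
  obtain ⟨g, hg⟩ := h a ha
  obtain ⟨k, hk⟩ := hP g
  refine ⟨k, fun x hx => ?_⟩
  have key : ∀ n : ℕ, QuotientGroup.mk' T (ap (a ^ n) x) = QuotientGroup.mk' T (g ^ n * x * (g ^ n)⁻¹) := by
    intro n
    induction n with
    | zero => rw [pow_zero, ap_one]; simp
    | succ n ih =>
      rw [pow_succ', ap_mul, ap_proj_congr hTE hT ha (ap_mem _ hx)
        ((inferInstance : E.Normal).conj_mem x hx _) ih,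
        show g ^ (n + 1) * x * (g ^ (n + 1))⁻¹ = g * (g ^ n * x * (g ^ n)⁻¹) * g⁻¹ by rw [pow_succ']; group,
        proj_eq_iff.mpr (hg _ ((inferInstance : E.Normal).conj_mem x hx _))]
  have h2 := proj_eq_iff.mp (key (p ^ k)).symm
  rwa [hk, one_mul, inv_one, mul_one] at h2

theorem ActsInner.inv {E : Subgroup P} [E.Normal] {L : Subgroup (MulAut E)} {T : Subgroup P} [T.Normal]
    (h : ActsInner L T) {Q : Subgroup P} [Q.Normal] (hTQ : T ≤ Q) (hQE : Q ≤ E) : Inv L Q := by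
  intro a ha x hx
  obtain ⟨g, hg⟩ := h a ha
  have h1 := mul_mem ((inferInstance : Q.Normal).conj_mem x hx g) (inv_mem (hTQ (hg x (hQE hx))))
  rwa [mul_inv_rev, inv_inv, mul_inv_cancel_left] at h1

/-- A vertex degenerate modulo `T` acts trivially on the Frattini quotient of `T`. -/
theorem Vertex.trivial_of_actsInner {E : Subgroup P} [E.Normal] {L : Subgroup (MulAut E)} (hV : Vertex p E L)
    (hP : IsPGroup p P) (hr : SectionalPRankLE p 3 P) {T : Subgroup P} [T.Normal] (hTE : T ≤ E) (hT : Inv L T)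
    (h : ActsInner L T) : E ≤ (frConj T).ker := by
  obtain ⟨hM, hMc, hcard⟩ := frAct_card hP hr T
  let _ : CommGroup (T ⧸ frattini T) := { (inferInstance : Group (T ⧸ frattini T)) with mul_comm := hMc }
  by_contra hle
  obtain ⟨e₀, he₀, he₀'⟩ := SetLike.not_le_iff_exists.mp hle
  let π := QuotientGroup.mk' (frConj T).ker
  have hEn : (E.map π).Normal := Subgroup.Normal.map inferInstance π (QuotientGroup.mk'_surjective _)
  obtain ⟨q, hq, hqZ, hq1⟩ := exists_mem_omZ (hP.to_quotient (frConj T).ker) (N := E.map π) fun e =>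
    he₀' ((QuotientGroup.eq_one_iff e₀).mp (Subgroup.mem_bot.mp (e.le (Subgroup.mem_map_of_mem π he₀))))
  obtain ⟨e, he, rfl⟩ := hq
  set y := frConj T e
  have hy1 : y ≠ 1 := fun hh => hq1 ((QuotientGroup.eq_one_iff e).mpr hh)
  obtain ⟨k₀, hk₀⟩ := hP e
  have hyk : y ^ p ^ k₀ = 1 := by rw [← map_pow, hk₀, map_one]
  have hcen : ∀ g, frConj T g * y = y * frConj T g := fun g => by
    have h1 := Subgroup.mem_center_iff.mp hqZ.1 (π g)
    rw [← map_mul, ← map_mul] at h1
    have h2 : frConj T ((g * e)⁻¹ * (e * g)) = 1 := proj_eq_iff.mp h1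
    rw [map_mul, map_inv, inv_mul_eq_one, map_mul, map_mul] at h2
    exact h2
  have hcomm : ∀ a : L, frAct hTE hT a * y = y * frAct hTE hT a := by
    intro a
    obtain ⟨g, hg⟩ := h a a.2
    have hcjE : frAct hTE hT ⟨MulAut.conjNormal e, hV.le e⟩ = y := frAct_conj hTE hT e _
    have h1 : a * ⟨MulAut.conjNormal e, hV.le e⟩ * a⁻¹ =
        (⟨MulAut.conjNormal (ap (a : MulAut E) e), hV.le _⟩ : L) := Subtype.ext (conj_conjNormal _ he)
    have h2 := congrArg (frAct hTE hT) h1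
    rw [map_mul, map_mul, map_inv, hcjE, frAct_conj] at h2
    have h3 : frConj T (ap (a : MulAut E) e) = frConj T (g * e * g⁻¹) := by
      rw [← inv_mul_eq_one, ← map_inv, ← map_mul]
      exact frConj_eq_one_of_mem hP (hg e he)
    rw [h3, map_mul, map_mul, map_inv, hcen, mul_inv_cancel_right] at h2
    exact mul_inv_eq_iff_eq_mul.mp h2
  exact hV.false_of_pAction hP hTE hT (h.hquot hV hP hTE hT)
    (hV.pAction_of_commute hP hM hcard _ hyk hy1 hcomm)

omit hp in
/-- If `P` is trivial on the Frattini quotient of `T`, then so is `L`. -/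
theorem Vertex.frAct_eq_one [Fact p.Prime] {E : Subgroup P} [E.Normal] {L : Subgroup (MulAut E)} (hV : Vertex p E L)
    {T : Subgroup P} [T.Normal] (hTE : T ≤ E) (hT : Inv L T) (hg : ∀ g, frConj T g = 1) (a : L) :
    frAct hTE hT a = 1 := by
  have hmem : ∀ g : P, (⟨MulAut.conjNormal g, hV.le g⟩ : L) ∈ (frAct hTE hT).ker := fun g => by
    rw [MonoidHom.mem_ker, frAct_conj hTE hT g (hV.le g)]
    exact hg g
  have hgen : ((frAct hTE hT).ker).map L.subtype = L := by
    refine hV.gen _ (Subgroup.map_subtype_le _) (fun g => Subgroup.mem_map_of_mem L.subtype (hmem g)) ?_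
    rintro b hb y hy
    obtain ⟨c, hc, rfl⟩ := Subgroup.mem_map.mp hy
    exact Subgroup.mem_map_of_mem L.subtype ((MonoidHom.normal_ker (frAct hTE hT)).conj_mem c hc ⟨b, hb⟩)
  obtain ⟨b, hb, hba⟩ := hgen.ge a.2
  obtain rfl : b = a := Subtype.ext hba
  exact MonoidHom.mem_ker.mp hb

omit hp in
theorem Vertex.kerConj_inv [Fact p.Prime] {E : Subgroup P} [E.Normal] {L : Subgroup (MulAut E)} (hV : Vertex p E L)
    {T : Subgroup P} [T.Normal] (hTE : T ≤ E) (hT : Inv L T) : Inv L (E ⊓ (frConj T).ker) := by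
  rintro a ha x ⟨hx, hx'⟩
  refine ⟨ap_mem a hx, ?_⟩
  show frConj T (ap a x) = 1
  rw [← frAct_conj hTE hT _ (hV.le (ap a x)), show (⟨MulAut.conjNormal (ap a x), hV.le _⟩ : L) =
    ⟨a, ha⟩ * ⟨MulAut.conjNormal x, hV.le x⟩ * ⟨a, ha⟩⁻¹ from Subtype.ext (conj_conjNormal _ hx).symm,
    map_mul, map_mul, map_inv, frAct_conj, show frConj T x = 1 from hx', mul_one, mul_inv_cancel]

variable {E₁ E₂ : Subgroup P} [E₁.Normal] [E₂.Normal] {L₁ : Subgroup (MulAut E₁)} {L₂ : Subgroup (MulAut E₂)}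

/-- The intersection of the vertices is not common. -/
theorem Duo.not_common_inf (hP : IsPGroup p P) (hr : SectionalPRankLE p 3 P) (h : Duo p E₁ E₂ L₁ L₂)
    (hD : Common L₁ L₂ (E₁ ⊓ E₂)) : False := by
  have hA : ∀ {E : Subgroup P} [E.Normal] {L : Subgroup (MulAut E)}, Vertex p E L → E₁ ⊓ E₂ ≤ E →
      Inv L (E₁ ⊓ E₂) → ActsInner L (E₁ ⊓ E₂) := by
    intro E _ L hV hle hI a ha
    refine ⟨1, fun x hx => ?_⟩
    have := hV.trivial_of hle le_rfl (inv_self L) hI (fun g x _ => h.quot_mem g x) a ha x hx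
    rw [one_mul, inv_one, mul_one]
    have h2 := inv_mem this
    rwa [mul_inv_rev, inv_inv] at h2
  have h1 := h.v₁.trivial_of_actsInner hP hr inf_le_left hD.2.1 (hA h.v₁ inf_le_left hD.2.1)
  have h2 := h.v₂.trivial_of_actsInner hP hr inf_le_right hD.2.2 (hA h.v₂ inf_le_right hD.2.2)
  obtain ⟨y, hy, hy'⟩ := SetLike.not_le_iff_exists.mp h.symm.not_le₁
  have hP' : ∀ g, frConj (E₁ ⊓ E₂) g = 1 := fun g => by
    obtain ⟨i, e, he, rfl⟩ := exists_pow_mul h.v₁.index hy' g
    exact MonoidHom.mem_ker.mp (mul_mem (pow_mem (h2 hy) i) (h1 he))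
  exact h.v₁.false_of_pAction hP inf_le_left hD.2.1
    ((hA h.v₁ inf_le_left hD.2.1).hquot h.v₁ hP inf_le_left hD.2.1)
    fun a => ⟨0, by rw [pow_zero, pow_one]; exact h.v₁.frAct_eq_one _ _ hP' a⟩

/-- A common subgroup leaves the first vertex non-degenerate. -/
theorem Duo.not_actsInner (hP : IsPGroup p P) (hr : SectionalPRankLE p 3 P) (h : Duo p E₁ E₂ L₁ L₂)
    {T : Subgroup P} [T.Normal] (hT : Common L₁ L₂ T) : ¬ ActsInner L₁ T := by
  intro hI
  have h1 := h.v₁.trivial_of_actsInner hP hr (hT.1.trans inf_le_left) hT.2.1 hI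
  have hD₁ : Inv L₁ (E₁ ⊓ E₂) := hI.inv hT.1 inf_le_left
  refine h.not_common_inf hP hr ⟨le_rfl, hD₁, ?_⟩
  have hker := h.v₂.kerConj_inv (hT.1.trans inf_le_right) hT.2.2
  by_cases hy : E₂ ≤ (frConj T).ker
  · exfalso
    obtain ⟨y, hy₂, hy'⟩ := SetLike.not_le_iff_exists.mp h.symm.not_le₁
    have hg : ∀ g, frConj T g = 1 := fun g => by
      obtain ⟨i, e, he, rfl⟩ := exists_pow_mul h.v₁.index hy' g
      exact MonoidHom.mem_ker.mp (mul_mem (pow_mem (hy hy₂) i) (h1 he))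
    exact h.v₁.false_of_pAction hP (hT.1.trans inf_le_left) hT.2.1
      (hI.hquot h.v₁ hP (hT.1.trans inf_le_left) hT.2.1)
      fun a => ⟨0, by rw [pow_zero, pow_one]; exact h.v₁.frAct_eq_one _ _ hg a⟩
  · have hle : E₁ ⊓ E₂ ≤ E₂ ⊓ (frConj T).ker := fun x hx => ⟨hx.2, h1 hx.1⟩
    have he : E₁ ⊓ E₂ = E₂ ⊓ (frConj T).ker := by
      by_contra hne
      exact hy (inf_eq_left.mp (eq_of_lt_of_card (lt_of_le_of_ne hle hne) inf_le_left h.card₂))
    rw [he]
    exact hker

end CfsgLib.RankThreePair
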