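import Cfsg.Agent.Lib.Fusion.RankThreePair.Push
import Cfsg.Agent.Lib.Fusion.RankThree.Bridge

/-!
The pair modulo the largest common subgroup is again a pair, and it is free.
-/

set_option autoImplicit false
set_option maxHeartbeats 400000

namespace CfsgLib.RankThreePair

open Cfsg
open scoped commutatorElement

variable {P : Type*} [Group P] [Finite P] {p : ℕ} [hp : Fact p.Prime]

omit hp in
theorem rank_quotient (hr : SectionalPRankLE p 3 P) (T : Subgroup P) [T.Normal] : SectionalPRankLE p 3 (P ⧸ T) :=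
  fun H N _ => CfsgLib.TwoGroups85.pRankLE_of_section hr (H.comap (QuotientGroup.mk' T))
    ((QuotientGroup.mk' N).comp ((QuotientGroup.mk' T).subgroupComap H))
    ((QuotientGroup.mk'_surjective N).comp
      ((QuotientGroup.mk' T).subgroupComap_surjective_of_surjective H (QuotientGroup.mk'_surjective T)))

instance map_mk_normal {E : Subgroup P} [E.Normal] {T : Subgroup P} [T.Normal] :
    (E.map (QuotientGroup.mk' T)).Normal :=
  Subgroup.Normal.map inferInstance _ (QuotientGroup.mk'_surjective T)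

omit hp [Finite P] in
theorem push_conj {E : Subgroup P} [E.Normal] {L : Subgroup (MulAut E)} {T : Subgroup P} [T.Normal] (hTE : T ≤ E)
    (hT : Inv L T) (g : P) (hg : MulAut.conjNormal g ∈ L) :
    push hTE hT ⟨_, hg⟩ = MulAut.conjNormal (QuotientGroup.mk' T g) := by
  refine ext_map fun x hx => ?_
  rw [push_apply hTE hT _ hx, ap_conj g hx, ap_conj _ (Subgroup.mem_map_of_mem _ hx), map_mul, map_mul, map_inv]

omit hp [Finite P] in
theorem mem_map_mk_iff {E T : Subgroup P} [T.Normal] (hTE : T ≤ E) {x : P} :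
    QuotientGroup.mk' T x ∈ E.map (QuotientGroup.mk' T) ↔ x ∈ E := by
  refine ⟨?_, fun h => Subgroup.mem_map_of_mem _ h⟩
  rintro ⟨y, hy, hyx⟩
  have := mul_mem (show y ∈ E from hy) (hTE (proj_eq_iff.mp hyx))
  rwa [mul_inv_cancel_left] at this

/-- The image of a non-degenerate vertex is a vertex. -/
theorem Vertex.image {E : Subgroup P} [E.Normal] {L : Subgroup (MulAut E)} (hV : Vertex p E L) (hP : IsPGroup p P)
    {T : Subgroup P} [T.Normal] (hTE : T ≤ E) (hT : Inv L T) (hn : ¬ ActsInner L T) :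
    Vertex p (E.map (QuotientGroup.mk' T)) (push hTE hT).range := by
  have hs := QuotientGroup.mk'_surjective T
  have hle : ∀ q : P ⧸ T, MulAut.conjNormal q ∈ (push hTE hT).range := fun q => by
    obtain ⟨g, rfl⟩ := hs q
    exact ⟨⟨_, hV.le g⟩, push_conj hTE hT g _⟩
  have hgen : ∀ M : Subgroup (MulAut (E.map (QuotientGroup.mk' T))), M ≤ (push hTE hT).range →
      (∀ q, MulAut.conjNormal q ∈ M) → (∀ a ∈ (push hTE hT).range, ∀ b ∈ M, a * b * a⁻¹ ∈ M) →
      M = (push hTE hT).range := by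
    intro M hM hcj hn
    have hmem : ∀ g : P, (⟨MulAut.conjNormal g, hV.le g⟩ : L) ∈ M.comap (push hTE hT) := fun g => by
      rw [Subgroup.mem_comap, push_conj]; exact hcj _
    have h1 : (M.comap (push hTE hT)).map L.subtype = L := by
      refine hV.gen _ (Subgroup.map_subtype_le _) (fun g => Subgroup.mem_map_of_mem L.subtype (hmem g)) ?_
      rintro a ha y hy
      obtain ⟨c, hc, rfl⟩ := Subgroup.mem_map.mp hy
      refine Subgroup.mem_map_of_mem L.subtype (show ⟨a, ha⟩ * c * ⟨a, ha⟩⁻¹ ∈ M.comap (push hTE hT) from ?_)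
      rw [Subgroup.mem_comap, map_mul, map_mul, map_inv]
      exact hn _ ⟨_, rfl⟩ _ hc
    refine le_antisymm hM ?_
    rintro _ ⟨a, rfl⟩
    obtain ⟨b, hb, hba⟩ := Subgroup.mem_map.mp (h1.ge a.2)
    rw [← show b = a from Subtype.ext hba]
    exact hb
  let σ := (push hTE hT).rangeRestrict
  let cj : P →* MulAut E := MulAut.conjNormal
  let cq : (P ⧸ T) →* MulAut (E.map (QuotientGroup.mk' T)) := MulAut.conjNormal
  have hmap : (cj.range.subgroupOf L).map σ = cq.range.subgroupOf (push hTE hT).range := by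
    ext b
    constructor
    · rintro ⟨a, ⟨g, hg⟩, rfl⟩
      refine ⟨QuotientGroup.mk' T g, ?_⟩
      rw [← push_conj hTE hT g (hV.le g)]
      exact congrArg (push hTE hT) (Subtype.ext hg)
    · rintro ⟨q, hq⟩
      obtain ⟨g, rfl⟩ := hs q
      exact ⟨⟨_, hV.le g⟩, ⟨g, rfl⟩, Subtype.ext ((push_conj hTE hT g _).trans hq)⟩
  have hsyl : ¬ p ∣ (cq.range.subgroupOf (push hTE hT).range).index := fun h => hV.sylow (by
    rw [← hmap] at h
    exact h.trans (Subgroup.index_map_dvd _ (push hTE hT).rangeRestrict_surjective))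
  have hnp : ¬ IsPGroup p (push hTE hT).range := by
    intro hpg
    obtain ⟨n, hn'⟩ := IsPGroup.iff_card.mp hpg
    have hd := (cq.range.subgroupOf (push hTE hT).range).index_dvd_card
    rw [hn'] at hd
    obtain ⟨j, -, hj⟩ := (Nat.dvd_prime_pow hp.out).mp hd
    have hj0 : j = 0 := by
      by_contra hne
      exact hsyl (hj ▸ dvd_pow_self p hne)
    rw [hj0, pow_zero] at hj
    have htop := Subgroup.index_eq_one.mp hj
    refine hn fun a ha => ?_
    obtain ⟨q, hq⟩ := Subgroup.mem_subgroupOf.mp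
      (htop.ge (Subgroup.mem_top (⟨push hTE hT ⟨a, ha⟩, ⟨_, rfl⟩⟩ : (push hTE hT).range)))
    obtain ⟨g, rfl⟩ := hs q
    refine ⟨g, fun x hx => proj_eq_iff.mp ?_⟩
    have h1 := congrArg (fun b : MulAut (E.map (QuotientGroup.mk' T)) => ap b (QuotientGroup.mk' T x)) hq
    simp only at h1
    rw [ap_conj _ (Subgroup.mem_map_of_mem _ hx), push_apply hTE hT _ hx] at h1
    rw [map_mul, map_mul, map_inv, ← h1]
  refine ⟨?_, hle, hgen, hsyl, hnp, ?_⟩
  · rw [Subgroup.index_map_eq _ hs (by rw [QuotientGroup.ker_mk']; exact hTE)]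
    exact hV.index
  · intro q hq
    obtain ⟨g, rfl⟩ := hs q
    by_contra hqE
    have hgE : g ∉ E := fun h => hqE (Subgroup.mem_map_of_mem _ h)
    have hfix : ∀ x ∈ E, QuotientGroup.mk' T (g * x * g⁻¹) = QuotientGroup.mk' T x := fun x hx => by
      rw [map_mul, map_mul, map_inv, ← Subgroup.mem_centralizer_iff.mp hq _ (Subgroup.mem_map_of_mem _ hx),
        mul_inv_cancel_right]
    let C := (cq.comp ((QuotientGroup.mk' T).comp E.subtype)).range
    have hmem : ∀ k : P, push hTE hT ⟨_, hV.le k⟩ ∈ C := fun k => by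
      obtain ⟨i, e, he, rfl⟩ := exists_pow_mul hV.index hgE k
      refine ⟨⟨e, he⟩, ?_⟩
      rw [push_conj]
      show MulAut.conjNormal (QuotientGroup.mk' T e) = _
      refine (ext_map fun x hx => ?_).symm
      rw [ap_conj _ (Subgroup.mem_map_of_mem _ hx), ap_conj _ (Subgroup.mem_map_of_mem _ hx), map_mul, map_pow]
      have hc : Commute (QuotientGroup.mk' T g ^ i)
          (QuotientGroup.mk' T e * QuotientGroup.mk' T x * (QuotientGroup.mk' T e)⁻¹) := by
        refine (show Commute (QuotientGroup.mk' T g) _ from ?_).pow_left i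
        rw [← map_inv, ← map_mul, ← map_mul]
        exact ((Subgroup.mem_centralizer_iff.mp hq _
          (Subgroup.mem_map_of_mem _ ((inferInstance : E.Normal).conj_mem x hx e))).symm)
      rw [mul_inv_rev, ← mul_assoc, mul_assoc _ (QuotientGroup.mk' T e) (QuotientGroup.mk' T x),
        mul_assoc (QuotientGroup.mk' T g ^ i) _ ((QuotientGroup.mk' T e)⁻¹), hc.eq, mul_inv_cancel_right]
    have hCle : C ≤ (push hTE hT).range := by
      rintro _ ⟨e, rfl⟩
      exact ⟨⟨_, hV.le (e : P)⟩, push_conj hTE hT _ _⟩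
    have hCn : ∀ a ∈ (push hTE hT).range, ∀ b ∈ C, a * b * a⁻¹ ∈ C := by
      rintro _ ⟨a, rfl⟩ _ ⟨e, rfl⟩
      refine ⟨⟨ap (a : MulAut E) e, ap_mem _ e.2⟩, ?_⟩
      show MulAut.conjNormal (QuotientGroup.mk' T (ap (a : MulAut E) (e : P))) =
        push hTE hT a * MulAut.conjNormal (QuotientGroup.mk' T (e : P)) * (push hTE hT a)⁻¹
      rw [conj_conjNormal _ (Subgroup.mem_map_of_mem _ e.2), push_apply hTE hT _ e.2]
    have hCeq := hgen C hCle (fun q => by
      obtain ⟨k, rfl⟩ := hs q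
      have := hmem k
      rwa [push_conj] at this) hCn
    refine hnp ?_
    rw [← hCeq]
    exact (hP.to_subgroup E).of_surjective _
      (cq.comp ((QuotientGroup.mk' T).comp E.subtype)).rangeRestrict_surjective

variable {E₁ E₂ : Subgroup P} [E₁.Normal] [E₂.Normal] {L₁ : Subgroup (MulAut E₁)} {L₂ : Subgroup (MulAut E₂)}

/-- The largest common subgroup. -/
def maxCommon (L₁ : Subgroup (MulAut E₁)) (L₂ : Subgroup (MulAut E₂)) : Subgroup P :=
  Subgroup.closure {x | ∃ D, Common L₁ L₂ D ∧ x ∈ D}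

omit hp [E₁.Normal] [E₂.Normal] [Finite P] in
theorem le_maxCommon {D : Subgroup P} (hD : Common L₁ L₂ D) : D ≤ maxCommon L₁ L₂ := fun _ hx =>
  Subgroup.subset_closure ⟨D, hD, hx⟩

omit hp [E₁.Normal] [E₂.Normal] [Finite P] in
theorem maxCommon_common : Common L₁ L₂ (maxCommon L₁ L₂) := by
  have hle : maxCommon L₁ L₂ ≤ E₁ ⊓ E₂ := by
    rw [maxCommon, Subgroup.closure_le]
    rintro x ⟨D, hD, hx⟩
    exact hD.1 hx
  have key : ∀ {E : Subgroup P} (L : Subgroup (MulAut E)), maxCommon L₁ L₂ ≤ E →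
      (∀ D, Common L₁ L₂ D → Inv L D) → Inv L (maxCommon L₁ L₂) := by
    intro E L hE hinv a ha y hy
    have h : y ∈ E ∧ ap a y ∈ maxCommon L₁ L₂ := by
      refine Subgroup.closure_induction (p := fun y _ => y ∈ E ∧ ap a y ∈ maxCommon L₁ L₂) ?_ ?_ ?_ ?_ hy
      · rintro x ⟨D, hD, hx⟩
        exact ⟨hE (le_maxCommon hD hx), le_maxCommon hD (hinv D hD a ha x hx)⟩
      · exact ⟨one_mem _, by rw [ap_map_one]; exact one_mem _⟩
      · rintro x z - - ⟨hx, hx'⟩ ⟨hz, hz'⟩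
        exact ⟨mul_mem hx hz, by rw [ap_map_mul a hx hz]; exact mul_mem hx' hz'⟩
      · rintro x - ⟨hx, hx'⟩
        exact ⟨inv_mem hx, by rw [ap_map_inv a hx]; exact inv_mem hx'⟩
    exact h.2
  exact ⟨hle, key L₁ (hle.trans inf_le_left) fun D hD => hD.2.1,
    key L₂ (hle.trans inf_le_right) fun D hD => hD.2.2⟩

omit hp in
theorem maxCommon_normal [Fact p.Prime] (h : Duo p E₁ E₂ L₁ L₂) : (maxCommon L₁ L₂).Normal :=
  h.v₁.normal_of_inv (maxCommon_common.1.trans inf_le_left) maxCommon_common.2.1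

omit hp [E₂.Normal] in
/-- An extended torus element maps common subgroups to common subgroups. -/
theorem common_map [E₂.Normal] {φ : MulAut P} {n : MulAut E₁} (hn : n ∈ L₁) (hφn : ∀ x ∈ E₁, φ x = ap n x)
    (hφ2 : ∀ x ∈ E₂, φ x ∈ E₂) (hL : ∀ a ∈ L₂, ∃ b ∈ L₂, ∀ x ∈ E₂, φ (ap a x) = ap b (φ x))
    {D : Subgroup P} (hD : Common L₁ L₂ D) : Common L₁ L₂ (D.map φ.toMonoidHom) := by
  refine ⟨?_, ?_, ?_⟩
  · rintro _ ⟨x, hx, rfl⟩
    exact ⟨by show φ x ∈ E₁; rw [hφn x (hD.1 hx).1]; exact ap_mem n (hD.1 hx).1, hφ2 x (hD.1 hx).2⟩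
  · rintro b hb _ ⟨x, hx, rfl⟩
    have hb' : n⁻¹ * b * n ∈ L₁ := L₁.mul_mem (L₁.mul_mem (inv_mem hn) hb) hn
    refine ⟨ap (n⁻¹ * b * n) x, hD.2.1 _ hb' x hx, ?_⟩
    show φ _ = ap b (φ x)
    rw [hφn x (hD.1 hx).1, hφn _ (ap_mem _ (hD.1 hx).1), ap_mul, ap_mul, ap_self_inv]
  · rintro b hb _ ⟨x, hx, rfl⟩
    obtain ⟨a, ha, hab⟩ := Torus.exists_pre hL b hb
    exact ⟨ap a x, hD.2.2 a ha x hx, hab x (hD.1 hx).2⟩

omit [E₂.Normal] in
/-- The extension property passes to the quotient. -/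
theorem torus_image [E₂.Normal] (hP : IsPGroup p P) (h₁ : Vertex p E₁ L₁) (ht : Torus E₁ E₂ L₁ L₂)
    {T : Subgroup P} [T.Normal] (hT : Common L₁ L₂ T) (hmax : ∀ D, Common L₁ L₂ D → D ≤ T) :
    Torus (E₁.map (QuotientGroup.mk' T)) (E₂.map (QuotientGroup.mk' T))
      (push (hT.1.trans inf_le_left) hT.2.1).range (push (hT.1.trans inf_le_right) hT.2.2).range := by
  rintro _ ⟨n₀, rfl⟩ hnU
  set ρ := push (hT.1.trans inf_le_left) hT.2.1
  let cj : P →* MulAut E₁ := MulAut.conjNormal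
  have hUp : IsPGroup p (cj.range.subgroupOf L₁) := by
    refine IsPGroup.of_equiv (hP.of_surjective cj.rangeRestrict cj.rangeRestrict_surjective)
      (Subgroup.subgroupOfEquivOfLe (H := cj.range) (K := L₁) ?_).symm
    rintro _ ⟨g, rfl⟩; exact h₁.le g
  obtain ⟨m, hm, hmU⟩ := exists_normalizing_lift ρ hUp h₁.sylow (n := n₀) fun u hu => by
    obtain ⟨g, hg⟩ := hu
    obtain ⟨q, hq⟩ := hnU (QuotientGroup.mk' T g)
    obtain ⟨k, rfl⟩ := QuotientGroup.mk'_surjective T q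
    refine ⟨⟨_, h₁.le k⟩, ⟨k, rfl⟩, ?_⟩
    rw [push_conj, hq, map_mul, map_mul, map_inv, show u = ⟨_, h₁.le g⟩ from Subtype.ext hg.symm, push_conj]
  obtain ⟨φ, hφn, hφ2, hφL⟩ := ht (m : MulAut E₁) m.2 fun g => hmU ⟨cj g, h₁.le g⟩ ⟨g, rfl⟩
  have hTmap : T.map φ.toMonoidHom = T := Subgroup.eq_of_le_of_card_ge
    (hmax _ (common_map m.2 hφn hφ2 hφL hT)) (Subgroup.card_map_of_injective φ.injective).ge
  refine ⟨QuotientGroup.congr T T φ hTmap, ?_, ?_, ?_⟩
  · rintro _ ⟨x, hx, rfl⟩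
    rw [← hm, push_apply _ _ _ hx, ← hφn x hx]
    rfl
  · rintro _ ⟨x, hx, rfl⟩
    exact ⟨φ x, hφ2 x hx, rfl⟩
  · rintro _ ⟨a, rfl⟩
    obtain ⟨b, hb, hab⟩ := hφL (a : MulAut E₂) a.2
    refine ⟨_, ⟨⟨b, hb⟩, rfl⟩, ?_⟩
    rintro _ ⟨x, hx, rfl⟩
    rw [push_apply _ _ _ hx]
    show QuotientGroup.mk' T (φ (ap (a : MulAut E₂) x)) = ap _ (QuotientGroup.mk' T (φ x))
    rw [push_apply _ _ _ (hφ2 x hx), hab x hx]

/-- The pair modulo the largest common subgroup is free. -/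
theorem Pair.image (hP : IsPGroup p P) (hr : SectionalPRankLE p 3 P) (h : Pair p E₁ E₂ L₁ L₂) {T : Subgroup P}
    [T.Normal] (hT : Common L₁ L₂ T) (hmax : ∀ D, Common L₁ L₂ D → D ≤ T) :
    Pair p (E₁.map (QuotientGroup.mk' T)) (E₂.map (QuotientGroup.mk' T))
        (push (hT.1.trans inf_le_left) hT.2.1).range (push (hT.1.trans inf_le_right) hT.2.2).range ∧
      Free (push (hT.1.trans inf_le_left) hT.2.1).range (push (hT.1.trans inf_le_right) hT.2.2).range := by
  have hT1 : T ≤ E₁ := hT.1.trans inf_le_left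
  have hT2 : T ≤ E₂ := hT.1.trans inf_le_right
  refine ⟨⟨⟨h.v₁.image hP hT1 hT.2.1 (h.not_actsInner hP hr hT),
    h.v₂.image hP hT2 hT.2.2 (h.symm.not_actsInner hP hr hT.symm), fun e => h.ne ?_⟩, ?_, ?_⟩, ?_⟩
  · exact le_antisymm (fun x hx => (mem_map_mk_iff hT2).mp (e.le (Subgroup.mem_map_of_mem _ hx)))
      fun x hx => (mem_map_mk_iff hT1).mp (e.ge (Subgroup.mem_map_of_mem _ hx))
  · exact torus_image hP h.v₁ h.t₁ hT hmax
  · exact torus_image hP h.v₂ h.t₂ hT.symm fun D hD => hmax D hD.symm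
  intro D hD
  have hC : Common L₁ L₂ (D.comap (QuotientGroup.mk' T)) := by
    refine ⟨fun x hx => ⟨(mem_map_mk_iff hT1).mp (hD.1 hx).1, (mem_map_mk_iff hT2).mp (hD.1 hx).2⟩, ?_, ?_⟩
    · intro a ha x hx
      have hxE : x ∈ E₁ := (mem_map_mk_iff hT1).mp (hD.1 hx).1
      have := hD.2.1 _ ⟨⟨a, ha⟩, rfl⟩ _ hx
      rwa [push_apply _ _ _ hxE] at this
    · intro a ha x hx
      have hxE : x ∈ E₂ := (mem_map_mk_iff hT2).mp (hD.1 hx).2
      have := hD.2.2 _ ⟨⟨a, ha⟩, rfl⟩ _ hx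
      rwa [push_apply _ _ _ hxE] at this
  rw [eq_bot_iff]
  intro q hq
  obtain ⟨x, rfl⟩ := QuotientGroup.mk'_surjective T q
  exact Subgroup.mem_bot.mpr ((QuotientGroup.eq_one_iff x).mpr (hmax _ hC hq))

end CfsgLib.RankThreePair
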