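import Cfsg.Agent.Lib.Fusion.RankThreePair.Tools

/-!
The standing facts about a pair of vertices, and the possible shapes of a free pair.
-/

set_option autoImplicit false

namespace CfsgLib.RankThreePair

open Cfsg
open scoped commutatorElement

variable {P : Type*} [Group P] {p : ℕ} [hp : Fact p.Prime]

/-- The shape of order `p^4`: `E₁` elementary abelian of order `p³`, `E₂` extraspecial of exponent `p`. -/
structure DataB (p : ℕ) {E₁ E₂ : Subgroup P} (L₁ : Subgroup (MulAut E₁)) (x y a d : P) : Prop where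
  card : Nat.card P = p ^ 4
  card₁ : Nat.card E₁ = p ^ 3
  card₂ : Nat.card E₂ = p ^ 3
  xE : x ∈ E₁
  xE' : x ∉ E₂
  yE : y ∈ E₂
  yE' : y ∉ E₁
  aD : a ∈ E₁ ⊓ E₂
  dD : d ∈ E₁ ⊓ E₂
  comm₁ : ∀ u ∈ E₁, ∀ v ∈ E₁, u * v = v * u
  exp₁ : ∀ u ∈ E₁, u ^ p = 1
  exp₂ : ∀ u ∈ E₂, u ^ p = 1
  yx : y * x * y⁻¹ = x * a
  ya : y * a * y⁻¹ = a * d
  d1 : d ≠ 1
  dZ : ∀ g : P, g * d = d * g
  irr : ¬ Inv L₁ (E₁ ⊓ E₂)

/-- The shape of order `p³`. -/
structure DataA (p : ℕ) (E₁ E₂ : Subgroup P) : Prop where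
  card : Nat.card P = p ^ 3
  card₁ : Nat.card E₁ = p ^ 2
  card₂ : Nat.card E₂ = p ^ 2
  comm₁ : ∀ u ∈ E₁, ∀ v ∈ E₁, u * v = v * u
  comm₂ : ∀ u ∈ E₂, ∀ v ∈ E₂, u * v = v * u
  exp₁ : ∀ u ∈ E₁, u ^ p = 1
  exp₂ : ∀ u ∈ E₂, u ^ p = 1

variable [Finite P] {E₁ E₂ : Subgroup P} [E₁.Normal] [E₂.Normal] {L₁ : Subgroup (MulAut E₁)}
  {L₂ : Subgroup (MulAut E₂)}

omit hp [E₁.Normal] [E₂.Normal] in
theorem card_mul_index' (E : Subgroup P) (h : E.index = p) : Nat.card E * p = Nat.card P := by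
  rw [← h, Subgroup.card_mul_index]

omit hp in
theorem Vertex.conj_pow_mem {E : Subgroup P} [E.Normal] {L : Subgroup (MulAut E)} (h : Vertex p E L) (x : P) :
    x ^ p ∈ E := by rw [← h.index]; exact E.pow_index_mem x

theorem Vertex.commutator_mem {E : Subgroup P} [E.Normal] {L : Subgroup (MulAut E)} (h : Vertex p E L) (x y : P) :
    ⁅x, y⁆ ∈ E := by
  have hc : Nat.card (P ⧸ E) = p := by rw [← Subgroup.index_eq_card, h.index]
  haveI := isCyclic_of_prime_card hc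
  exact (Subgroup.Normal.quotient_commutative_iff_commutator_le (N := E)).mp IsCyclic.isMulCommutative
    (Subgroup.commutator_mem_commutator (Subgroup.mem_top x) (Subgroup.mem_top y))

theorem Vertex.conj_quot_mem {E : Subgroup P} [E.Normal] {L : Subgroup (MulAut E)} (h : Vertex p E L) (g x : P) :
    x⁻¹ * (g * x * g⁻¹) ∈ E := by
  have := h.commutator_mem x⁻¹ g
  rw [commutatorElement_def, inv_inv] at this
  simpa [mul_assoc] using this

namespace Duo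

variable (h : Duo p E₁ E₂ L₁ L₂)
include h

omit hp in
theorem card_eq [Fact p.Prime] : Nat.card E₁ = Nat.card E₂ := by
  have h1 := card_mul_index' E₁ h.v₁.index
  have h2 := card_mul_index' E₂ h.v₂.index
  exact Nat.eq_of_mul_eq_mul_right (Fact.out : p.Prime).pos (h1.trans h2.symm)

theorem not_le₁ : ¬ E₁ ≤ E₂ := fun hle => h.ne (Subgroup.eq_of_le_of_card_ge hle h.card_eq.ge)

theorem card₁ : Nat.card E₁ = p * Nat.card (E₁ ⊓ E₂ : Subgroup P) := card_inf_index h.v₂.index h.not_le₁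

theorem card₂ : Nat.card E₂ = p * Nat.card (E₁ ⊓ E₂ : Subgroup P) := by rw [← h.card_eq, h.card₁]

theorem card_P : Nat.card P = p * p * Nat.card (E₁ ⊓ E₂ : Subgroup P) := by
  rw [← card_mul_index' E₁ h.v₁.index, h.card₁]; ring

theorem quot_mem (g x : P) : x⁻¹ * (g * x * g⁻¹) ∈ E₁ ⊓ E₂ :=
  ⟨h.v₁.conj_quot_mem g x, h.v₂.conj_quot_mem g x⟩

/-- Whatever commutes with both vertices is central. -/
theorem central_of_commute {z : P} (h₁ : ∀ u ∈ E₁, u * z = z * u) (h₂ : ∀ u ∈ E₂, u * z = z * u) :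
    z ∈ Subgroup.center P := by
  obtain ⟨y, hy, hy'⟩ := SetLike.not_le_iff_exists.mp h.symm.not_le₁
  refine Subgroup.mem_center_iff.mpr fun g => ?_
  obtain ⟨i, e, he, rfl⟩ := exists_pow_mul h.v₁.index hy' g
  exact ((show Commute (y ^ i) z from h₂ _ (E₂.pow_mem hy i)).mul_left (h₁ e he)).eq

omit hp in
theorem omZ_le [Fact p.Prime] : omZ p P ≤ E₁ ⊓ E₂ := fun x hx =>
  ⟨h.v₁.centric (Subgroup.mem_centralizer_iff.mpr fun y _ => Subgroup.mem_center_iff.mp hx.1 y),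
    h.v₂.centric (Subgroup.mem_centralizer_iff.mpr fun y _ => Subgroup.mem_center_iff.mp hx.1 y)⟩

theorem not_inv_omZ (hP : IsPGroup p P) (hF : Free L₁ L₂) : ¬ Inv L₁ (omZ p P) ∨ ¬ Inv L₂ (omZ p P) := by
  by_contra hh
  simp only [not_or, not_not] at hh
  have hb := hF _ ⟨h.omZ_le, hh.1, hh.2⟩
  have hnt : Nontrivial P := by
    refine Finite.one_lt_card_iff_nontrivial.mp ?_
    rw [h.card_P]
    have := (Fact.out : p.Prime).two_le
    have := Nat.card_pos (α := (E₁ ⊓ E₂ : Subgroup P))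
    nlinarith
  obtain ⟨z, -, hz, hz1⟩ := exists_mem_omZ hP (N := (⊤ : Subgroup P)) (fun e => by
    obtain ⟨a, b, hab⟩ := hnt
    exact hab ((Subgroup.mem_bot.mp (e.le (Subgroup.mem_top a))).trans
      (Subgroup.mem_bot.mp (e.le (Subgroup.mem_top b))).symm))
  exact hz1 (Subgroup.mem_bot.mp (hb.le hz))

end Duo

/-- The facts about the orbit `V` of `Ω₁ Z(P)` under `L₁`. -/
structure Orbit (p : ℕ) (L₁ : Subgroup (MulAut E₁)) (V : Subgroup P) : Prop where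
  eq : V = orb L₁ (omZ p P)
  leE : V ≤ E₁
  inv : Inv L₁ V
  omle : omZ p P ≤ V
  omlt : omZ p P < V
  exp : ∀ v ∈ V, v ^ p = 1
  comm : ∀ v ∈ V, ∀ e ∈ E₁, e * v = v * e
  card_le : Nat.card V ≤ p ^ 3
  fixed : ∀ v ∈ V, ∀ g ∉ E₁, g * v = v * g → v ∈ omZ p P
  cent : ∀ g : P, (∀ v ∈ V, g * v = v * g) → g ∈ E₁

omit [E₂.Normal] in
theorem Duo.orbit [E₂.Normal] (hr : SectionalPRankLE p 3 P) (h : Duo p E₁ E₂ L₁ L₂)
    (hm : ¬ Inv L₁ (omZ p P)) : Orbit p L₁ (orb L₁ (omZ p P)) := by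
  have hle : omZ p P ≤ E₁ := h.omZ_le.trans inf_le_left
  have hVO : orb L₁ (omZ p P) ≤ omC p E₁ := orb_le fun a ha x hx =>
    inv_omC L₁ a ha x ⟨hle hx, fun y _ => Subgroup.mem_center_iff.mp hx.1 y, hx.2⟩
  have hfixed : ∀ v ∈ orb L₁ (omZ p P), ∀ g ∉ E₁, g * v = v * g → v ∈ omZ p P := fun v hv g hg hgv => by
    refine ⟨Subgroup.mem_center_iff.mpr fun k => ?_, (hVO hv).2.2⟩
    obtain ⟨i, e, he, rfl⟩ := exists_pow_mul h.v₁.index hg k
    exact (((show Commute g v from hgv).pow_left i).mul_left ((hVO hv).2.1 e he)).eq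
  have hlt : omZ p P < orb L₁ (omZ p P) :=
    lt_of_le_of_ne (le_orb _ _) fun e => hm (e ▸ inv_orb L₁ hle)
  refine ⟨rfl, fun x hx => (hVO hx).1, inv_orb L₁ hle, le_orb _ _, hlt, fun v hv => (hVO hv).2.2,
    fun v hv => (hVO hv).2.1, card_le_of_elementary hr _ (fun x hx y hy => ((hVO hy).2.1 x (hVO hx).1))
      (fun x hx => (hVO hx).2.2), hfixed, fun g hg => ?_⟩
  by_contra hgE
  exact hlt.not_ge fun v hv => hfixed v hv g hgE (hg v hv)

end CfsgLib.RankThreePair
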