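import Cfsg.Agent.Lib.Fusion.RankThreePair.Engine
import Cfsg.Agent.Lib.Fusion.RankThreePair.Quotient
import Cfsg.Agent.Lib.Fusion.RankThreePair.Central

/-!
A pair modulo its largest common subgroup: that subgroup is central, and it is trivial unless
both vertices are abelian.
-/

set_option autoImplicit false
set_option maxHeartbeats 1600000

namespace CfsgLib.RankThreePair

open Cfsg
open scoped commutatorElement

variable {P : Type*} [Group P] [Finite P] {p : ℕ} [hp : Fact p.Prime] {E₁ E₂ : Subgroup P} [E₁.Normal] [E₂.Normal]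
  {L₁ : Subgroup (MulAut E₁)} {L₂ : Subgroup (MulAut E₂)}

section quotient

variable {T : Subgroup P} [T.Normal]

omit hp [E₁.Normal] [E₂.Normal] in
theorem card_map_mk {A : Subgroup P} (hA : T ≤ A) :
    Nat.card A = Nat.card (A.map (QuotientGroup.mk' T)) * Nat.card T := by
  let π := QuotientGroup.mk' T
  have h1 := Subgroup.card_mul_index ((π.comp A.subtype).ker)
  rw [Subgroup.index_ker, MonoidHom.range_comp, Subgroup.range_subtype] at h1
  have h2 : Nat.card (π.comp A.subtype).ker = Nat.card T := by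
    rw [← MonoidHom.comap_ker, QuotientGroup.ker_mk']
    exact Nat.card_congr (Subgroup.subgroupOfEquivOfLe hA).toEquiv
  rw [← h1, h2, mul_comm]

omit hp [E₁.Normal] [E₂.Normal] [Finite P] in
theorem inf_map_mk (h₁ : T ≤ E₁) (h₂ : T ≤ E₂) :
    E₁.map (QuotientGroup.mk' T) ⊓ E₂.map (QuotientGroup.mk' T) = (E₁ ⊓ E₂).map (QuotientGroup.mk' T) := by
  refine le_antisymm ?_ (le_inf (Subgroup.map_mono inf_le_left) (Subgroup.map_mono inf_le_right))
  rintro q ⟨hq1, hq2⟩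
  obtain ⟨x, rfl⟩ := QuotientGroup.mk'_surjective T q
  exact Subgroup.mem_map_of_mem _ ⟨(mem_map_mk_iff h₁).mp hq1, (mem_map_mk_iff h₂).mp hq2⟩

omit hp [E₂.Normal] [Finite P] [E₁.Normal] in
theorem inv_map_mk {L : Subgroup (MulAut E₁)} (hTE : T ≤ E₁) (hT : Inv L T) {Q : Subgroup P} (hQE : Q ≤ E₁)
    (hQ : Inv L Q) : Inv (push hTE hT).range (Q.map (QuotientGroup.mk' T)) := by
  rintro _ ⟨a, rfl⟩ _ ⟨x, hx, rfl⟩
  rw [push_apply hTE hT a (hQE hx)]
  exact Subgroup.mem_map_of_mem _ (hQ _ a.2 x hx)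

omit hp [E₂.Normal] [Finite P] [E₁.Normal] in
theorem inv_of_map_mk {L : Subgroup (MulAut E₁)} (hTE : T ≤ E₁) (hT : Inv L T) {Q : Subgroup P} (hTQ : T ≤ Q)
    (hQE : Q ≤ E₁) (hQ : Inv (push hTE hT).range (Q.map (QuotientGroup.mk' T))) : Inv L Q := by
  intro a ha x hx
  have := hQ _ ⟨⟨a, ha⟩, rfl⟩ _ (Subgroup.mem_map_of_mem _ hx)
  rw [push_apply hTE hT _ (hQE hx)] at this
  exact (mem_map_mk_iff hTQ).mp this

omit hp [E₂.Normal] [E₁.Normal] [Finite P] in
/-- An irreducibility statement passes to the preimage. -/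
theorem irr_of_map {L : Subgroup (MulAut E₁)} (hTE : T ≤ E₁) (hT : Inv L T)
    (h : Irr (E₁.map (QuotientGroup.mk' T)) (push hTE hT).range ⊥) : Irr E₁ L T := by
  intro Q hTQ hQE hQ
  rcases h (Q.map (QuotientGroup.mk' T)) bot_le (Subgroup.map_mono hQE) (inv_map_mk hTE hT hQE hQ) with h1 | h1
  · refine Or.inl (le_antisymm (fun x hx => ?_) hTQ)
    exact (QuotientGroup.eq_one_iff x).mp (Subgroup.mem_bot.mp (h1.le (Subgroup.mem_map_of_mem _ hx)))
  · exact Or.inr (le_antisymm hQE fun x hx => (mem_map_mk_iff hTQ).mp (h1.ge (Subgroup.mem_map_of_mem _ hx)))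

end quotient

/-- In an abelian vertex of order `p²` there is no invariant subgroup of order `p`. -/
theorem Vertex.irr_of_card {E : Subgroup P} [E.Normal] {L : Subgroup (MulAut E)} (hV : Vertex p E L)
    (hP : IsPGroup p P) (hc : Nat.card E = p ^ 2) : Irr E L ⊥ := by
  have hp' : p.Prime := hp.out
  intro Q _ hQE hQ
  by_contra hh
  simp only [not_or] at hh
  have hQn : Q.Normal := hV.normal_of_inv hQE hQ
  have h1 := mul_card_le_of_lt hP (bot_lt_iff_ne_bot.mpr hh.1)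
  have h2 := mul_card_le_of_lt hP (lt_of_le_of_ne hQE hh.2)
  rw [Subgroup.card_bot, mul_one] at h1
  rw [hc, pow_two] at h2
  have hQc : Nat.card Q = p := le_antisymm (Nat.le_of_mul_le_mul_left h2 hp'.pos) h1
  refine hV.false_of_chain hP (n := 2) (fun i => if i = 0 then ⊥ else if i = 1 then Q else E) (by simp) (by simp)
    (fun i hi => by rcases (show i = 0 ∨ i = 1 by omega) with rfl | rfl <;> simp [hQE])
    (fun i hi => by
      rcases (show i = 0 ∨ i = 1 ∨ i = 2 by omega) with rfl | rfl | rfl <;> simp [inv_bot, hQ, inv_self])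
    fun g i hi x hx => ?_
  rcases (show i = 0 ∨ i = 1 by omega) with rfl | rfl
  · exact conj_mem_step hP (bot_le : ⊥ ≤ Q) (by rw [hQc, Subgroup.card_bot, mul_one]) g (by simpa using hx)
  · exact conj_mem_step hP hQE (by rw [hc, hQc, pow_two]) g (by simpa using hx)

namespace DataB

variable {x y a d : P}

omit hp [Finite P] [E₁.Normal] [E₂.Normal] in
theorem a_not_mem (h : DataB p (E₂ := E₂) L₁ x y a d) : a ∉ Subgroup.zpowers d := by
  intro ha
  obtain ⟨i, hi⟩ := Subgroup.mem_zpowers_iff.mp ha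
  refine h.d1 ?_
  have h1 := h.ya
  rw [← hi, ((show Commute y d from h.dZ y).zpow_right i).eq, mul_inv_cancel_right] at h1
  exact left_eq_mul.mp h1

theorem card_d (h : DataB p (E₂ := E₂) L₁ x y a d) : Nat.card (Subgroup.zpowers d) = p := by
  rw [Nat.card_zpowers, orderOf_eq_prime (h.exp₁ d h.dD.1) h.d1]

theorem gen_inf (h : DataB p (E₂ := E₂) L₁ x y a d) (hp' : Pair p E₁ E₂ L₁ L₂) :
    Subgroup.zpowers d ⊔ Subgroup.zpowers a = E₁ ⊓ E₂ := by
  refine sup_zpowers_eq (p := p) (Subgroup.zpowers_le.mpr h.dD) ?_ h.aD h.a_not_mem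
  have := hp'.card₁
  rw [h.card₁, pow_succ'] at this
  rw [← Nat.eq_of_mul_eq_mul_left hp.out.pos this, h.card_d, pow_two]

theorem omC_eq (h : DataB p (E₂ := E₂) L₁ x y a d) (hp' : Pair p E₁ E₂ L₁ L₂) (hP : IsPGroup p P) :
    omC p E₂ = Subgroup.zpowers d := by
  have hle : Subgroup.zpowers d ≤ omC p E₂ :=
    Subgroup.zpowers_le.mpr ⟨h.dD.2, fun u _ => h.dZ u, h.exp₂ d h.dD.2⟩
  by_contra hne
  have h1 := mul_card_le_of_lt hP (lt_of_le_of_ne hle (Ne.symm hne))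
  rw [h.card_d] at h1
  have hy : y ∉ omC p E₂ := fun hy => by
    have h2 := h.ya
    rw [← hy.2.1 a h.aD.2, mul_inv_cancel_right] at h2
    exact h.d1 (left_eq_mul.mp h2)
  have h2 := mul_card_le_of_lt hP (lt_of_le_of_ne (le_sup_left : omC p E₂ ≤ omC p E₂ ⊔ Subgroup.zpowers y)
    fun e => hy (e.ge (Subgroup.mem_sup_right (Subgroup.mem_zpowers y))))
  have htop : omC p E₂ ⊔ Subgroup.zpowers y = E₂ := by
    refine Subgroup.eq_of_le_of_card_ge (sup_le (fun u hu => hu.1) (Subgroup.zpowers_le.mpr h.yE)) ?_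
    rw [h.card₂, pow_succ', pow_two]
    exact (Nat.mul_le_mul_left p h1).trans h2
  have hle2 : omC p E₂ ⊔ Subgroup.zpowers y ≤ Subgroup.centralizer {y} := sup_le
    (fun u hu => Subgroup.mem_centralizer_singleton_iff.mpr (hu.2.1 y h.yE).symm)
    (Subgroup.zpowers_le.mpr (Subgroup.mem_centralizer_singleton_iff.mpr rfl))
  have h3 := Subgroup.mem_centralizer_singleton_iff.mp (hle2 (htop.ge h.aD.2))
  have h4 := h.ya
  rw [← h3, mul_inv_cancel_right] at h4
  exact h.d1 (left_eq_mul.mp h4)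

theorem omZ_eq (h : DataB p (E₂ := E₂) L₁ x y a d) (hp' : Pair p E₁ E₂ L₁ L₂) (hP : IsPGroup p P) :
    omZ p P = Subgroup.zpowers d := by
  refine le_antisymm (fun z hz => (h.omC_eq hp' hP).le
    ⟨(hp'.omZ_le hz).2, fun u _ => Subgroup.mem_center_iff.mp hz.1 u, hz.2⟩) ?_
  exact Subgroup.zpowers_le.mpr ⟨Subgroup.mem_center_iff.mpr h.dZ, h.exp₁ d h.dD.1⟩

theorem irr₁ (h : DataB p (E₂ := E₂) L₁ x y a d) (hp' : Pair p E₁ E₂ L₁ L₂) (hP : IsPGroup p P)
    (hF : Free L₁ L₂) : Irr E₁ L₁ ⊥ := by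
  intro Q _ hQE hQ
  by_contra hh
  simp only [not_or] at hh
  have hQn : Q.Normal := hp'.v₁.normal_of_inv hQE hQ
  obtain ⟨z, hzQ, hz, hz1⟩ := exists_mem_omZ hP hh.1
  rw [h.omZ_eq hp' hP] at hz
  have hdQ : Subgroup.zpowers d ≤ Q := by
    refine Subgroup.zpowers_le.mpr ?_
    obtain ⟨k, hk⟩ := exists_zpow_eq h.card_d hz hz1 (Subgroup.mem_zpowers d)
    exact hk ▸ zpow_mem hzQ k
  have hne : Subgroup.zpowers d ≠ Q := fun e => by
    have h2 := hF Q ⟨e ▸ Subgroup.zpowers_le.mpr h.dD, hQ,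
      e ▸ (h.omC_eq hp' hP) ▸ inv_omC L₂⟩
    exact hh.1 h2
  have hp0 := hp.out.pos
  have h1 := mul_card_le_of_lt hP (lt_of_le_of_ne hdQ hne)
  have h2 := mul_card_le_of_lt hP (lt_of_le_of_ne hQE hh.2)
  rw [h.card_d] at h1
  rw [h.card₁, pow_succ', pow_two] at h2
  have hQc : Nat.card Q = p * p := le_antisymm (Nat.le_of_mul_le_mul_left h2 hp0) h1
  have hD₀c : Nat.card (E₁ ⊓ E₂ : Subgroup P) = p * p := by
    have := hp'.card₁
    rw [h.card₁, pow_succ', pow_two] at this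
    exact (Nat.eq_of_mul_eq_mul_left hp0 this).symm
  obtain ⟨q, hq, hqD⟩ := SetLike.not_le_iff_exists.mp (show ¬ Q ≤ E₁ ⊓ E₂ from fun hle =>
    h.irr (Subgroup.eq_of_le_of_card_ge hle (by rw [hQc, hD₀c]) ▸ hQ))
  have hgen : E₁ ⊓ E₂ ⊔ Subgroup.zpowers q = E₁ := sup_zpowers_eq inf_le_left hp'.card₁ (hQE hq) hqD
  have hQD : Q ⊓ (E₁ ⊓ E₂) = Subgroup.zpowers d := by
    by_contra hne'
    have := eq_of_lt_of_card (lt_of_le_of_ne (le_inf hdQ (Subgroup.zpowers_le.mpr h.dD)) (Ne.symm hne'))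
      inf_le_right (X := E₁ ⊓ E₂) (by rw [hD₀c, h.card_d])
    exact hqD ((Subgroup.eq_of_le_of_card_ge (inf_eq_right.mp this) (by rw [hQc, hD₀c])).ge hq)
  have hdn : (Subgroup.zpowers d).Normal := ⟨fun u hu g => by
    obtain ⟨i, rfl⟩ := Subgroup.mem_zpowers_iff.mp hu
    rw [((show Commute g d from h.dZ g).zpow_right i).eq, mul_inv_cancel_right]; exact hu⟩
  let π := QuotientGroup.mk' (Subgroup.zpowers d)
  have hT : ∀ u : P, u⁻¹ * (y * u * y⁻¹) ∈ Subgroup.zpowers d →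
      u ∈ (Subgroup.centralizer {π y}).comap π := fun u hu => by
    refine Subgroup.mem_centralizer_singleton_iff.mpr ?_
    have h3 : π (y * u * y⁻¹) = π u := (proj_eq_iff.mpr hu).symm
    rw [map_mul, map_mul, map_inv] at h3
    exact (mul_inv_eq_iff_eq_mul.mp h3).symm
  have hqT : q ∈ (Subgroup.centralizer {π y}).comap π :=
    hT q (hQD.le ⟨Q.mul_mem (Q.inv_mem hq) (hQn.conj_mem q hq y), hp'.quot_mem y q⟩)
  have hle : E₁ ≤ (Subgroup.centralizer {π y}).comap π := by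
    rw [← hgen, ← h.gen_inf hp']
    refine sup_le (sup_le ?_ ?_) (Subgroup.zpowers_le.mpr hqT)
    · refine Subgroup.zpowers_le.mpr (hT d ?_)
      rw [h.dZ y, mul_inv_cancel_right, inv_mul_cancel]; exact one_mem _
    · refine Subgroup.zpowers_le.mpr (hT a ?_)
      rw [h.ya, inv_mul_cancel_left]; exact Subgroup.mem_zpowers d
  have h4 := Subgroup.mem_centralizer_singleton_iff.mp (hle h.xE)
  refine h.a_not_mem ((QuotientGroup.eq_one_iff a).mp ?_)
  have h5 : π (y * x * y⁻¹) = π (x * a) := by rw [h.yx]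
  rw [map_mul, map_mul, map_mul, map_inv, ← h4, mul_inv_cancel_right] at h5
  exact left_eq_mul.mp h5

theorem not_inv₂ (h : DataB p (E₂ := E₂) L₁ x y a d) (hp' : Pair p E₁ E₂ L₁ L₂) (hP : IsPGroup p P) :
    ¬ Inv L₂ (E₁ ⊓ E₂) := by
  intro hI
  have hdinv : Inv L₂ (Subgroup.zpowers d) := h.omC_eq hp' hP ▸ inv_omC L₂
  have hdn : (Subgroup.zpowers d).Normal := hp'.v₂.normal_of_inv (Subgroup.zpowers_le.mpr h.dD.2) hdinv
  have hd₀ : Subgroup.zpowers d ≤ E₁ ⊓ E₂ := Subgroup.zpowers_le.mpr h.dD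
  have hD₀c : Nat.card (E₁ ⊓ E₂ : Subgroup P) = p * p := by
    have := hp'.card₁
    rw [h.card₁, pow_succ', pow_two] at this
    exact (Nat.eq_of_mul_eq_mul_left hp.out.pos this).symm
  refine hp'.v₂.false_of_chain hP (n := 3)
    (fun i => if i = 0 then ⊥ else if i = 1 then Subgroup.zpowers d else if i = 2 then E₁ ⊓ E₂ else E₂)
    (by simp) (by simp)
    (fun i hi => by rcases (show i = 0 ∨ i = 1 ∨ i = 2 by omega) with rfl | rfl | rfl <;> simp [hd₀])
    (fun i hi => by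
      rcases (show i = 0 ∨ i = 1 ∨ i = 2 ∨ i = 3 by omega) with rfl | rfl | rfl | rfl <;>
        simp [inv_bot, hdinv, hI, inv_self])
    fun g i hi u hu => ?_
  rcases (show i = 0 ∨ i = 1 ∨ i = 2 by omega) with rfl | rfl | rfl
  · exact conj_mem_step hP (bot_le : ⊥ ≤ Subgroup.zpowers d) (by rw [h.card_d, Subgroup.card_bot, mul_one]) g
      (by simpa using hu)
  · exact conj_mem_step hP hd₀ (by rw [hD₀c, h.card_d]) g (by simpa using hu)
  · exact conj_mem_step hP (inf_le_right : E₁ ⊓ E₂ ≤ E₂) hp'.card₂ g (by simpa using hu)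

end DataB

section quotient

variable {T : Subgroup P} [T.Normal]

/-- `P` is trivial on the Frattini quotient of `T` once it is not faithful. -/
theorem frConj_trivial (hP : IsPGroup p P) (h : Duo p E₁ E₂ L₁ L₂) (hT : Common L₁ L₂ T) (hirr : Irr E₁ L₁ T)
    (hD₀ : ¬ Inv L₂ (E₁ ⊓ E₂)) (hnf : (frConj T).ker ≠ T)
    (homZ : omZ p (P ⧸ T) ≤ E₁.map (QuotientGroup.mk' T)) : ∀ g, frConj T g = 1 := by
  set R := (frConj T).ker with hR
  have hTR : T ≤ R := fun t ht => frConj_eq_one_of_mem hP ht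
  have hT1 : T ≤ E₁ := hT.1.trans inf_le_left
  have hE₁ : E₁ ≤ R := by
    rcases hirr (E₁ ⊓ R) (le_inf hT1 hTR) inf_le_left (h.v₁.kerConj_inv hT1 hT.2.1) with h1 | h1
    · exfalso
      have hne : R.map (QuotientGroup.mk' T) ≠ ⊥ := fun e => hnf (le_antisymm (fun g hg =>
        (QuotientGroup.eq_one_iff g).mp (Subgroup.mem_bot.mp (e.le (Subgroup.mem_map_of_mem _ hg)))) hTR)
      have hn : (R.map (QuotientGroup.mk' T)).Normal :=
        Subgroup.Normal.map inferInstance _ (QuotientGroup.mk'_surjective T)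
      obtain ⟨q, hq, hqZ, hq1⟩ := exists_mem_omZ (hP.to_quotient T) hne
      obtain ⟨g, rfl⟩ := QuotientGroup.mk'_surjective T q
      refine hq1 ((QuotientGroup.eq_one_iff g).mpr (h1.le ⟨(mem_map_mk_iff hT1).mp (homZ hqZ), ?_⟩))
      exact (mem_map_mk_iff hTR).mp hq
    · exact h1 ▸ inf_le_right
  have hE₂ : E₂ ≤ R := by
    by_contra hne
    have hle : E₁ ⊓ E₂ ≤ E₂ ⊓ R := fun g hg => ⟨hg.2, hE₁ hg.1⟩
    have he : E₁ ⊓ E₂ = E₂ ⊓ R := by
      by_contra hne'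
      exact hne (inf_eq_left.mp (eq_of_lt_of_card (lt_of_le_of_ne hle hne') inf_le_left h.card₂))
    exact hD₀ (he ▸ h.v₂.kerConj_inv (hT.1.trans inf_le_right) hT.2.2)
  intro g
  obtain ⟨y, hy, hy'⟩ := SetLike.not_le_iff_exists.mp h.symm.not_le₁
  obtain ⟨i, e, he, rfl⟩ := exists_pow_mul h.v₁.index hy' g
  exact MonoidHom.mem_ker.mp (mul_mem (pow_mem (hE₂ hy) i) (hE₁ he))

/-- With one vertex elementary modulo `T`, the largest common subgroup is trivial. -/
theorem eq_bot_of_dataB (hP : IsPGroup p P) (hr : SectionalPRankLE p 3 P) (h : Pair p E₁ E₂ L₁ L₂)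
    (hT : Common L₁ L₂ T) {K₁ : Subgroup (MulAut (E₁.map (QuotientGroup.mk' T)))}
    {K₂ : Subgroup (MulAut (E₂.map (QuotientGroup.mk' T)))}
    (hK₁ : K₁ = (push (hT.1.trans inf_le_left) hT.2.1).range)
    (hK₂ : K₂ = (push (hT.1.trans inf_le_right) hT.2.2).range)
    (hbar : Pair p (E₁.map (QuotientGroup.mk' T)) (E₂.map (QuotientGroup.mk' T)) K₁ K₂) (hFbar : Free K₁ K₂)
    {xq yq aq dq : P ⧸ T} (hD : DataB p (E₂ := E₂.map (QuotientGroup.mk' T)) K₁ xq yq aq dq) : T = ⊥ := by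
  have hp' : p.Prime := hp.out
  have hPbar := hP.to_quotient T
  have hT1 : T ≤ E₁ := hT.1.trans inf_le_left
  have hT2 : T ≤ E₂ := hT.1.trans inf_le_right
  let π := QuotientGroup.mk' T
  have hirr : Irr E₁ L₁ T := irr_of_map hT1 hT.2.1 (hK₁ ▸ hD.irr₁ hbar hPbar hFbar)
  have hD₀ : ¬ Inv L₂ (E₁ ⊓ E₂) := fun hI => hD.not_inv₂ hbar hPbar (by
    rw [inf_map_mk hT1 hT2, hK₂]; exact inv_map_mk hT2 hT.2.2 inf_le_right hI)
  have hnf : (frConj T).ker ≠ T := by
    intro hker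
    obtain ⟨hM, hMc, hcard⟩ := frAct_card hP hr T
    let _ : CommGroup (T ⧸ frattini T) := { (inferInstance : Group (T ⧸ frattini T)) with mul_comm := hMc }
    have : Finite (MulAut (T ⧸ frattini T)) :=
      Finite.of_injective (fun f : MulAut (T ⧸ frattini T) => (f : (T ⧸ frattini T) → (T ⧸ frattini T)))
        DFunLike.coe_injective
    refine not_pow_four_dvd hM hcard ?_
    have h4 : T.index ∣ Nat.card (MulAut (T ⧸ frattini T)) := by
      rw [show T.index = (frConj T).ker.index from (congrArg Subgroup.index hker).symm, Subgroup.index_ker]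
      exact Subgroup.card_subgroup_dvd_card _
    rw [Subgroup.index_eq_card, hD.card] at h4
    exact h4
  have hTcen : T ≤ Subgroup.center P := by
    refine le_center_of_trivial hP hr h.toDuo hT hirr hD₀ (fun u hu v hv => ?_) (fun u hu => ?_) ?_
      (frConj_trivial hP h.toDuo hT hirr hD₀ hnf (hbar.omZ_le.trans inf_le_left))
    · refine (QuotientGroup.eq_one_iff _).mp ?_
      show π ⁅u, v⁆ = 1
      rw [map_commutatorElement, commutatorElement_eq_one_iff_mul_comm]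
      exact hD.comm₁ _ (Subgroup.mem_map_of_mem π hu) _ (Subgroup.mem_map_of_mem π hv)
    · refine (QuotientGroup.eq_one_iff _).mp ?_
      show π (u ^ p) = 1
      rw [map_pow]
      exact hD.exp₁ _ (Subgroup.mem_map_of_mem π hu)
    · rw [card_map_mk hT1, hD.card₁]
      refine Nat.mul_le_mul_right _ ?_
      rw [← pow_two]
      exact Nat.pow_le_pow_right hp'.pos (by norm_num)
  have hTc : ∀ t ∈ T, ∀ g, g * t = t * g := fun t ht g => Subgroup.mem_center_iff.mp (hTcen ht) g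
  obtain ⟨x, hx⟩ := QuotientGroup.mk'_surjective T xq
  obtain ⟨y, hy⟩ := QuotientGroup.mk'_surjective T yq
  set a := x⁻¹ * (y * x * y⁻¹) with hadef
  set d := a⁻¹ * (y * a * y⁻¹) with hddef
  clear_value a d
  have hyx : y * x * y⁻¹ = x * a := by rw [hadef, mul_inv_cancel_left]
  have hya : y * a * y⁻¹ = a * d := by rw [hddef, mul_inv_cancel_left]
  have hπa : π a = aq := by
    rw [hadef, map_mul, map_inv, map_mul, map_mul, map_inv, hx, hy, hD.yx, inv_mul_cancel_left]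
  have hπd : π d = dq := by
    rw [hddef, map_mul, map_inv, map_mul, map_mul, map_inv, hπa, hy, hD.ya, inv_mul_cancel_left]
  have hxE : x ∈ E₁ := (mem_map_mk_iff hT1).mp (hx ▸ hD.xE)
  have haE : a ∈ E₁ := (mem_map_mk_iff hT1).mp (hπa ▸ hD.aD.1)
  have hdE : d ∈ E₁ := (mem_map_mk_iff hT1).mp (hπd ▸ hD.dD.1)
  have hcomm : ∀ u ∈ E₁, ∀ v ∈ E₁, ⁅u, v⁆ ∈ T := fun u hu v hv => by
    refine (QuotientGroup.eq_one_iff _).mp ?_
    show π ⁅u, v⁆ = 1
    rw [map_commutatorElement, commutatorElement_eq_one_iff_mul_comm]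
    exact hD.comm₁ _ (Subgroup.mem_map_of_mem π hu) _ (Subgroup.mem_map_of_mem π hv)
  obtain ⟨t, ht, hyd⟩ : ∃ t ∈ T, y * d * y⁻¹ = d * t := by
    refine ⟨d⁻¹ * (y * d * y⁻¹), proj_eq_iff.mp ?_, (mul_inv_cancel_left _ _).symm⟩
    show π d = π (y * d * y⁻¹)
    rw [map_mul, map_mul, map_inv, hπd, hy, hD.dZ yq, mul_inv_cancel_right]
  have hconj : ∀ {u v u' v' : P}, ⁅u, v⁆ ∈ T → y * u * y⁻¹ = u' → y * v * y⁻¹ = v' → ⁅u', v'⁆ = ⁅u, v⁆ :=
    fun {u v u' v'} hm hu hv => by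
      rw [← hu, ← hv, show ⁅y * u * y⁻¹, y * v * y⁻¹⁆ = y * ⁅u, v⁆ * y⁻¹ by
        simp only [commutatorElement_def]; group, hTc _ hm y, mul_inv_cancel_right]
  have hbil : ∀ {u v w : P}, u ∈ E₁ → v ∈ E₁ → w ∈ E₁ → ⁅u * v, w⁆ = ⁅u, w⁆ * ⁅v, w⁆ := fun {u v w} hu hv hw => by
    have e : ⁅u * v, w⁆ = u * ⁅v, w⁆ * u⁻¹ * ⁅u, w⁆ := by simp only [commutatorElement_def]; group
    rw [e, hTc _ (hcomm v hv w hw) u, mul_inv_cancel_right, hTc _ (hcomm u hu w hw)]
  have hbil' : ∀ {u v w : P}, u ∈ E₁ → v ∈ E₁ → w ∈ E₁ → ⁅u, v * w⁆ = ⁅u, v⁆ * ⁅u, w⁆ := fun {u v w} hu hv hw =>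
    comm_mul_right (hTc _ (hcomm u hu w hw) v)
  have htone : ∀ u, ⁅u, t⁆ = 1 := fun u => commutatorElement_eq_one_iff_mul_comm.mpr (hTc t ht u)
  have had : ⁅a, d⁆ = 1 := by
    have h1 := hconj (hcomm x hxE d hdE) hyx hyd
    rw [hbil hxE haE (mul_mem hdE (hT1 ht)), hbil' hxE hdE (hT1 ht), hbil' haE hdE (hT1 ht), htone, htone,
      mul_one, mul_one] at h1
    exact mul_eq_left.mp h1
  have hxd : ⁅x, d⁆ = 1 := by
    have h1 := hconj (hcomm x hxE a haE) hyx hya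
    rw [hbil hxE haE (mul_mem haE hdE), hbil' hxE haE hdE, hbil' haE haE hdE, commutatorElement_self, had,
      mul_one, mul_one] at h1
    exact mul_eq_left.mp h1
  set D₀ := E₁ ⊓ E₂
  have hgenD₀ : T ⊔ Subgroup.zpowers d ⊔ Subgroup.zpowers a = D₀ := by
    have hle : T ⊔ Subgroup.zpowers d ⊔ Subgroup.zpowers a ≤ D₀ := sup_le (sup_le hT.1
      (Subgroup.zpowers_le.mpr ⟨hdE, (mem_map_mk_iff hT2).mp (hπd ▸ hD.dD.2)⟩))
      (Subgroup.zpowers_le.mpr ⟨haE, (mem_map_mk_iff hT2).mp (hπa ▸ hD.aD.2)⟩)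
    refine le_antisymm hle fun u hu => ?_
    have h1 : π u ∈ Subgroup.zpowers dq ⊔ Subgroup.zpowers aq := by
      rw [hD.gen_inf hbar, inf_map_mk hT1 hT2]
      exact Subgroup.mem_map_of_mem π hu
    have hle2 : Subgroup.zpowers dq ⊔ Subgroup.zpowers aq ≤ (T ⊔ Subgroup.zpowers d ⊔ Subgroup.zpowers a).map π :=
      sup_le (Subgroup.zpowers_le.mpr ⟨d, Subgroup.mem_sup_left (Subgroup.mem_sup_right (Subgroup.mem_zpowers d)), hπd⟩)
        (Subgroup.zpowers_le.mpr ⟨a, Subgroup.mem_sup_right (Subgroup.mem_zpowers a), hπa⟩)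
    exact (mem_map_mk_iff (le_sup_left.trans le_sup_left)).mp (hle2 h1)
  have hxD : x ∉ D₀ := fun hh => hD.xE' (hx ▸ Subgroup.mem_map_of_mem π hh.2)
  have hgen₁ : D₀ ⊔ Subgroup.zpowers x = E₁ := sup_zpowers_eq inf_le_left h.card₁ hxE hxD
  -- the centre of `E₁` is `E₁`
  let Q : Subgroup P := E₁ ⊓ Subgroup.centralizer (E₁ : Set P)
  have hdQ : d ∈ Q := by
    refine ⟨hdE, Subgroup.mem_centralizer_iff.mpr fun u hu => ?_⟩
    have hle : D₀ ⊔ Subgroup.zpowers x ≤ Subgroup.centralizer {d} := by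
      rw [← hgenD₀]
      refine sup_le (sup_le (sup_le (fun s hs => ?_) (Subgroup.zpowers_le.mpr ?_)) (Subgroup.zpowers_le.mpr ?_))
        (Subgroup.zpowers_le.mpr ?_) <;> rw [Subgroup.mem_centralizer_singleton_iff]
      · exact (hTc s hs d).symm
      · exact commutatorElement_eq_one_iff_mul_comm.mp had
      · exact commutatorElement_eq_one_iff_mul_comm.mp hxd
    exact Subgroup.mem_centralizer_singleton_iff.mp (hle (hgen₁.ge hu))
  have hQinv : Inv L₁ Q := by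
    rintro b hb e ⟨he, he'⟩
    refine ⟨ap_mem b he, Subgroup.mem_centralizer_iff.mpr fun s hs => ?_⟩
    have hs' : ap b⁻¹ s ∈ E₁ := ap_mem _ hs
    have := congrArg (ap b) (Subgroup.mem_centralizer_iff.mp he' _ hs')
    rwa [ap_map_mul b hs' he, ap_map_mul b he hs', ap_self_inv] at this
  have hQE : Q = E₁ := (hirr Q (le_inf hT1 fun s hs => Subgroup.mem_centralizer_iff.mpr fun u _ => hTc s hs u)
    inf_le_left hQinv).resolve_left fun e => hD.d1 (by
      rw [← hπd]; exact (QuotientGroup.eq_one_iff d).mpr (e.le hdQ))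
  have hab₁ : ∀ u ∈ E₁, ∀ v ∈ E₁, u * v = v * u := fun u hu v hv =>
    Subgroup.mem_centralizer_iff.mp (hQE.ge hv).2 u hu
  -- powers
  let Tp : Subgroup P :=
    { carrier := {u | ∃ s ∈ T, s ^ p = u}
      one_mem' := ⟨1, one_mem _, one_pow p⟩
      mul_mem' := fun {u v} ⟨s, hs, hu⟩ ⟨r, hr', hv⟩ => ⟨s * r, mul_mem hs hr', by
        rw [(show Commute s r from hTc r hr' s).mul_pow, hu, hv]⟩
      inv_mem' := fun {u} ⟨s, hs, hu⟩ => ⟨s⁻¹, inv_mem hs, by rw [inv_pow, hu]⟩ }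
  have hTpT : Tp ≤ T := by rintro _ ⟨s, hs, rfl⟩; exact pow_mem hs p
  let Q' : Subgroup P :=
    { carrier := {e | e ∈ E₁ ∧ e ^ p ∈ Tp}
      one_mem' := ⟨one_mem _, by rw [one_pow]; exact one_mem Tp⟩
      mul_mem' := fun {u v} hu hv => ⟨mul_mem hu.1 hv.1, by
        rw [(show Commute u v from hab₁ u hu.1 v hv.1).mul_pow]; exact mul_mem hu.2 hv.2⟩
      inv_mem' := fun {u} hu => ⟨inv_mem hu.1, by rw [inv_pow]; exact inv_mem hu.2⟩ }
  have hQ'inv : Inv L₁ Q' := by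
    rintro b hb e ⟨he, s, hs, hse⟩
    refine ⟨ap_mem b he, ap b s, hT.2.1 b hb s hs, ?_⟩
    rw [← ap_map_pow b (hT1 hs), hse, ap_map_pow b he]
  have hap : a ^ p = 1 := by
    have hxp : x ^ p ∈ T := (QuotientGroup.eq_one_iff _).mp (by
      show π (x ^ p) = 1
      rw [map_pow, hx]; exact hD.exp₁ xq hD.xE)
    rw [hadef, (show Commute x⁻¹ (y * x * y⁻¹) from
      hab₁ _ (inv_mem hxE) _ ((inferInstance : E₁.Normal).conj_mem x hxE y)).mul_pow, conj_pow, inv_pow,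
      hTc _ hxp y, mul_inv_cancel_right, inv_mul_cancel]
  have hQ'E : Q' = E₁ := (hirr Q' (fun s hs => ⟨hT1 hs, s, hs, rfl⟩) (fun e he => he.1) hQ'inv).resolve_left
    fun e => hD.a_not_mem (by
      have : π a = 1 := (QuotientGroup.eq_one_iff a).mpr (e.le ⟨haE, by rw [hap]; exact one_mem Tp⟩)
      rw [← hπa, this]; exact one_mem _)
  have hsec := card_section_le hr E₁ Tp (hTpT.trans hT1)
    (fun e _ k hk => by rw [hTc k (hTpT hk) e, mul_inv_cancel_right]; exact hk)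
    (fun u hu v hv => by rw [commutatorElement_eq_one_iff_mul_comm.mpr (hab₁ u hu v hv)]; exact one_mem Tp)
    fun u hu => (hQ'E.ge hu).2
  rw [card_map_mk hT1, hD.card₁] at hsec
  let f : T →* Tp :=
    { toFun := fun s => ⟨(s : P) ^ p, s, s.2, rfl⟩
      map_one' := Subtype.ext (one_pow p)
      map_mul' := fun u v => Subtype.ext ((show Commute (u : P) v from hTc v v.2 u).mul_pow p) }
  have hfs : Function.Surjective f := by
    rintro ⟨_, s, hs, rfl⟩
    exact ⟨⟨s, hs⟩, rfl⟩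
  by_contra hTne
  obtain ⟨z, hzT, ⟨-, hzp⟩, hz1⟩ := exists_mem_omZ hP hTne
  have hle : Nat.card T ≤ Nat.card Tp := Nat.le_of_mul_le_mul_left hsec (pow_pos hp'.pos 3)
  have hinj : Function.Injective f := ((Nat.bijective_iff_surjective_and_card f).mpr
    ⟨hfs, le_antisymm hle (Nat.card_le_card_of_surjective f hfs)⟩).injective
  exact hz1 (congrArg Subtype.val (hinj (show f ⟨z, hzT⟩ = f 1 from Subtype.ext (by
    show z ^ p = ((f 1 : Tp) : P)
    rw [map_one, hzp]; rfl))))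

end quotient

end CfsgLib.RankThreePair
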