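import Cfsg.Agent.Lib.Fusion.RankThreePair.Transvection
import Mathlib.GroupTheory.GroupAction.ConjAct

/-!
Helpers for the analysis of a pair of vertices.
-/

set_option autoImplicit false

namespace CfsgLib.RankThreePair

open Cfsg
open scoped commutatorElement

variable {P : Type*} [Group P] {p : ℕ} [hp : Fact p.Prime]

/-- The central elements of order dividing `p`. -/
def omZ (p : ℕ) (P : Type*) [Group P] : Subgroup P where
  carrier := {x | x ∈ Subgroup.center P ∧ x ^ p = 1}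
  one_mem' := ⟨one_mem _, one_pow p⟩
  mul_mem' := fun {a b} ha hb => ⟨mul_mem ha.1 hb.1, by
    rw [(show Commute a b from (Subgroup.mem_center_iff.mp ha.1 b).symm).mul_pow, ha.2, hb.2, one_mul]⟩
  inv_mem' := fun {a} ha => ⟨inv_mem ha.1, by rw [inv_pow, ha.2, inv_one]⟩

omit hp in
theorem mem_omZ {x : P} : x ∈ omZ p P ↔ x ∈ Subgroup.center P ∧ x ^ p = 1 := Iff.rfl

/-- The central elements of order dividing `p` of a subgroup. -/
def omC (p : ℕ) (E : Subgroup P) : Subgroup P where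
  carrier := {x | x ∈ E ∧ (∀ y ∈ E, y * x = x * y) ∧ x ^ p = 1}
  one_mem' := ⟨one_mem _, fun y _ => by simp, one_pow p⟩
  mul_mem' := fun {a b} ha hb => ⟨mul_mem ha.1 hb.1, fun y hy => by
      rw [← mul_assoc, ha.2.1 y hy, mul_assoc, hb.2.1 y hy, mul_assoc], by
    rw [(show Commute a b from hb.2.1 a ha.1).mul_pow, ha.2.2, hb.2.2, one_mul]⟩
  inv_mem' := fun {a} ha => ⟨inv_mem ha.1, fun y hy => (Commute.inv_right (ha.2.1 y hy)).eq, by
    rw [inv_pow, ha.2.2, inv_one]⟩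

omit hp in
theorem mem_omC {E : Subgroup P} {x : P} :
    x ∈ omC p E ↔ x ∈ E ∧ (∀ y ∈ E, y * x = x * y) ∧ x ^ p = 1 := Iff.rfl

omit hp in
theorem inv_omC {E : Subgroup P} (L : Subgroup (MulAut E)) : Inv L (omC p E) := by
  intro a ha x hx
  refine ⟨ap_mem a hx.1, fun y hy => ?_, by rw [← ap_map_pow a hx.1, hx.2.2, ap_map_one]⟩
  have hy' : ap a⁻¹ y ∈ E := ap_mem _ hy
  have h := congrArg (ap a) (hx.2.1 _ hy')
  rwa [ap_map_mul a hy' hx.1, ap_map_mul a hx.1 hy', ap_self_inv] at h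

omit hp in
theorem Inv.commutator {E : Subgroup P} {L : Subgroup (MulAut E)} {Q R : Subgroup P} (hQ : Inv L Q) (hR : Inv L R)
    (hQE : Q ≤ E) (hRE : R ≤ E) : Inv L ⁅Q, R⁆ := by
  intro a ha y hy
  rw [Subgroup.commutator_def] at hy
  have h : y ∈ E ∧ ap a y ∈ ⁅Q, R⁆ := by
    refine Subgroup.closure_induction (p := fun y _ => y ∈ E ∧ ap a y ∈ ⁅Q, R⁆) ?_ ?_ ?_ ?_ hy
    · rintro _ ⟨u, hu, v, hv, rfl⟩
      have hmem : ⁅u, v⁆ ∈ E := by
        rw [commutatorElement_def]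
        exact mul_mem (mul_mem (mul_mem (hQE hu) (hRE hv)) (inv_mem (hQE hu))) (inv_mem (hRE hv))
      refine ⟨hmem, ?_⟩
      have he : ap a ⁅u, v⁆ = ⁅ap a u, ap a v⁆ := by
        rw [commutatorElement_def, commutatorElement_def,
          ap_map_mul a (mul_mem (mul_mem (hQE hu) (hRE hv)) (inv_mem (hQE hu))) (inv_mem (hRE hv)),
          ap_map_mul a (mul_mem (hQE hu) (hRE hv)) (inv_mem (hQE hu)), ap_map_mul a (hQE hu) (hRE hv),
          ap_map_inv a (hQE hu), ap_map_inv a (hRE hv)]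
      rw [he]
      exact Subgroup.commutator_mem_commutator (hQ a ha u hu) (hR a ha v hv)
    · exact ⟨E.one_mem, by rw [ap_map_one]; exact one_mem _⟩
    · rintro x y - - ⟨hx, hx'⟩ ⟨hy, hy'⟩
      exact ⟨E.mul_mem hx hy, by rw [ap_map_mul a hx hy]; exact mul_mem hx' hy'⟩
    · rintro x - ⟨hx, hx'⟩
      exact ⟨E.inv_mem hx, by rw [ap_map_inv a hx]; exact inv_mem hx'⟩
  exact h.2

/-- `L` cannot act on an invariant subgroup as `E` does, being trivial on the quotient. -/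
theorem Vertex.false_of_inner_on [Finite P] {E : Subgroup P} [E.Normal] {L : Subgroup (MulAut E)}
    (h : Vertex p E L) (hP : IsPGroup p P) {Q : Subgroup P} (hQE : Q ≤ E) (hI : Inv L Q)
    (hquot : ∀ g : P, ∀ x ∈ E, x⁻¹ * (g * x * g⁻¹) ∈ Q)
    (hin : ∀ g : P, ∃ e ∈ E, ∀ q ∈ Q, g * q * g⁻¹ = e * q * e⁻¹) : False := by
  have := hP.isNilpotent
  obtain ⟨m, hm⟩ := Subgroup.nilpotent_iff_lowerCentralSeries.mp (inferInstance : Group.IsNilpotent P)
  let γ : ℕ → Subgroup P := fun i => E.lowerCentralSeries i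
  have hγ0 : γ 0 = E := rfl
  have hγs : ∀ i, γ (i + 1) = ⁅γ i, E⁆ := fun i => Subgroup.lowerCentralSeries_succ E i
  have hγle : ∀ i, γ i ≤ E := by
    intro i
    induction i with
    | zero => rw [hγ0]
    | succ i ih =>
      rw [hγs]
      exact (Subgroup.commutator_mono ih le_rfl).trans ((Subgroup.commutator_le).mpr fun a ha b hb =>
        by rw [commutatorElement_def]; exact mul_mem (mul_mem (mul_mem ha hb) (inv_mem ha)) (inv_mem hb))
  have hγinv : ∀ i, Inv L (γ i) := by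
    intro i
    induction i with
    | zero => rw [hγ0]; exact inv_self L
    | succ i ih => rw [hγs]; exact ih.commutator (inv_self L) (hγle i) le_rfl
  have hγbot : γ m = ⊥ := by
    rw [eq_bot_iff, ← hm]
    clear hm
    induction m with
    | zero => exact le_top
    | succ i ih => rw [hγs, Subgroup.lowerCentralSeries_succ]; exact Subgroup.commutator_mono ih le_top
  let C : ℕ → Subgroup P := fun i => if i ≤ m then Q ⊓ γ (m - i) else E
  refine h.false_of_chain hP (n := m + 1) C ?_ ?_ ?_ ?_ ?_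
  · simp [C, hγbot]
  · simp [C]
  · intro i hi
    simp only [C, if_pos (show i ≤ m by omega)]
    split
    · rename_i hi'
      refine inf_le_inf_left Q ?_
      have hn : (γ (m - (i + 1))).Normal := h.normal_of_inv (hγle _) (hγinv _)
      rw [show m - i = m - (i + 1) + 1 by omega, hγs]
      exact Subgroup.commutator_le_left _ _
    · exact inf_le_left.trans hQE
  · intro i hi
    simp only [C]
    split
    · exact hI.inf (hγinv _)
    · exact inv_self L
  · intro g i hi x hx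
    simp only [C, if_pos (show i ≤ m by omega)]
    simp only [C] at hx
    split at hx
    · rename_i hi'
      obtain ⟨e, he, hge⟩ := hin g
      have hQn : Q.Normal := h.normal_of_inv hQE hI
      refine ⟨Q.mul_mem (Q.inv_mem hx.1) (hQn.conj_mem x hx.1 g), ?_⟩
      rw [hge x hx.1, show m - i = m - (i + 1) + 1 by omega, hγs]
      have h1 := Subgroup.commutator_mem_commutator ((γ (m - (i + 1))).inv_mem hx.2) he
      have e1 : x⁻¹ * (e * x * e⁻¹) = ⁅x⁻¹, e⁆ := by
        rw [commutatorElement_def, inv_inv]; simp only [mul_assoc]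
      rw [e1]
      exact h1
    · rw [show m - i = 0 by omega, hγ0, inf_of_le_left hQE]
      exact hquot g x hx

/-! ### Cardinalities -/

section card

variable [Finite P]

omit hp in
theorem mul_card_le_of_lt (hP : IsPGroup p P) [Fact p.Prime] {A B : Subgroup P} (h : A < B) :
    p * Nat.card A ≤ Nat.card B := by
  obtain ⟨i, hi⟩ := IsPGroup.iff_card.mp (hP.to_subgroup A)
  obtain ⟨j, hj⟩ := IsPGroup.iff_card.mp (hP.to_subgroup B)
  have hlt : Nat.card A < Nat.card B := by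
    refine lt_of_le_of_ne (Subgroup.card_le_of_le h.le) fun e => h.ne ?_
    exact Subgroup.eq_of_le_of_card_ge h.le e.ge
  rw [hi, hj] at hlt ⊢
  rw [← pow_succ']
  exact Nat.pow_le_pow_right (Fact.out : p.Prime).pos ((Nat.pow_lt_pow_iff_right (Fact.out : p.Prime).one_lt).mp hlt)

theorem eq_of_lt_of_card {A B X : Subgroup P} (hAB : A < B) (hBX : B ≤ X) (hc : Nat.card X = p * Nat.card A) :
    B = X := by
  refine Subgroup.eq_of_le_of_card_ge hBX ?_
  obtain ⟨m, hm⟩ := Subgroup.card_dvd_of_le hAB.le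
  have h2 := Subgroup.card_dvd_of_le hBX
  rw [hc, hm, mul_comm p] at h2
  have hpos : 0 < Nat.card A := Nat.card_pos
  rcases (Nat.dvd_prime hp.out).mp ((Nat.mul_dvd_mul_iff_left hpos).mp h2) with rfl | rfl
  · exact absurd (Subgroup.eq_of_le_of_card_ge hAB.le (by rw [hm, mul_one])) hAB.ne
  · rw [hc, hm, mul_comm]

/-- A subgroup over one of index `p` is generated by it and any further element. -/
theorem sup_zpowers_eq {A X : Subgroup P} (hAX : A ≤ X) (hc : Nat.card X = p * Nat.card A) {x : P} (hx : x ∈ X)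
    (hxA : x ∉ A) : A ⊔ Subgroup.zpowers x = X :=
  eq_of_lt_of_card (lt_of_le_of_ne le_sup_left fun e => hxA (e.ge (Subgroup.mem_sup_right (Subgroup.mem_zpowers x))))
    (sup_le hAX (Subgroup.zpowers_le.mpr hx)) hc

theorem card_inf_index {A N : Subgroup P} [N.Normal] (hN : N.index = p) (hA : ¬ A ≤ N) :
    Nat.card A = p * Nat.card (A ⊓ N : Subgroup P) := by
  have h1 := Subgroup.card_mul_index (((QuotientGroup.mk' N).comp A.subtype).ker)
  rw [Subgroup.index_ker, MonoidHom.range_comp, Subgroup.range_subtype] at h1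
  have hk : Nat.card ((QuotientGroup.mk' N).comp A.subtype).ker = Nat.card (A ⊓ N : Subgroup P) := by
    rw [← MonoidHom.comap_ker, QuotientGroup.ker_mk']
    exact Nat.card_congr
      { toFun := fun x => ⟨((x.1 : A) : P), x.1.2, x.2⟩
        invFun := fun x => ⟨⟨x.1, x.2.1⟩, x.2.2⟩
        left_inv := fun _ => rfl
        right_inv := fun _ => rfl }
  have hpr : Fact (Nat.card (P ⧸ N)).Prime := ⟨by rw [← Subgroup.index_eq_card, hN]; exact hp.out⟩
  have htop : A.map (QuotientGroup.mk' N) = ⊤ := ((A.map (QuotientGroup.mk' N)).eq_bot_or_eq_top_of_prime_card).resolve_left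
    (fun e => hA fun x hx => (QuotientGroup.eq_one_iff x).mp (Subgroup.mem_bot.mp (e.le (Subgroup.mem_map_of_mem _ hx))))
  rw [htop, Subgroup.card_top, ← Subgroup.index_eq_card, hN, hk] at h1
  rw [← h1, mul_comm]

end card

/-! ### Elementary subgroups and class two -/

omit hp in
theorem elem_sup {A B : Subgroup P} (hA : ∀ x ∈ A, ∀ y ∈ A, x * y = y * x) (hB : ∀ x ∈ B, ∀ y ∈ B, x * y = y * x)
    (hAB : ∀ x ∈ A, ∀ y ∈ B, x * y = y * x) (hA' : ∀ x ∈ A, x ^ p = 1) (hB' : ∀ x ∈ B, x ^ p = 1) :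
    (∀ x ∈ A ⊔ B, ∀ y ∈ A ⊔ B, x * y = y * x) ∧ ∀ x ∈ A ⊔ B, x ^ p = 1 := by
  have hc : ∀ x ∈ A ⊔ B, ∀ y ∈ A ⊔ B, x * y = y * x := by
    intro x hx y hy
    have h2 : ∀ z ∈ (A : Set P) ∪ B, ∀ w ∈ (A : Set P) ∪ B, z * w = w * z := by
      rintro z (hz | hz) w (hw | hw)
      exacts [hA z hz w hw, hAB z hz w hw, (hAB w hw z hz).symm, hB z hz w hw]
    rw [Subgroup.sup_eq_closure] at hx hy
    have := Subgroup.isMulCommutative_closure h2
    exact congrArg Subtype.val (mul_comm' (⟨x, hx⟩ : Subgroup.closure ((A : Set P) ∪ B)) ⟨y, hy⟩)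
  refine ⟨hc, fun x hx => ?_⟩
  let O : Subgroup P :=
    { carrier := {x | x ∈ A ⊔ B ∧ x ^ p = 1}
      one_mem' := ⟨one_mem _, one_pow p⟩
      mul_mem' := fun {a b} ha hb => ⟨mul_mem ha.1 hb.1, by
        rw [(show Commute a b from hc a ha.1 b hb.1).mul_pow, ha.2, hb.2, one_mul]⟩
      inv_mem' := fun {a} ha => ⟨inv_mem ha.1, by rw [inv_pow, ha.2, inv_one]⟩ }
  exact ((sup_le (fun a ha => ⟨Subgroup.mem_sup_left ha, hA' a ha⟩)
    (fun b hb => ⟨Subgroup.mem_sup_right hb, hB' b hb⟩) : A ⊔ B ≤ O) hx).2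

omit hp in
theorem elem_zpowers {x : P} (hx : x ^ p = 1) :
    (∀ u ∈ Subgroup.zpowers x, ∀ v ∈ Subgroup.zpowers x, u * v = v * u) ∧
      ∀ u ∈ Subgroup.zpowers x, u ^ p = 1 := by
  refine ⟨?_, ?_⟩
  · rintro _ ⟨i, rfl⟩ _ ⟨j, rfl⟩; exact (Commute.zpow_zpow_self x i j).eq
  · rintro _ ⟨i, rfl⟩
    show (x ^ i) ^ p = 1
    rw [← zpow_natCast, ← zpow_mul, mul_comm, zpow_mul, zpow_natCast, hx, one_zpow]

omit hp in
/-- A subgroup of class two generated by elements of order dividing an odd `p` has exponent `p`. -/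
theorem exp_of_class_two (hodd : Odd p) {X : Subgroup P} {S : Set P} (hS : X ≤ Subgroup.closure S) (hSX : S ⊆ X)
    (hcl : ∀ u ∈ X, ∀ v ∈ X, ∀ w ∈ X, w * ⁅u, v⁆ = ⁅u, v⁆ * w) (hexp : ∀ s ∈ S, s ^ p = 1) :
    ∀ u ∈ X, u ^ p = 1 := by
  intro u hu
  refine (Subgroup.closure_induction (p := fun u _ => u ∈ X ∧ u ^ p = 1) (fun s hs => ⟨hSX hs, hexp s hs⟩)
    ⟨X.one_mem, one_pow p⟩ (fun a b _ _ ha hb => ⟨mul_mem ha.1 hb.1, ?_⟩)
    (fun a _ ha => ⟨inv_mem ha.1, by rw [inv_pow, ha.2, inv_one]⟩) (hS hu)).2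
  have hcen : ⁅(⟨b, hb.1⟩ : X), ⟨a, ha.1⟩⁆ ∈ Subgroup.center X := Subgroup.mem_center_iff.mpr fun w =>
    Subtype.ext (hcl b hb.1 a ha.1 w w.2)
  exact congrArg Subtype.val (CfsgLib.PGroup.mul_pow_eq_one_of_central hodd hcen
    (x := ⟨a, ha.1⟩) (y := ⟨b, hb.1⟩) (Subtype.ext ha.2) (Subtype.ext hb.2))

/-- If `x^p` and `x^i` lie in a subgroup and `p ∤ i`, then so does `x`. -/
theorem mem_of_zpow_mem {A : Subgroup P} {x : P} {i : ℤ} (hi : ¬ (p : ℤ) ∣ i) (hxp : x ^ p ∈ A) (hxi : x ^ i ∈ A) :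
    x ∈ A := by
  obtain ⟨u, v, huv⟩ := ((Nat.prime_iff_prime_int.mp hp.out).coprime_iff_not_dvd).mpr hi
  have : x = (x ^ p) ^ u * (x ^ i) ^ v := by
    rw [← zpow_natCast x p, ← zpow_mul, ← zpow_mul, ← zpow_add, mul_comm (p : ℤ), mul_comm i, huv, zpow_one]
  rw [this]
  exact mul_mem (zpow_mem hxp u) (zpow_mem hxi v)

/-- A nontrivial normal subgroup of a finite `p`-group contains a nontrivial central element of order `p`. -/
theorem exists_mem_omZ [Finite P] (hP : IsPGroup p P) {N : Subgroup P} [N.Normal] (hN : N ≠ ⊥) :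
    ∃ z ∈ N, z ∈ omZ p P ∧ z ≠ 1 := by
  classical
  have hNp := hP.to_subgroup N
  obtain ⟨n, hn⟩ := IsPGroup.iff_card.mp hNp
  have hn1 : n ≠ 0 := fun h => hN (Subgroup.card_eq_one.mp (by rw [hn, h, pow_zero]))
  let _ : MulAction P N := MulAction.compHom N (MulAut.conjNormal : P →* MulAut N)
  have hsm : ∀ (g : P) (x : N), ((g • x : N) : P) = g * x * g⁻¹ := fun g x => MulAut.conjNormal_apply g x
  have hd : p ∣ Nat.card N := by rw [hn]; exact dvd_pow_self p hn1
  have h1 : (1 : N) ∈ MulAction.fixedPoints P N := fun g => Subtype.ext (by rw [hsm]; simp)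
  obtain ⟨z, hzfix, hz⟩ := hP.exists_fixed_point_of_prime_dvd_card_of_fixed_point N hd h1
  replace hz : z ≠ 1 := hz.symm
  have hzc : (z : P) ∈ Subgroup.center P := Subgroup.mem_center_iff.mpr fun g => by
    have h := congrArg Subtype.val (hzfix g)
    rw [hsm] at h
    exact mul_inv_eq_iff_eq_mul.mp h
  obtain ⟨k, hk⟩ := IsPGroup.iff_orderOf.mp hNp z
  have hk0 : k ≠ 0 := fun h => hz (orderOf_eq_one_iff.mp (by rw [hk, h, pow_zero]))
  refine ⟨(z : P) ^ p ^ (k - 1), pow_mem z.2 _, ⟨pow_mem hzc _, ?_⟩, fun h => ?_⟩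
  · rw [← pow_mul, ← pow_succ, show k - 1 + 1 = k by omega, ← hk, ← Subgroup.orderOf_coe, pow_orderOf_eq_one]
  · have hd : p ^ k ∣ p ^ (k - 1) := by
      rw [← hk, ← Subgroup.orderOf_coe]; exact orderOf_dvd_of_pow_eq_one h
    have := (Nat.pow_dvd_pow_iff_le_right hp.out.one_lt).mp hd
    omega

theorem Torus.exists_pre [Finite P] {E' : Subgroup P} {L' : Subgroup (MulAut E')} {φ : MulAut P}
    (h : ∀ a ∈ L', ∃ b ∈ L', ∀ x ∈ E', φ (ap a x) = ap b (φ x)) :
    ∀ b ∈ L', ∃ a ∈ L', ∀ x ∈ E', φ (ap a x) = ap b (φ x) := by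
  choose f hf hfa using h
  have hfinE : Finite E' := Finite.of_injective _ Subtype.val_injective
  have : Finite (MulAut E') := Finite.of_injective (fun f : MulAut E' => (f : E' → E')) DFunLike.coe_injective
  let F : L' → L' := fun a => ⟨f a a.2, hf a a.2⟩
  have hF : Function.Injective F := fun a b hab => Subtype.ext (ap_ext fun x hx => φ.injective (by
    rw [hfa a a.2 x hx, hfa b b.2 x hx, show f a a.2 = f b b.2 from congrArg Subtype.val hab]))
  intro b hb
  obtain ⟨a, ha⟩ := (Finite.injective_iff_surjective.mp hF) ⟨b, hb⟩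
  refine ⟨a, a.2, fun x hx => ?_⟩
  rw [hfa a a.2 x hx, show f a a.2 = b from congrArg Subtype.val ha]

end CfsgLib.RankThreePair
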