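import Cfsg.Agent.Lib.Fusion.RankThreePair.Basic
import Cfsg.Agent.Lib.Fusion.Transvection
import Cfsg.Agent.Lib.Fusion.EssentialFlag

/-!
A group generated by conjugates of a transvection in which the transvection generates a Sylow
subgroup: either it fixes the hyperplane of fixed points or the module splits as a plane and a
subgroup of fixed points, and an element inverting the centre commutes with the transvection.
-/

set_option autoImplicit false

namespace CfsgLib.RankThreePair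

open Cfsg
open scoped commutatorElement

variable {p : ℕ} [hp : Fact p.Prime]

section abstract

variable {M : Type*} [CommGroup M]

/-- The displacement of an automorphism of a commutative group. -/
def disp (a : MulAut M) : M →* M where
  toFun x := x⁻¹ * a x
  map_one' := by simp
  map_mul' x y := by rw [map_mul, mul_inv, mul_mul_mul_comm]

theorem disp_apply (a : MulAut M) (x : M) : disp a x = x⁻¹ * a x := rfl

theorem app_disp (a : MulAut M) (x : M) : a x = x * disp a x := by rw [disp_apply, mul_inv_cancel_left]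

omit hp in
theorem disp_eq_one {a : MulAut M} {x : M} : disp a x = 1 ↔ a x = x := by
  rw [disp_apply, inv_mul_eq_one]; exact eq_comm

theorem exists_mem_of_prime (hM : ∀ x : M, x ^ p = 1) {r : M} {x : M} (hx : x ∈ Subgroup.zpowers r) (hx1 : x ≠ 1) :
    Subgroup.zpowers x = Subgroup.zpowers r := by
  have hr1 : r ≠ 1 := by rintro rfl; exact hx1 (by simpa using hx)
  have hr := orderOf_eq_prime (hM r) hr1
  have : Finite (Subgroup.zpowers r) := Nat.finite_of_card_ne_zero (by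
    rw [Nat.card_zpowers, hr]; exact hp.out.ne_zero)
  refine Subgroup.eq_of_le_of_card_ge (Subgroup.zpowers_le.mpr hx) ?_
  rw [Nat.card_zpowers, Nat.card_zpowers, hr, orderOf_eq_prime (hM x) hx1]

theorem zpow_eq_one_iff' (hM : ∀ x : M, x ^ p = 1) {r : M} (hr : r ≠ 1) (i : ℤ) :
    r ^ i = 1 ↔ (p : ℤ) ∣ i := by
  rw [← orderOf_dvd_iff_zpow_eq_one, orderOf_eq_prime (hM r) hr]

/-- A transvection: the displacement takes values in a line of fixed points. -/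
def IsTv (a : MulAut M) (r : M) : Prop := r ≠ 1 ∧ a r = r ∧ ∀ x, x⁻¹ * a x ∈ Subgroup.zpowers r

omit hp in
theorem IsTv.pow_apply {a : MulAut M} {r : M} (h : IsTv a r) (x : M) (n : ℕ) : (a ^ n) x = x * disp a x ^ n := by
  have hfix : a (disp a x) = disp a x := by
    obtain ⟨i, hi⟩ := h.2.2 x
    rw [disp_apply, ← hi, map_zpow, h.2.1]
  induction n with
  | zero => simp
  | succ n ih => rw [pow_succ', MulAut.mul_apply, ih, map_mul, map_pow, hfix, pow_succ', app_disp a x, mul_assoc]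

theorem IsTv.pow_prime (hM : ∀ x : M, x ^ p = 1) {a : MulAut M} {r : M} (h : IsTv a r) : a ^ p = 1 :=
  MulEquiv.ext fun x => by rw [h.pow_apply, hM, mul_one, MulAut.one_apply]

omit hp in
theorem IsTv.conj {a : MulAut M} {r : M} (h : IsTv a r) (b : MulAut M) : IsTv (b * a * b⁻¹) (b r) := by
  refine ⟨(map_ne_one_iff b b.injective).mpr h.1, ?_, fun x => ?_⟩
  · rw [MulAut.mul_apply, MulAut.mul_apply, MulAut.inv_apply_self, h.2.1]
  · obtain ⟨i, hi⟩ := h.2.2 (b⁻¹ x)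
    refine ⟨i, ?_⟩
    show (b r) ^ i = x⁻¹ * b (a (b⁻¹ x))
    rw [← map_zpow, show r ^ i = (b⁻¹ x)⁻¹ * a (b⁻¹ x) from hi, map_mul, map_inv, MulAut.apply_inv_self]

/-- Two transvections of `A`, the centre of one fixed by the other, generate the same subgroup. -/
theorem IsTv.same [Finite M] (hM : ∀ x : M, x ^ p = 1) {A : Subgroup (MulAut M)} (hA : ¬ p ^ 2 ∣ Nat.card A)
    {a b : MulAut M} {r t : M} (ha : a ∈ A) (hb : b ∈ A) (hra : IsTv a r) (htb : IsTv b t) (hne : a ≠ 1)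
    (hne' : b ≠ 1) (hfix : a t = t) : b ∈ Subgroup.zpowers a ∧ a ∈ Subgroup.zpowers b := by
  have hfin : Finite (MulAut M) := Finite.of_injective (fun f : MulAut M => (f : M → M)) DFunLike.coe_injective
  have hPM : IsPGroup p M := fun x => ⟨1, by rw [pow_one]; exact hM x⟩
  set T := Subgroup.closure ({a, b} : Set (MulAut M))
  have hT : IsPGroup p T := CfsgLib.Fusion.Transvection.isPGroup_pair hPM hra.2.1 hfix htb.2.1 hra.2.2 htb.2.2
  have hTA : T ≤ A := (Subgroup.closure_le A).mpr (by rintro x (rfl | rfl); exacts [ha, hb])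
  obtain ⟨m, hm⟩ := IsPGroup.iff_card.mp hT
  have hm1 : m ≤ 1 := by
    by_contra h
    exact hA (((pow_dvd_pow p (show 2 ≤ m by omega)).trans (hm ▸ dvd_rfl)).trans (Subgroup.card_dvd_of_le hTA))
  have key : ∀ x : MulAut M, x ∈ T → x ≠ 1 → x ^ p = 1 → Subgroup.zpowers x = T := fun x hx hx1 hxp => by
    refine Subgroup.eq_of_le_of_card_ge (Subgroup.zpowers_le.mpr hx) ?_
    rw [hm, Nat.card_zpowers, orderOf_eq_prime hxp hx1]
    exact (Nat.pow_le_pow_right hp.out.pos hm1).trans (pow_one p).le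
  have hTa := key a (Subgroup.subset_closure (by simp)) hne (hra.pow_prime hM)
  have hTb := key b (Subgroup.subset_closure (by simp)) hne' (htb.pow_prime hM)
  exact ⟨hTa ▸ Subgroup.subset_closure (by simp), hTb ▸ Subgroup.subset_closure (by simp)⟩

omit hp in
theorem fix_of_zpowers {a b : MulAut M} (hb : b ∈ Subgroup.zpowers a) {x : M} (hx : a x = x) : b x = x :=
  (Subgroup.zpowers_le.mpr (show a ∈ MulAction.stabilizer (MulAut M) x from hx)) hb

/-- The splitting of the module of a group generated by conjugates of a transvection moving its hyperplane. -/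
theorem exists_split [Finite M] (hM : ∀ x : M, x ^ p = 1) 
    (A : Subgroup (MulAut M)) (hpA : ¬ p ^ 2 ∣ Nat.card A) {c : MulAut M} (hc : c ∈ A) {k₀ : ℕ}
    (hck : c ^ p ^ k₀ = 1)
    (hgen : ∀ N ≤ A, c ∈ N → (∀ a ∈ A, ∀ b ∈ N, a * b * a⁻¹ ∈ N) → N = A)
    (H : Subgroup M) (hH : ∀ x, x ∈ H ↔ c x = x) (hidx : H.index = p) (hmove : ∃ a ∈ A, ∃ x ∈ H, a x ∉ H) :
    ∃ (D Pl : Subgroup M) (s : M) (n : MulAut M),
      D ≤ H ∧ s ∈ H ∧ s ∉ D ∧ Nat.card H = p * Nat.card D ∧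
      (∀ a ∈ A, ∀ d ∈ D, a d = d) ∧ (∀ x, (∀ a ∈ A, a x = x) → x ∈ D) ∧
      (∀ x, x⁻¹ * c x ∈ Subgroup.zpowers s) ∧ (∃ a ∈ A, a s ∉ H) ∧
      (∀ a ∈ A, ∀ x ∈ Pl, a x ∈ Pl) ∧ s ∈ Pl ∧ Nat.card Pl = p ^ 2 ∧ Pl ⊓ D = ⊥ ∧ Pl ⊔ D = ⊤ ∧
      n ∈ A ∧ n * c = c * n ∧ n s = s⁻¹ ∧ (∀ d ∈ D, n d = d) ∧ ∀ x ∈ Pl, x * n x ∈ Subgroup.zpowers s := by
  classical
  have hp' : p.Prime := hp.out
  have hpi := Nat.prime_iff_prime_int.mp hp'
  -- the centre
  have hker : (disp c).ker = H := Subgroup.ext fun x => by rw [MonoidHom.mem_ker, disp_eq_one, hH]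
  have hR : Nat.card (disp c).range = p := by rw [← Subgroup.index_ker, hker, hidx]
  obtain ⟨s, hs, hs1⟩ : ∃ s ∈ (disp c).range, s ≠ 1 := by
    refine (Subgroup.bot_or_exists_ne_one _).resolve_left fun e => ?_
    rw [e, Subgroup.card_bot] at hR
    exact hp'.ne_one hR.symm
  have hRs : (disp c).range = Subgroup.zpowers s := (Subgroup.eq_of_le_of_card_ge (Subgroup.zpowers_le.mpr hs)
    (by rw [hR, Nat.card_zpowers, orderOf_eq_prime (hM s) hs1])).symm
  have hcs : c s = s := by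
    have h := CfsgLib.FusionFlag.stabilizes_step (K := ⊥) (L := (disp c).range) bot_le
      (by rw [hR, Subgroup.card_bot, mul_one]) hck (fun x hx => by
        obtain ⟨y, rfl⟩ := hx
        exact ⟨c y, by rw [disp_apply, disp_apply, map_mul, map_inv]⟩)
      (fun x hx => by rw [Subgroup.mem_bot] at hx ⊢; rw [hx, map_one]) s hs
    rw [Subgroup.mem_bot, inv_mul_eq_one] at h
    exact h.symm
  have htv : IsTv c s := ⟨hs1, hcs, fun x => hRs ▸ ⟨x, rfl⟩⟩
  have hc1 : c ≠ 1 := fun h => by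
    have hHt : H = ⊤ := eq_top_iff.mpr fun x _ => (hH x).mpr (by rw [h]; rfl)
    rw [hHt, Subgroup.index_top] at hidx
    exact hp'.ne_one hidx.symm
  obtain ⟨a₀, ha₀, x₀, hx₀, hax₀⟩ := hmove
  set c' := a₀ * c * a₀⁻¹ with hc'
  have hc'A : c' ∈ A := A.mul_mem (A.mul_mem ha₀ hc) (A.inv_mem ha₀)
  have hc'1 : c' ≠ 1 := fun h => hc1 (by rwa [hc', conj_eq_one_iff] at h)
  set s' := a₀ s with hs'
  have htv' : IsTv c' s' := htv.conj a₀
  have hmoved : ¬ (c' ∈ Subgroup.zpowers c ∧ c ∈ Subgroup.zpowers c') := fun h => by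
    refine hax₀ ((hH _).mpr (fix_of_zpowers h.2 ?_))
    rw [hc', MulAut.mul_apply, MulAut.mul_apply, MulAut.inv_apply_self, (hH x₀).mp hx₀]
  have hs'H : s' ∉ H := fun h => hmoved (htv.same hM hpA hc hc'A htv' hc1 hc'1 ((hH _).mp h))
  have hs'fix : c' s ≠ s := fun h => hmoved (htv'.same hM hpA hc'A hc htv hc'1 hc1 h).symm
  obtain ⟨β, hβ⟩ := Subgroup.mem_zpowers_iff.mp (htv.2.2 s')
  obtain ⟨α, hα⟩ := Subgroup.mem_zpowers_iff.mp (htv'.2.2 s)
  have hcs' : c s' = s' * s ^ β := by rw [hβ, mul_inv_cancel_left]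
  have hc's : c' s = s * s' ^ α := by rw [hα, mul_inv_cancel_left]
  have hβ0 : ¬ (p : ℤ) ∣ β := fun h => hs'H <| (hH _).mpr <| by
    rw [hcs', (zpow_eq_one_iff' hM hs1 β).mpr h, mul_one]
  have hα0 : ¬ (p : ℤ) ∣ α := fun h => hs'fix <| by
    rw [hc's, (zpow_eq_one_iff' hM htv'.1 α).mpr h, mul_one]
  set D : Subgroup M := (disp c).ker ⊓ (disp c').ker with hD
  have hmemD : ∀ x, x ∈ D ↔ c x = x ∧ c' x = x := fun x => by
    rw [hD, Subgroup.mem_inf, MonoidHom.mem_ker, MonoidHom.mem_ker, disp_eq_one, disp_eq_one]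
  set Pl : Subgroup M := Subgroup.zpowers s ⊔ Subgroup.zpowers s' with hPl
  have hsPl : s ∈ Pl := Subgroup.mem_sup_left (Subgroup.mem_zpowers s)
  have hs'Pl : s' ∈ Pl := Subgroup.mem_sup_right (Subgroup.mem_zpowers s')
  have hmemPl : ∀ x, x ∈ Pl ↔ ∃ i j : ℤ, s ^ i * s' ^ j = x := fun x => by
    simp only [hPl, Subgroup.mem_sup, Subgroup.mem_zpowers_iff]
    constructor
    · rintro ⟨_, ⟨i, rfl⟩, _, ⟨j, rfl⟩, rfl⟩; exact ⟨i, j, rfl⟩
    · rintro ⟨i, j, rfl⟩; exact ⟨_, ⟨i, rfl⟩, _, ⟨j, rfl⟩, rfl⟩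
  have hgenline : ∀ {r x : M} {i : ℤ}, x ∈ Subgroup.zpowers r → ¬ (p : ℤ) ∣ i → r ≠ 1 → ∃ j : ℤ, (r ^ i) ^ j = x :=
    fun {r x i} hx hi hr => Subgroup.mem_zpowers_iff.mp <| by
      rw [exists_mem_of_prime hM (Subgroup.zpow_mem_zpowers r i) (fun h => hi ((zpow_eq_one_iff' hM hr i).mp h))]
      exact hx
  -- the decomposition
  have hdec : ∀ x, ∃ d ∈ D, ∃ i j : ℤ, x = d * (s ^ i * s' ^ j) ∧ (x ∈ H → j = 0) := by
    intro x
    obtain ⟨j₀, hj₀⟩ := hgenline (htv.2.2 x) hβ0 hs1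
    set j : ℤ := if x ∈ H then 0 else j₀ with hj
    have hxH : c (x * (s' ^ j)⁻¹) = x * (s' ^ j)⁻¹ := by
      rw [hj]
      split
      · rename_i h; rw [zpow_zero, inv_one, mul_one, (hH x).mp h]
      · have e1 : c x = x * (s ^ β) ^ j₀ := by rw [hj₀, mul_inv_cancel_left]
        rw [map_mul, map_inv, map_zpow, hcs', mul_zpow, e1, mul_inv, mul_assoc,
          mul_left_comm ((s ^ β) ^ j₀) ((s' ^ j₀)⁻¹), mul_inv_cancel, mul_one]
    obtain ⟨i, hi⟩ := hgenline (htv'.2.2 (x * (s' ^ j)⁻¹)) hα0 htv'.1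
    set h₁ := x * (s' ^ j)⁻¹ with hh₁
    refine ⟨h₁ * (s ^ i)⁻¹, (hmemD _).mpr ⟨?_, ?_⟩, i, j, ?_, fun h => by rw [hj, if_pos h]⟩
    · rw [map_mul, map_inv, map_zpow, hxH, hcs]
    · have e1 : c' h₁ = h₁ * (s' ^ α) ^ i := by rw [hi, mul_inv_cancel_left]
      rw [map_mul, map_inv, map_zpow, hc's, mul_zpow, e1, mul_inv, mul_assoc,
        mul_left_comm ((s' ^ α) ^ i) ((s ^ i)⁻¹), mul_inv_cancel, mul_one]
    · rw [hh₁]; simp [mul_assoc]
  have hinter : Pl ⊓ D = ⊥ := by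
    rw [eq_bot_iff]
    rintro x ⟨hx, hxD⟩
    obtain ⟨i, j, rfl⟩ := (hmemPl x).mp hx
    obtain ⟨h1, h2⟩ := (hmemD _).mp hxD
    have hj : (p : ℤ) ∣ j := by
      rw [map_mul, map_zpow, map_zpow, hcs, hcs', mul_zpow, mul_right_inj, mul_eq_left] at h1
      rw [← zpow_mul, zpow_eq_one_iff' hM hs1] at h1
      exact (hpi.dvd_or_dvd h1).resolve_left hβ0
    have hs'j : s' ^ j = 1 := (zpow_eq_one_iff' hM htv'.1 j).mpr hj
    rw [hs'j, mul_one, map_zpow, hc's, mul_zpow, mul_eq_left, ← zpow_mul, zpow_eq_one_iff' hM htv'.1] at h2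
    rw [Subgroup.mem_bot, hs'j, mul_one, zpow_eq_one_iff' hM hs1]
    exact (hpi.dvd_or_dvd h2).resolve_left hα0
  have hsD : s ∉ D := fun h => hs1 (Subgroup.mem_bot.mp (hinter.le ⟨hsPl, h⟩))
  -- the cardinalities
  have hcardH : Nat.card H = p * Nat.card D := by
    let f : H →* M := (disp c').comp H.subtype
    have hfk : Nat.card f.ker = Nat.card D := by
      have : f.ker = D.subgroupOf H := by
        ext x
        rw [MonoidHom.mem_ker, Subgroup.mem_subgroupOf, hmemD]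
        exact ⟨fun h => ⟨(hH _).mp x.2, disp_eq_one.mp h⟩, fun h => disp_eq_one.mpr h.2⟩
      rw [this]
      exact Nat.card_congr (Subgroup.subgroupOfEquivOfLe fun x hx => (hH x).mpr ((hmemD x).mp hx).1).toEquiv
    have hfr : f.range = Subgroup.zpowers s' := by
      refine le_antisymm (by rintro _ ⟨x, rfl⟩; exact htv'.2.2 _) ?_
      rw [Subgroup.zpowers_le]
      obtain ⟨k, hk⟩ := hgenline (Subgroup.mem_zpowers s') hα0 htv'.1
      refine ⟨⟨s ^ k, H.zpow_mem ((hH s).mpr hcs) k⟩, ?_⟩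
      show disp c' (s ^ k) = s'
      rw [map_zpow, disp_apply, hc's, inv_mul_cancel_left, hk]
    rw [← hfk, ← Subgroup.card_mul_index f.ker, Subgroup.index_ker, hfr, Nat.card_zpowers,
      orderOf_eq_prime (hM s') htv'.1, mul_comm]
  have hjoin : Pl ⊔ D = ⊤ := eq_top_iff.mpr fun x _ => by
    obtain ⟨d, hd, i, j, rfl, -⟩ := hdec x
    exact Subgroup.mul_mem _ (Subgroup.mem_sup_right hd) (Subgroup.mem_sup_left ((hmemPl _).mpr ⟨i, j, rfl⟩))
  have hcardPl : Nat.card Pl = p ^ 2 := by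
    let f : Pl × D →* M := MonoidHom.noncommCoprod Pl.subtype D.subtype fun _ _ => Commute.all _ _
    have hf : Function.Bijective f := by
      refine ⟨(injective_iff_map_eq_one f).mpr ?_, fun x => ?_⟩
      · rintro ⟨a, d⟩ h
        have h1 : (a : M) = (d : M)⁻¹ := eq_inv_of_mul_eq_one_left h
        have h2 : (a : M) ∈ Pl ⊓ D := ⟨a.2, h1 ▸ D.inv_mem d.2⟩
        rw [hinter, Subgroup.mem_bot] at h2
        refine Prod.ext (Subtype.ext h2) (Subtype.ext ?_)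
        rw [h2, eq_comm, inv_eq_one] at h1
        exact h1
      · obtain ⟨d, hd, i, j, rfl, -⟩ := hdec x
        exact ⟨(⟨_, (hmemPl _).mpr ⟨i, j, rfl⟩⟩, ⟨d, hd⟩), mul_comm _ _⟩
    have h1 := Nat.card_congr (Equiv.ofBijective f hf)
    have h2 := Subgroup.card_mul_index H
    rw [Nat.card_prod, ← h2, hidx, hcardH, show p * Nat.card D * p = p ^ 2 * Nat.card D by ring] at h1
    exact Nat.eq_of_mul_eq_mul_right Nat.card_pos h1
  -- the group is generated by `c` and `c'`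
  set N := Subgroup.closure ({c, c'} : Set (MulAut M)) with hN
  have hcN : c ∈ N := Subgroup.subset_closure (by simp)
  have hc'N : c' ∈ N := Subgroup.subset_closure (by simp)
  have hσ : ∀ b ∈ A, b * c * b⁻¹ ∈ N := by
    intro b hb
    set σ := b * c * b⁻¹ with hσdef
    have hσA : σ ∈ A := A.mul_mem (A.mul_mem hb hc) (A.inv_mem hb)
    have htσ : IsTv σ (b s) := htv.conj b
    have hσ1 : σ ≠ 1 := fun h => hc1 (by rwa [hσdef, conj_eq_one_iff] at h)
    obtain ⟨q, hq, hq1, hqσ⟩ : ∃ q ∈ Pl, q ≠ 1 ∧ σ q = q := by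
      by_contra! hno
      let f : Pl →* Subgroup.zpowers (b s) := ((disp σ).comp Pl.subtype).codRestrict _ fun x => htσ.2.2 x
      have hf : Function.Injective f := (injective_iff_map_eq_one f).mpr fun x hx => by
        by_contra hne
        exact hno x x.2 (fun e => hne (Subtype.ext e)) (disp_eq_one.mp (congrArg Subtype.val hx))
      have : Finite (Subgroup.zpowers (b s)) := inferInstance
      have h := Nat.card_le_card_of_injective f hf
      rw [hcardPl, Nat.card_zpowers, orderOf_eq_prime (hM _) htσ.1] at h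
      have := hp'.two_le
      nlinarith
    obtain ⟨i, j, rfl⟩ := (hmemPl q).mp hq
    by_cases hj : (p : ℤ) ∣ j
    · rw [(zpow_eq_one_iff' hM htv'.1 j).mpr hj, mul_one] at hq1 hqσ
      have hσs : σ s = s := by
        obtain ⟨k, hk⟩ := Subgroup.mem_zpowers_iff.mp ((exists_mem_of_prime hM
          (Subgroup.zpow_mem_zpowers s i) hq1).ge (Subgroup.mem_zpowers s))
        conv_lhs => rw [← hk, map_zpow, hqσ]
        rw [hk]
      obtain ⟨k, hk⟩ := Subgroup.mem_zpowers_iff.mp (htσ.same hM hpA hσA hc htv hσ1 hc1 hσs).2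
      exact hk ▸ N.zpow_mem hcN k
    · obtain ⟨m, hm⟩ : ∃ m : ℕ, (p : ℤ) ∣ β * m * j - i := by
        have hbj : ((β * j : ℤ) : ZMod p) ≠ 0 := fun h =>
          (hpi.dvd_or_dvd ((ZMod.intCast_zmod_eq_zero_iff_dvd _ _).mp h)).elim hβ0 hj
        obtain ⟨m, hm⟩ : ∃ m : ℕ, (m : ZMod p) = (i : ZMod p) * ((β * j : ℤ) : ZMod p)⁻¹ :=
          ⟨_, ZMod.natCast_zmod_val _⟩
        refine ⟨m, (ZMod.intCast_zmod_eq_zero_iff_dvd _ _).mp ?_⟩
        push_cast at hbj hm ⊢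
        rw [hm, show (β : ZMod p) * ((i : ZMod p) * ((β : ZMod p) * (j : ZMod p))⁻¹) * j
          = (i : ZMod p) * (((β : ZMod p) * j) * ((β : ZMod p) * (j : ZMod p))⁻¹) by ring, mul_inv_cancel₀ hbj]
        ring
      set τ := c ^ m * c' * (c ^ m)⁻¹
      have htτ : IsTv τ ((c ^ m) s') := htv'.conj _
      have hτA : τ ∈ A := A.mul_mem (A.mul_mem (A.pow_mem hc m) hc'A) (A.inv_mem (A.pow_mem hc m))
      have hτ1 : τ ≠ 1 := fun h => hc'1 (by rwa [conj_eq_one_iff] at h)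
      have hτN : τ ∈ N := N.mul_mem (N.mul_mem (N.pow_mem hcN m) hc'N) (N.inv_mem (N.pow_mem hcN m))
      have hq' : s ^ i * s' ^ j = ((c ^ m) s') ^ j := by
        rw [htv.pow_apply, disp_apply, hcs', inv_mul_cancel_left, mul_zpow, mul_comm, mul_right_inj,
          ← zpow_natCast (s ^ β), ← zpow_mul, ← zpow_mul, ← mul_inv_eq_one, ← zpow_neg, ← zpow_add,
          zpow_eq_one_iff' hM hs1]
        obtain ⟨t, ht⟩ := hm
        exact ⟨-t, by linarith⟩
      rw [hq'] at hq1 hqσ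
      have hσr : σ ((c ^ m) s') = (c ^ m) s' := by
        obtain ⟨k, hk⟩ := Subgroup.mem_zpowers_iff.mp ((exists_mem_of_prime hM
          (Subgroup.zpow_mem_zpowers _ j) hq1).ge (Subgroup.mem_zpowers ((c ^ m) s')))
        conv_lhs => rw [← hk, map_zpow, hqσ]
        rw [hk]
      obtain ⟨k, hk⟩ := Subgroup.mem_zpowers_iff.mp (htσ.same hM hpA hσA hτA htτ hσ1 hτ1 hσr).2
      exact hk ▸ N.zpow_mem hτN k
  have hNA : N = A := by
    refine hgen N ((Subgroup.closure_le A).mpr (by rintro x (rfl | rfl); exacts [hc, hc'A])) hcN ?_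
    intro a ha b hb
    have hmap : N.map (MulAut.conj a).toMonoidHom ≤ N := by
      rw [hN, MonoidHom.map_closure, Subgroup.closure_le, Set.image_pair]
      rintro x (rfl | rfl)
      · exact hσ a ha
      · have := hσ (a * a₀) (A.mul_mem ha ha₀)
        show a * c' * a⁻¹ ∈ N
        rwa [hc', show a * (a₀ * c * a₀⁻¹) * a⁻¹ = a * a₀ * c * (a * a₀)⁻¹ by group]
    exact hmap ⟨b, hb, rfl⟩
  have hfixD : ∀ a ∈ A, ∀ d ∈ D, a d = d := by
    intro a ha d hd
    obtain ⟨h1, h2⟩ := (hmemD d).mp hd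
    have hle : N ≤ MulAction.stabilizer (MulAut M) d := (Subgroup.closure_le _).mpr (by
      rintro x (rfl | rfl)
      exacts [h1, h2])
    exact hle (hNA.ge ha)
  have hinvPl : ∀ a ∈ A, ∀ x ∈ Pl, a x ∈ Pl := by
    intro a ha
    have hfin : Finite (MulAut M) := Finite.of_injective (fun f : MulAut M => (f : M → M)) DFunLike.coe_injective
    let St : Submonoid (MulAut M) :=
      { carrier := {b | ∀ x ∈ Pl, b x ∈ Pl}
        one_mem' := fun x hx => hx
        mul_mem' := fun {b b'} hb hb' x hx => hb _ (hb' x hx) }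
    have hle : ({c, c'} : Set (MulAut M)) ⊆ St := by
      intro b hb x hx
      obtain ⟨i, j, rfl⟩ := (hmemPl x).mp hx
      rw [map_mul, map_zpow, map_zpow]
      rcases hb with rfl | rfl
      · rw [hcs, hcs']
        exact Pl.mul_mem (Pl.zpow_mem hsPl i) (Pl.zpow_mem (Pl.mul_mem hs'Pl (Pl.zpow_mem hsPl β)) j)
      · rw [hc's, htv'.2.1]
        exact Pl.mul_mem (Pl.zpow_mem (Pl.mul_mem hsPl (Pl.zpow_mem hs'Pl α)) i) (Pl.zpow_mem hs'Pl j)
    have hmem := hNA.ge ha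
    rw [hN, ← Subgroup.mem_toSubmonoid, Subgroup.closure_toSubmonoid_of_finite] at hmem
    exact Submonoid.closure_le.mpr hle hmem
  -- the inversion
  obtain ⟨i, hi⟩ : ∃ i : ℕ, (p : ℤ) ∣ i * α * β + 2 := by
    have hab : ((α * β : ℤ) : ZMod p) ≠ 0 := fun h =>
      (hpi.dvd_or_dvd ((ZMod.intCast_zmod_eq_zero_iff_dvd _ _).mp h)).elim hα0 hβ0
    obtain ⟨i, hi⟩ : ∃ i : ℕ, (i : ZMod p) = -2 * ((α * β : ℤ) : ZMod p)⁻¹ := ⟨_, ZMod.natCast_zmod_val _⟩
    refine ⟨i, (ZMod.intCast_zmod_eq_zero_iff_dvd _ _).mp ?_⟩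
    push_cast at hab hi ⊢
    rw [hi, show -2 * ((α : ZMod p) * (β : ZMod p))⁻¹ * α * β
      = -2 * (((α : ZMod p) * β) * ((α : ZMod p) * (β : ZMod p))⁻¹) by ring, mul_inv_cancel₀ hab]
    ring
  set w := c' ^ i * c * c' ^ i with hw
  have hwA : w ∈ A := A.mul_mem (A.mul_mem (A.pow_mem hc'A i) hc) (A.pow_mem hc'A i)
  have hc'i_s' : (c' ^ i) s' = s' := fix_of_zpowers (Subgroup.npow_mem_zpowers c' i) htv'.2.1
  have hc'i_s : (c' ^ i) s = s * s' ^ ((α : ℤ) * i) := by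
    rw [htv'.pow_apply, disp_apply, hc's, inv_mul_cancel_left, zpow_mul, zpow_natCast]
  have hper : ∀ {r : M} {u v : ℤ}, (p : ℤ) ∣ u - v → r ^ u = r ^ v := fun {r u v} h => by
    obtain ⟨t, ht⟩ := h
    rw [show u = v + (p : ℤ) * t by linarith, zpow_add, zpow_mul, zpow_natCast, hM, one_zpow, mul_one]
  have hws : w s = s⁻¹ := by
    rw [hw, MulAut.mul_apply, MulAut.mul_apply, hc'i_s, map_mul, map_zpow, hcs, hcs', map_mul, map_zpow, map_mul,
      map_zpow, hc'i_s', hc'i_s, mul_zpow, mul_zpow, mul_zpow, ← zpow_mul, ← zpow_mul, ← zpow_neg_one]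
    calc s * s' ^ (α * i) * (s' ^ (α * i) * (s ^ (β * (α * i)) * (s' ^ (α * i)) ^ (β * (α * i))))
        = s ^ (1 + β * (α * i)) * s' ^ (α * i + α * i + α * i * β * (α * i)) := by
          rw [← zpow_mul s' (α * i), ← mul_assoc (α * (i : ℤ)) β]
          simp only [zpow_add, zpow_one]
          generalize s ^ (β * (α * i)) = u₁
          generalize s' ^ (α * (i : ℤ)) = u₂
          generalize s' ^ (α * (i : ℤ) * β * (α * i)) = u₃
          ac_rfl
      _ = _ := by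
          obtain ⟨t, ht⟩ := hi
          rw [hper (u := 1 + β * (α * i)) (v := -1) ⟨t, by linarith⟩,
            hper (u := α * i + α * i + α * i * β * (α * i)) (v := 0) ⟨t * (α * i), by linear_combination (α * i) * ht⟩,
            zpow_zero, mul_one]
  have hws' : w s' = s'⁻¹ * s ^ β := by
    rw [hw, MulAut.mul_apply, MulAut.mul_apply, hc'i_s', hcs', map_mul, map_zpow, hc'i_s', hc'i_s, mul_zpow,
      ← zpow_mul]
    calc s' * (s ^ β * s' ^ (α * i * β)) = s' ^ (1 + α * i * β) * s ^ β := by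
          simp only [zpow_add, zpow_one]; ac_rfl
      _ = _ := by
          obtain ⟨t, ht⟩ := hi
          rw [hper (u := 1 + α * i * β) (v := -1) ⟨t, by linarith⟩, zpow_neg_one]
  have hwd : ∀ d ∈ D, w d = d := fun d hd => hfixD w hwA d hd
  refine ⟨D, Pl, s, w, fun x hx => (hH x).mpr ((hmemD x).mp hx).1, (hH s).mpr hcs, hsD, hcardH, hfixD,
    fun x hx => (hmemD x).mpr ⟨hx c hc, hx c' hc'A⟩, htv.2.2, ⟨a₀, ha₀, hs'H⟩, hinvPl, hsPl, hcardPl,
    hinter, hjoin, hwA, ?_, hws, hwd, fun x hx => ?_⟩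
  · refine MulEquiv.ext fun x => ?_
    obtain ⟨d, hd, k, l, rfl, -⟩ := hdec x
    simp only [MulAut.mul_apply, map_mul, map_zpow, map_inv, ((hmemD d).mp hd).1, hwd d hd, hws, hws', hcs, hcs',
      mul_zpow, inv_zpow, mul_inv]
    ac_rfl
  · obtain ⟨k, l, rfl⟩ := (hmemPl x).mp hx
    refine Subgroup.mem_zpowers_iff.mpr ⟨β * l, ?_⟩
    rw [map_mul, map_zpow, map_zpow, hws, hws', mul_zpow, inv_zpow, inv_zpow, ← zpow_mul]
    simp [mul_comm, mul_left_comm, mul_assoc]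

end abstract

section section'

variable {P : Type*} [Group P] [Finite P] {E : Subgroup P} [E.Normal] {L : Subgroup (MulAut E)}

/-- The outcome of the splitting lemma on the section `X/K`, for conjugation by `g₀`. -/
structure Split (p : ℕ) (g₀ : P) (L : Subgroup (MulAut E)) (X K H D Pl : Subgroup P) (s : P) (n : MulAut E) :
    Prop where
  KD : K ≤ D
  DH : D ≤ H
  sH : s ∈ H
  sD : s ∉ D
  cardD : Nat.card H = p * Nat.card D
  fixD : ∀ a ∈ L, ∀ d ∈ D, d⁻¹ * ap a d ∈ K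
  maxD : ∀ x ∈ X, (∀ a ∈ L, x⁻¹ * ap a x ∈ K) → x ∈ D
  centre : ∀ x ∈ X, x⁻¹ * (g₀ * x * g₀⁻¹) ∈ K ⊔ Subgroup.zpowers s
  moveS : ∃ a ∈ L, ap a s ∉ H
  invD : Inv L D
  invPl : Inv L Pl
  sPl : s ∈ Pl
  KPl : K ≤ Pl
  PlX : Pl ≤ X
  cardPl : Nat.card Pl = p ^ 2 * Nat.card K
  meet : Pl ⊓ D = K
  join : Pl ⊔ D = X
  nL : n ∈ L
  nU : ∀ g : P, n * MulAut.conjNormal g * n⁻¹ ∈ (MulAut.conjNormal : P →* MulAut E).range
  ns : s * ap n s ∈ K
  nD : ∀ d ∈ D, d⁻¹ * ap n d ∈ K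
  nPl : ∀ x ∈ Pl, x * ap n x ∈ K ⊔ Subgroup.zpowers s

/-- Every element is a power of `g₀ ∉ E` times an element of `E`. -/
theorem exists_pow_mul (hidx : E.index = p) {g₀ : P} (hg₀ : g₀ ∉ E) (g : P) :
    ∃ i : ℕ, ∃ e ∈ E, g = g₀ ^ i * e := by
  have hc : Nat.card (P ⧸ E) = p := by rw [← Subgroup.index_eq_card, hidx]
  have h1 : (g₀ : P ⧸ E) ≠ 1 := fun h => hg₀ ((QuotientGroup.eq_one_iff g₀).mp h)
  obtain ⟨i, hi⟩ := mem_powers_iff_mem_zpowers.mpr (mem_zpowers_of_prime_card hc (g' := (g : P ⧸ E)) h1)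
  have hi' : ((g₀ ^ i : P) : P ⧸ E) = (g : P ⧸ E) := by rw [QuotientGroup.mk_pow]; exact hi
  exact ⟨i, (g₀ ^ i)⁻¹ * g, QuotientGroup.eq.mp hi', (mul_inv_cancel_left _ _).symm⟩

/-- The restriction of a member of `L` to an invariant subgroup. -/
noncomputable def resEquiv {X : Subgroup P} (hXE : X ≤ E) (hX : Inv L X) (a : L) : MulAut X where
  toFun x := ⟨ap (a : MulAut E) x, hX _ a.2 _ x.2⟩
  invFun x := ⟨ap (a : MulAut E)⁻¹ x, hX _ (L.inv_mem a.2) _ x.2⟩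
  left_inv x := Subtype.ext (ap_inv_self _ _)
  right_inv x := Subtype.ext (ap_self_inv _ _)
  map_mul' x y := Subtype.ext (ap_map_mul _ (hXE x.2) (hXE y.2))

/-- The splitting lemma on an invariant section. -/
theorem exists_split_section (hP : IsPGroup p P) (hV : Vertex p E L) {g₀ : P} (hg₀ : g₀ ∉ E)
    (X K H : Subgroup P) (hKX : K ≤ X) (hXE : X ≤ E) (hX : Inv L X) (hK : Inv L K)
    (hcomm : ∀ x ∈ X, ∀ y ∈ X, ⁅x, y⁆ ∈ K) (hexp : ∀ x ∈ X, x ^ p ∈ K)
    (hE : ∀ e ∈ E, ∀ x ∈ X, x⁻¹ * (e * x * e⁻¹) ∈ K)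
    (hHX : H ≤ X) (hH : ∀ x ∈ X, (x ∈ H ↔ x⁻¹ * (g₀ * x * g₀⁻¹) ∈ K))
    (hidx : Nat.card X = p * Nat.card H) (hmove : ∃ a ∈ L, ∃ x ∈ H, ap a x ∉ H) :
    ∃ D Pl s n, Split p g₀ L X K H D Pl s n := by
  classical
  have hfinE : Finite E := Finite.of_injective _ Subtype.val_injective
  have hfinA : Finite (MulAut E) := Finite.of_injective (fun f : MulAut E => (f : E → E)) DFunLike.coe_injective
  have hKnP : K.Normal := hV.normal_of_inv (hKX.trans hXE) hK
  let N := K.subgroupOf X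
  have hN : N.Normal := ⟨fun k hk x => hKnP.conj_mem _ hk _⟩
  let inst : CommGroup (X ⧸ N) :=
    { (inferInstance : Group (X ⧸ N)) with
      mul_comm := fun a b => by
        obtain ⟨x, rfl⟩ := QuotientGroup.mk'_surjective _ a
        obtain ⟨y, rfl⟩ := QuotientGroup.mk'_surjective _ b
        rw [← commutatorElement_eq_one_iff_mul_comm, ← map_commutatorElement]
        exact (QuotientGroup.eq_one_iff _).2 (hcomm _ x.2 _ y.2) }
  let π := QuotientGroup.mk' N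
  have hπ : Function.Surjective π := QuotientGroup.mk'_surjective N
  have hπ1 : ∀ x : X, π x = 1 ↔ (x : P) ∈ K := fun x => QuotientGroup.eq_one_iff x
  have hπeq : ∀ x y : X, π x = π y ↔ (x : P)⁻¹ * y ∈ K := fun x y => by
    rw [← inv_mul_eq_one, ← map_inv, ← map_mul, hπ1]; rfl
  have hres : ∀ a : L, N.map (resEquiv hXE hX a).toMonoidHom = N := fun a => by
    ext x
    constructor
    · rintro ⟨y, hy, rfl⟩; exact hK _ a.2 _ hy
    · intro hx
      exact ⟨(resEquiv hXE hX a).symm x, hK _ (L.inv_mem a.2) _ hx, (resEquiv hXE hX a).apply_symm_apply x⟩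
  let ρ : L →* MulAut (X ⧸ N) :=
    { toFun := fun a => QuotientGroup.congr N N (resEquiv hXE hX a) (hres a)
      map_one' := MulEquiv.ext fun q => by
        obtain ⟨x, rfl⟩ := hπ q
        exact congrArg π (Subtype.ext (ap_one _))
      map_mul' := fun a b => MulEquiv.ext fun q => by
        obtain ⟨x, rfl⟩ := hπ q
        exact congrArg π (Subtype.ext (ap_mul _ _ _)) }
  have hρ : ∀ (a : L) (x : X), ρ a (π x) = π ⟨ap (a : MulAut E) x, hX _ a.2 _ x.2⟩ := fun _ _ => rfl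
  let cj : P →* MulAut E := MulAut.conjNormal
  let U : Subgroup L := cj.range.subgroupOf L
  have hUp : IsPGroup p U := by
    refine IsPGroup.of_equiv ?_ (Subgroup.subgroupOfEquivOfLe (H := cj.range) (K := L) ?_).symm
    · exact hP.of_surjective cj.rangeRestrict cj.rangeRestrict_surjective
    · rintro _ ⟨g, rfl⟩; exact hV.le g
  let c : MulAut (X ⧸ N) := ρ ⟨cj g₀, hV.le g₀⟩
  have hcE : ∀ e ∈ E, ρ ⟨cj e, hV.le e⟩ = 1 := fun e he => MulEquiv.ext fun q => by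
    obtain ⟨x, rfl⟩ := hπ q
    rw [hρ, MulAut.one_apply, eq_comm, hπeq]
    show (x : P)⁻¹ * ap (cj e) x ∈ K
    rw [ap_conj e (hXE x.2)]
    exact hE e he _ x.2
  have hρg : ∀ g : P, ∃ i : ℕ, ρ ⟨cj g, hV.le g⟩ = c ^ i := fun g => by
    obtain ⟨i, e, he, rfl⟩ := exists_pow_mul hV.index hg₀ g
    refine ⟨i, ?_⟩
    rw [show (⟨cj (g₀ ^ i * e), hV.le _⟩ : L) = ⟨cj g₀, hV.le g₀⟩ ^ i * ⟨cj e, hV.le e⟩ from
      Subtype.ext (show cj (g₀ ^ i * e) = cj g₀ ^ i * cj e by rw [map_mul, map_pow]), map_mul, map_pow, hcE e he,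
      mul_one]
  have hUmap : U.map ρ = Subgroup.zpowers c := by
    refine le_antisymm ?_ ((Subgroup.zpowers_le).mpr ⟨⟨cj g₀, hV.le g₀⟩, ⟨g₀, rfl⟩, rfl⟩)
    rintro _ ⟨⟨u, hu⟩, ⟨g, hg⟩, rfl⟩
    obtain ⟨i, hi⟩ := hρg g
    have : (⟨u, hu⟩ : L) = ⟨cj g, hV.le g⟩ := Subtype.ext hg.symm
    rw [this, hi]
    exact Subgroup.npow_mem_zpowers c i
  obtain ⟨k₀, hk₀⟩ := hP g₀
  have hck : c ^ p ^ k₀ = 1 := by
    rw [← map_pow, show (⟨cj g₀, hV.le g₀⟩ : L) ^ p ^ k₀ = 1 from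
      Subtype.ext (by rw [SubgroupClass.coe_pow, ← map_pow, hk₀, map_one]; rfl), map_one]
  -- the hyperplane
  let H' : Subgroup (X ⧸ N) := (H.subgroupOf X).map π
  have hKH : K ≤ H := fun k hk => (hH k (hKX hk)).mpr (K.mul_mem (K.inv_mem hk) (hKnP.conj_mem k hk g₀))
  have hmemmap : ∀ (A : Subgroup P), K ≤ A → ∀ x : X, π x ∈ (A.subgroupOf X).map π ↔ (x : P) ∈ A := by
    intro A hA x
    refine ⟨?_, fun h => Subgroup.mem_map_of_mem π h⟩
    rintro ⟨y, hy, hyx⟩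
    have := A.mul_mem (show (y : P) ∈ A from hy) (hA ((hπeq y x).mp hyx))
    rwa [mul_inv_cancel_left] at this
  have hH' : ∀ q, q ∈ H' ↔ c q = q := by
    intro q
    obtain ⟨x, rfl⟩ := hπ q
    rw [hmemmap H hKH, hρ, eq_comm, hπeq, hH x x.2]
    show _ ↔ (x : P)⁻¹ * ap (cj g₀) x ∈ K
    rw [ap_conj g₀ (hXE x.2)]
  have hidx' : H'.index = p := by
    have h2 := Subgroup.card_mul_index (H.subgroupOf X)
    rw [Nat.card_congr (Subgroup.subgroupOfEquivOfLe hHX).toEquiv, hidx, mul_comm p] at h2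
    rw [Subgroup.index_map_eq _ hπ (by rw [QuotientGroup.ker_mk']; exact fun x hx => hKH hx)]
    exact Nat.eq_of_mul_eq_mul_left Nat.card_pos h2
  obtain ⟨a₀, ha₀, x₀, hx₀, hmv⟩ := hmove
  have hcT : c ^ p = 1 ∧ c ≠ 1 := by
    refine ⟨MulEquiv.ext fun q => ?_, fun h => hmv ?_⟩
    · have hfix : c (q⁻¹ * c q) = q⁻¹ * c q := by
        have hker : (disp c).ker = H' := Subgroup.ext fun y => by rw [MonoidHom.mem_ker, disp_eq_one, hH']
        have hR : Nat.card (disp c).range = p := by rw [← Subgroup.index_ker, hker, hidx']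
        have hh := CfsgLib.FusionFlag.stabilizes_step (K := ⊥) (L := (disp c).range) bot_le
          (by rw [hR, Subgroup.card_bot, mul_one]) hck (fun y hy => by
            obtain ⟨z, rfl⟩ := hy
            exact ⟨c z, by rw [disp_apply, disp_apply, map_mul, map_inv]⟩)
          (fun y hy => by rw [Subgroup.mem_bot] at hy ⊢; rw [hy, map_one]) _ ⟨q, rfl⟩
        rw [Subgroup.mem_bot, inv_mul_eq_one] at hh
        exact hh.symm
      rw [CfsgLib.Fusion.coe_pow_apply_of_fixed hfix, MulAut.one_apply]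
      obtain ⟨x, hx⟩ := hπ (q⁻¹ * c q)
      rw [← hx, ← map_pow, (hπ1 _).mpr (hexp _ x.2), mul_one]
    · refine (hmemmap H hKH ⟨_, hX _ ha₀ _ (hHX hx₀)⟩).mp ((hH' _).mpr ?_)
      rw [h, MulAut.one_apply]
  have hpA : ¬ p ^ 2 ∣ Nat.card ρ.range := by
    intro hdvd
    let σ := ρ.rangeRestrict
    have hs : Function.Surjective σ := ρ.rangeRestrict_surjective
    have hcard : Nat.card (U.map σ) = p := by
      have : (U.map σ).map ρ.range.subtype = Subgroup.zpowers c := by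
        rw [Subgroup.map_map, ← hUmap]; rfl
      rw [← Subgroup.card_map_of_injective ρ.range.subtype_injective, this, Nat.card_zpowers,
        orderOf_eq_prime hcT.1 hcT.2]
    have h1 := Subgroup.card_mul_index (U.map σ)
    rw [hcard] at h1
    have h2 : p ∣ (U.map σ).index := by
      rw [← h1, pow_two] at hdvd
      exact (Nat.mul_dvd_mul_iff_left hp.out.pos).mp hdvd
    exact hV.sylow (h2.trans (Subgroup.index_map_dvd U hs))
  have hgen : ∀ A ≤ ρ.range, c ∈ A → (∀ a ∈ ρ.range, ∀ b ∈ A, a * b * a⁻¹ ∈ A) → A = ρ.range := by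
    intro A hA hcA hAn
    let M := (A.comap ρ).map L.subtype
    have hM : M = L := by
      refine hV.gen M (Subgroup.map_subtype_le _) (fun g => ⟨⟨cj g, hV.le g⟩, ?_, rfl⟩) ?_
      · obtain ⟨i, hi⟩ := hρg g
        show ρ _ ∈ A
        rw [hi]; exact A.pow_mem hcA i
      · rintro a ha _ ⟨b, hb, rfl⟩
        refine ⟨⟨a, ha⟩ * b * ⟨a, ha⟩⁻¹, ?_, rfl⟩
        show ρ _ ∈ A
        rw [map_mul, map_mul, map_inv]
        exact hAn _ ⟨_, rfl⟩ _ hb
    refine le_antisymm hA ?_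
    rintro _ ⟨a, rfl⟩
    obtain ⟨b, hb, hba⟩ := hM.ge a.2
    rw [← show b = a from Subtype.ext hba]
    exact hb
  obtain ⟨D, Pl, s, n, hDH, hsH, hsD, hcD, hfixD, hmaxD, hctr, ⟨a, ⟨a, rfl⟩, has⟩, hinvPl, hsPl, hcPl, hmeet, hjoin,
    ⟨n₀, hn₀⟩, hncomm, hns, hnD, hnPl⟩ := exists_split (fun q => by
      obtain ⟨x, rfl⟩ := hπ q
      rw [← map_pow, hπ1]; exact hexp _ x.2) ρ.range hpA ⟨_, rfl⟩ hck hgen H' hH' hidx'
      ⟨_, ⟨⟨a₀, ha₀⟩, rfl⟩, π ⟨x₀, hHX hx₀⟩, Subgroup.mem_map_of_mem π hx₀,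
        fun h => hmv (by rw [hρ, hmemmap H hKH] at h; exact h)⟩
  obtain ⟨m, hm, hmU⟩ := exists_normalizing_lift ρ hUp hV.sylow (n := n₀) fun u hu => by
    rw [map_mul, map_mul, map_inv, hn₀, hUmap]
    have h1 : ρ u ∈ Subgroup.zpowers c := hUmap ▸ Subgroup.mem_map_of_mem ρ hu
    obtain ⟨i, hi⟩ := Subgroup.mem_zpowers_iff.mp h1
    rw [← hi, show n * c ^ i * n⁻¹ = c ^ i from by
      rw [(Commute.zpow_right hncomm i).eq, mul_inv_cancel_right]]
    exact Subgroup.zpow_mem_zpowers c i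
  obtain ⟨s₁, rfl⟩ := hπ s
  set pull : Subgroup (X ⧸ N) → Subgroup P := fun A => (A.comap π).map X.subtype with hpull
  have hmem : ∀ (A : Subgroup (X ⧸ N)) (x : X), (x : P) ∈ pull A ↔ π x ∈ A := fun A x => by
    refine ⟨?_, fun h => ⟨x, h, rfl⟩⟩
    rintro ⟨y, hy, hyx⟩
    rwa [← show y = x from Subtype.ext hyx]
  have hle : ∀ A, pull A ≤ X := fun A => Subgroup.map_subtype_le _
  have hKle : ∀ A, K ≤ pull A := fun A k hk => (hmem A ⟨k, hKX hk⟩).mpr (by
    rw [(hπ1 _).mpr hk]; exact one_mem _)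
  have hcard : ∀ A, Nat.card (pull A) = Nat.card A * Nat.card K := by
    intro A
    rw [hpull, Subgroup.card_map_of_injective X.subtype_injective]
    have h1 := Subgroup.card_mul_index (π.subgroupComap A).ker
    rw [Subgroup.index_ker, MonoidHom.range_eq_top.mpr (π.subgroupComap_surjective_of_surjective A hπ),
      Subgroup.card_top] at h1
    rw [← h1, mul_comm]
    congr 1
    refine Nat.card_congr
      { toFun := fun y => ⟨((y.1 : X) : P), (hπ1 _).mp (congrArg Subtype.val y.2)⟩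
        invFun := fun k => ⟨⟨⟨k, hKX k.2⟩, show π _ ∈ A by rw [(hπ1 _).mpr k.2]; exact one_mem A⟩,
          Subtype.ext ((hπ1 _).mpr k.2)⟩
        left_inv := fun y => rfl
        right_inv := fun k => rfl }
  have hH2 : H = pull H' := by
    refine le_antisymm (fun x hx => (hmem H' ⟨x, hHX hx⟩).mpr (Subgroup.mem_map_of_mem π hx)) ?_
    rintro _ ⟨x, hx, rfl⟩
    exact (hmemmap H hKH x).mp hx
  refine ⟨pull D, pull Pl, (s₁ : P), (m : MulAut E), hKle D, ?_, (hmemmap H hKH s₁).mp hsH,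
    fun h => hsD ((hmem D s₁).mp h), by rw [hH2, hcard, hcard, hcD, mul_assoc], ?_, ?_, ?_,
    ⟨a, a.2, fun h => has ?_⟩, ?_, ?_, (hmem Pl s₁).mpr hsPl, hKle Pl, hle Pl, by rw [hcard, hcPl], ?_, ?_,
    m.2, ?_, ?_, ?_, ?_⟩
  · rw [hH2]; exact Subgroup.map_mono (Subgroup.comap_mono hDH)
  · rintro b hb _ ⟨x, hx, rfl⟩
    have h := hfixD _ ⟨⟨b, hb⟩, rfl⟩ _ hx
    rw [hρ, eq_comm, hπeq] at h
    exact h
  · intro x hx h
    refine (hmem D ⟨x, hx⟩).mpr (hmaxD _ ?_)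
    rintro _ ⟨b, rfl⟩
    rw [hρ, eq_comm, hπeq]
    exact h b b.2
  · intro x hx
    obtain ⟨i, hi⟩ := Subgroup.mem_zpowers_iff.mp (hctr (π ⟨x, hx⟩))
    have h2 : π (s₁ ^ i) = π (⟨x, hx⟩⁻¹ * ⟨g₀ * x * g₀⁻¹, by
        rw [← ap_conj g₀ (hXE hx)]; exact hX _ (hV.le g₀) x hx⟩) := by
      rw [map_zpow, hi, map_mul, map_inv]
      congr 1
      rw [hρ]
      exact congrArg π (Subtype.ext (ap_conj g₀ (hXE hx)))
    rw [hπeq] at h2
    have h3 := Subgroup.mul_mem (K ⊔ Subgroup.zpowers (s₁ : P))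
      (Subgroup.mem_sup_right (Subgroup.zpow_mem_zpowers (s₁ : P) i)) (Subgroup.mem_sup_left h2)
    simpa [Subgroup.coe_zpow, mul_assoc] using h3
  · rw [hρ, hmemmap H hKH]
    exact h
  · rintro b hb _ ⟨x, hx, rfl⟩
    refine (hmem D ⟨_, hX b hb _ x.2⟩).mpr ?_
    have h := hfixD _ ⟨⟨b, hb⟩, rfl⟩ _ hx
    rw [hρ] at h
    rw [h]; exact hx
  · rintro b hb _ ⟨x, hx, rfl⟩
    refine (hmem Pl ⟨_, hX b hb _ x.2⟩).mpr ?_
    have h := hinvPl _ ⟨⟨b, hb⟩, rfl⟩ _ hx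
    rwa [hρ] at h
  · refine le_antisymm ?_ (le_inf (hKle Pl) (hKle D))
    rintro x ⟨⟨y, hy, rfl⟩, hyD⟩
    exact (hπ1 y).mp (Subgroup.mem_bot.mp (hmeet.le ⟨hy, (hmem D y).mp hyD⟩))
  · refine le_antisymm (sup_le (hle Pl) (hle D)) fun x hx => ?_
    obtain ⟨u, hu, v, hv, huv⟩ := Subgroup.mem_sup.mp (hjoin.ge (Subgroup.mem_top (π ⟨x, hx⟩)))
    obtain ⟨u, rfl⟩ := hπ u
    obtain ⟨v, rfl⟩ := hπ v
    rw [← map_mul, hπeq] at huv
    have h3 := Subgroup.mul_mem (pull Pl ⊔ pull D) (Subgroup.mul_mem _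
      (Subgroup.mem_sup_left ((hmem Pl u).mpr hu)) (Subgroup.mem_sup_right ((hmem D v).mpr hv)))
      (Subgroup.mem_sup_left (hKle Pl huv))
    simpa [mul_assoc] using h3
  · intro g
    exact hmU ⟨cj g, hV.le g⟩ ⟨g, rfl⟩
  · refine (hπ1 (s₁ * ⟨_, hX _ m.2 _ s₁.2⟩)).mp ?_
    rw [map_mul, ← hρ m s₁, hm, hn₀, hns, mul_inv_cancel]
  · rintro _ ⟨x, hx, rfl⟩
    have h := hnD _ hx
    rw [← hn₀, ← hm, hρ, eq_comm, hπeq] at h
    exact h
  · rintro _ ⟨x, hx, rfl⟩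
    obtain ⟨i, hi⟩ := Subgroup.mem_zpowers_iff.mp (hnPl _ hx)
    rw [← hn₀, ← hm, hρ, ← map_mul, ← map_zpow, hπeq] at hi
    have h3 := Subgroup.mul_mem (K ⊔ Subgroup.zpowers (s₁ : P))
      (Subgroup.mem_sup_right (Subgroup.zpow_mem_zpowers (s₁ : P) i)) (Subgroup.mem_sup_left hi)
    simpa [Subgroup.coe_zpow, mul_assoc] using h3

end section'

end CfsgLib.RankThreePair
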